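import Mathlib

set_option autoImplicit false

namespace Cfsg.Agent.Lib.Helper90.Count

variable {G : Type*} [Group G]

/-- A subgroup all of whose elements occur in a list has at most as many elements as the list. -/
theorem card_le_of_forall_mem_list (Q : Subgroup G) (l : List G) (h : ∀ x ∈ Q, x ∈ l) :
    Nat.card Q ≤ l.length := by
  classical
  have h1 : (Q : Set G) ⊆ ↑l.toFinset := by
    intro x hx
    simpa using h x hx
  calc Nat.card Q = (Q : Set G).ncard := (Nat.card_coe_set_eq _)
    _ ≤ (↑l.toFinset : Set G).ncard := Set.ncard_le_ncard h1 (Finset.finite_toSet _)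
    _ = l.toFinset.card := Set.ncard_coe_finset _
    _ ≤ l.length := List.toFinset_card_le l

/-- Elements of the join of two elementwise commuting subgroups are products. -/
theorem mem_sup_of_commute {H K : Subgroup G} (hc : ∀ h ∈ H, ∀ k ∈ K, h * k = k * h) {x : G} :
    x ∈ H ⊔ K ↔ ∃ h ∈ H, ∃ k ∈ K, x = h * k := by
  constructor
  · intro hx
    let W : Subgroup G :=
      { carrier := {x | ∃ h ∈ H, ∃ k ∈ K, x = h * k}
        one_mem' := ⟨1, H.one_mem, 1, K.one_mem, by simp⟩
        mul_mem' := by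
          rintro _ _ ⟨h, hh, k, hk, rfl⟩ ⟨h', hh', k', hk', rfl⟩
          refine ⟨h * h', H.mul_mem hh hh', k * k', K.mul_mem hk hk', ?_⟩
          calc h * k * (h' * k') = h * (k * h') * k' := by group
            _ = h * (h' * k) * k' := by rw [hc h' hh' k hk]
            _ = h * h' * (k * k') := by group
        inv_mem' := by
          rintro _ ⟨h, hh, k, hk, rfl⟩
          refine ⟨h⁻¹, H.inv_mem hh, k⁻¹, K.inv_mem hk, ?_⟩
          calc (h * k)⁻¹ = k⁻¹ * h⁻¹ := by group
            _ = h⁻¹ * k⁻¹ := (hc h⁻¹ (H.inv_mem hh) k⁻¹ (K.inv_mem hk)).symm }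
    have hW : H ⊔ K ≤ W := by
      apply sup_le
      · intro h hh; exact ⟨h, hh, 1, K.one_mem, by simp⟩
      · intro k hk; exact ⟨1, H.one_mem, k, hk, by simp⟩
    exact hW hx
  · rintro ⟨h, hh, k, hk, rfl⟩
    exact Subgroup.mul_mem _ (Subgroup.mem_sup_left hh) (Subgroup.mem_sup_right hk)

/-- Computing a relative index from a complete invariant of the cosets. -/
theorem relIndex_eq_card_of_invariant {α : Type*} (K N : Subgroup G) (f : G → α) (S : Finset α)
    (hf : ∀ a ∈ N, ∀ b ∈ N, (a⁻¹ * b ∈ K ↔ f a = f b))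
    (hS : ∀ n ∈ N, f n ∈ S) (hsurj : ∀ v ∈ S, ∃ n ∈ N, f n = v) :
    K.relIndex N = S.card := by
  classical
  rw [Subgroup.relIndex, Subgroup.index]
  choose r hrN hr using hsurj
  let φ : S → (N ⧸ K.subgroupOf N) := fun v => ((⟨r v.1 v.2, hrN v.1 v.2⟩ : N) : N ⧸ K.subgroupOf N)
  have hbij : Function.Bijective φ := by
    constructor
    · intro v w hvw
      have h1 : (⟨r v.1 v.2, hrN v.1 v.2⟩ : N)⁻¹ * (⟨r w.1 w.2, hrN w.1 w.2⟩ : N) ∈ K.subgroupOf N :=
        QuotientGroup.eq.mp hvw
      rw [Subgroup.mem_subgroupOf] at h1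
      have h2 := (hf _ (hrN v.1 v.2) _ (hrN w.1 w.2)).mp (by simpa using h1)
      rw [hr, hr] at h2
      exact Subtype.ext h2
    · intro c
      induction c using QuotientGroup.induction_on with
      | H a =>
        refine ⟨⟨f a, hS a a.2⟩, ?_⟩
        apply QuotientGroup.eq.mpr
        rw [Subgroup.mem_subgroupOf]
        have := (hf _ (hrN (f a) (hS a a.2)) a a.2).mpr (hr (f a) (hS a a.2))
        simpa using this
  rw [← Nat.card_congr (Equiv.ofBijective φ hbij)]
  simp

end Cfsg.Agent.Lib.Helper90.Count
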