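import Mathlib
import Cfsg.Agent.Lib.Helper90.Count

set_option autoImplicit false

namespace Cfsg.Agent.Lib.Helper90.Conj

variable {G : Type*} [Group G]

theorem conj_mul (n a b : G) : n * (a * b) * n⁻¹ = (n * a * n⁻¹) * (n * b * n⁻¹) := by group

theorem conj_conj (m n a : G) : (m * n) * a * (m * n)⁻¹ = m * (n * a * n⁻¹) * m⁻¹ := by group

theorem conj_eq {a n : G} (hna : n * a = a * n) : n * a * n⁻¹ = a := by
  rw [hna]; group

theorem inv_conj_eq {a n : G} (hna : n * a = a * n) : n⁻¹ * a * n = a := by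
  have := congrArg (fun u => n⁻¹ * u) hna
  simpa [mul_assoc] using this.symm

/-- If `n` commutes with the involution `a` and conjugates `b` to `a * b`, so does `n⁻¹`. -/
theorem inv_conj {a b n : G} (haa : a * a = 1) (hna : n * a = a * n)
    (hnb : n * b * n⁻¹ = a * b) : n⁻¹ * b * n = a * b := by
  have h1 : n⁻¹ * a = a * n⁻¹ := by
    have := congrArg (fun u => n⁻¹ * u * n⁻¹) hna
    simpa [mul_assoc] using this.symm
  have h2 : b = a * (n⁻¹ * b * n) := by
    calc b = n⁻¹ * (n * b * n⁻¹) * n := by group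
      _ = n⁻¹ * (a * b) * n := by rw [hnb]
      _ = (n⁻¹ * a) * b * n := by group
      _ = a * n⁻¹ * b * n := by rw [h1]
      _ = a * (n⁻¹ * b * n) := by group
  calc n⁻¹ * b * n = (a * a) * (n⁻¹ * b * n) := by rw [haa, one_mul]
    _ = a * (a * (n⁻¹ * b * n)) := by group
    _ = a * b := by rw [← h2]

/-- Membership in the normalizer from the two inclusions. -/
theorem mem_normalizer_of_conj {H : Subgroup G} {g : G}
    (h1 : ∀ h ∈ H, g * h * g⁻¹ ∈ H) (h2 : ∀ h ∈ H, g⁻¹ * h * g ∈ H) :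
    g ∈ Subgroup.normalizer (H : Set G) := by
  rw [Subgroup.mem_normalizer_iff]
  intro h
  refine ⟨h1 h, fun hh => ?_⟩
  have := h2 _ hh
  have e : g⁻¹ * (g * h * g⁻¹) * g = h := by group
  rwa [e] at this

theorem conj_mem_of_mem_normalizer {H : Subgroup G} {g : G}
    (hg : g ∈ Subgroup.normalizer (H : Set G)) {h : G} (hh : h ∈ H) : g * h * g⁻¹ ∈ H :=
  (Subgroup.mem_normalizer_iff.mp hg h).mp hh

theorem inv_conj_mem_of_mem_normalizer {H : Subgroup G} {g : G}
    (hg : g ∈ Subgroup.normalizer (H : Set G)) {h : G} (hh : h ∈ H) : g⁻¹ * h * g ∈ H :=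
  (Subgroup.mem_normalizer_iff''.mp hg h).mp hh

/-- A subgroup `K` all of whose elements conjugate `H` into itself lies in the normalizer. -/
theorem le_normalizer_of_conj {H K : Subgroup G} (h : ∀ k ∈ K, ∀ x ∈ H, k * x * k⁻¹ ∈ H) :
    K ≤ Subgroup.normalizer (H : Set G) := by
  intro k hk
  apply mem_normalizer_of_conj (h k hk)
  intro x hx
  have := h k⁻¹ (K.inv_mem hk) x hx
  simpa using this

/-- The normalizer of `V` normalizes the centralizer of `V`. -/
theorem conj_mem_centralizer {V : Subgroup G} {n c : G}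
    (hn : n ∈ Subgroup.normalizer (V : Set G)) (hc : c ∈ Subgroup.centralizer (V : Set G)) :
    n * c * n⁻¹ ∈ Subgroup.centralizer (V : Set G) := by
  rw [Subgroup.mem_centralizer_iff] at hc ⊢
  intro v hv
  have h1 : n⁻¹ * v * n ∈ V := inv_conj_mem_of_mem_normalizer hn hv
  have h2 := hc _ h1
  calc v * (n * c * n⁻¹) = n * ((n⁻¹ * v * n) * c) * n⁻¹ := by group
    _ = n * (c * (n⁻¹ * v * n)) * n⁻¹ := by rw [h2]
    _ = n * c * n⁻¹ * v := by group

/-- Elements of the join `H ⊔ K` are products if `K` normalizes `H`. -/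
theorem mem_sup_of_normalizes {H K : Subgroup G} (hn : ∀ h ∈ H, ∀ k ∈ K, k * h * k⁻¹ ∈ H)
    {x : G} : x ∈ H ⊔ K ↔ ∃ h ∈ H, ∃ k ∈ K, x = h * k := by
  constructor
  · intro hx
    let W : Subgroup G :=
      { carrier := {x | ∃ h ∈ H, ∃ k ∈ K, x = h * k}
        one_mem' := ⟨1, H.one_mem, 1, K.one_mem, by simp⟩
        mul_mem' := by
          rintro _ _ ⟨h, hh, k, hk, rfl⟩ ⟨h', hh', k', hk', rfl⟩
          refine ⟨h * (k * h' * k⁻¹), H.mul_mem hh (hn h' hh' k hk), k * k', K.mul_mem hk hk', ?_⟩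
          group
        inv_mem' := by
          rintro _ ⟨h, hh, k, hk, rfl⟩
          refine ⟨k⁻¹ * h⁻¹ * k⁻¹⁻¹, hn h⁻¹ (H.inv_mem hh) k⁻¹ (K.inv_mem hk), k⁻¹,
            K.inv_mem hk, ?_⟩
          group }
    have hW : H ⊔ K ≤ W := by
      apply sup_le
      · intro h hh; exact ⟨h, hh, 1, K.one_mem, by simp⟩
      · intro k hk; exact ⟨1, H.one_mem, k, hk, by simp⟩
    exact hW hx
  · rintro ⟨h, hh, k, hk, rfl⟩
    exact Subgroup.mul_mem _ (Subgroup.mem_sup_left hh) (Subgroup.mem_sup_right hk)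

/-- Commutators of a generated subgroup with a set lie in a subgroup `N` normalized by the
generated subgroup as soon as this holds for the generators. -/
theorem comm_mem_of_closure {S : Set G} {T : Set G} {N : Subgroup G}
    (hN : ∀ x ∈ Subgroup.closure S, ∀ n ∈ N, x * n * x⁻¹ ∈ N)
    (h : ∀ a ∈ S, ∀ c ∈ T, a * c * a⁻¹ * c⁻¹ ∈ N) :
    ∀ x ∈ Subgroup.closure S, ∀ c ∈ T, x * c * x⁻¹ * c⁻¹ ∈ N := by
  intro x hx
  induction hx using Subgroup.closure_induction with
  | mem a ha => exact h a ha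
  | one => intro c _; simp
  | mul x y hx hy ihx ihy =>
    intro c hc
    have e : x * y * c * (x * y)⁻¹ * c⁻¹ =
        x * (y * c * y⁻¹ * c⁻¹) * x⁻¹ * (x * c * x⁻¹ * c⁻¹) := by group
    rw [e]
    exact N.mul_mem (hN x hx _ (ihy c hc)) (ihx c hc)
  | inv x hx ih =>
    intro c hc
    have e : x⁻¹ * c * x⁻¹⁻¹ * c⁻¹ = x⁻¹ * (x * c * x⁻¹ * c⁻¹)⁻¹ * x⁻¹⁻¹ := by group
    rw [e]
    exact hN x⁻¹ (Subgroup.inv_mem _ hx) _ (N.inv_mem (ih c hc))

theorem zpow_eq_one_or_self {z : G} (hzz : z * z = 1) (n : ℤ) : z ^ n = 1 ∨ z ^ n = z := by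
  have hzinv : z⁻¹ = z := inv_eq_of_mul_eq_one_right hzz
  induction n using Int.induction_on with
  | zero => left; simp
  | succ n ih =>
    rcases ih with h | h
    · right; rw [zpow_add_one, h, one_mul]
    · left; rw [zpow_add_one, h, hzz]
  | pred n ih =>
    rcases ih with h | h
    · right; rw [zpow_sub_one, h, one_mul, hzinv]
    · left; rw [zpow_sub_one, h, hzinv, hzz]

theorem mem_zpowers_of_mul_self {z : G} (hzz : z * z = 1) {x : G} :
    x ∈ Subgroup.zpowers z ↔ x = 1 ∨ x = z := by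
  constructor
  · intro hx
    obtain ⟨n, rfl⟩ := Subgroup.mem_zpowers_iff.mp hx
    exact zpow_eq_one_or_self hzz n
  · rintro (h | h)
    · rw [h]; exact Subgroup.one_mem _
    · rw [h]; exact Subgroup.mem_zpowers z

/-- The subgroup generated by two commuting involutions. -/
theorem mem_closure_pair {z s : G} (hzz : z * z = 1) (hss : s * s = 1) (hsz : s * z = z * s)
    (x : G) : x ∈ Subgroup.closure ({z, s} : Set G) ↔ x = 1 ∨ x = z ∨ x = s ∨ x = z * s := by
  constructor
  · intro hx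
    have hle : Subgroup.closure ({z, s} : Set G) ≤ Subgroup.zpowers z ⊔ Subgroup.zpowers s := by
      rw [Subgroup.closure_le]
      intro v hv
      rcases hv with h | h
      · rw [h]; exact Subgroup.mem_sup_left (Subgroup.mem_zpowers z)
      · rw [Set.mem_singleton_iff] at h
        rw [h]; exact Subgroup.mem_sup_right (Subgroup.mem_zpowers s)
    have hx' := hle hx
    rw [Count.mem_sup_of_commute] at hx'
    · obtain ⟨h, hh, k, hk, rfl⟩ := hx'
      rcases (mem_zpowers_of_mul_self hzz).mp hh with h1 | h1 <;>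
        rcases (mem_zpowers_of_mul_self hss).mp hk with h2 | h2 <;> simp [h1, h2]
    · intro h hh k hk
      rcases (mem_zpowers_of_mul_self hzz).mp hh with h1 | h1 <;>
        rcases (mem_zpowers_of_mul_self hss).mp hk with h2 | h2 <;> simp [h1, h2, hsz]
  · have hz : z ∈ Subgroup.closure ({z, s} : Set G) := Subgroup.subset_closure (by simp)
    have hs : s ∈ Subgroup.closure ({z, s} : Set G) := Subgroup.subset_closure (by simp)
    rintro (h | h | h | h)
    · rw [h]; exact Subgroup.one_mem _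
    · rw [h]; exact hz
    · rw [h]; exact hs
    · rw [h]; exact Subgroup.mul_mem _ hz hs

theorem mem_centralizer_closure_pair {z s c : G} :
    c ∈ Subgroup.centralizer ((Subgroup.closure ({z, s} : Set G) : Subgroup G) : Set G) ↔
      c * z = z * c ∧ c * s = s * c := by
  rw [Subgroup.centralizer_closure, Subgroup.mem_centralizer_iff]
  constructor
  · intro h
    exact ⟨(h z (by simp)).symm, (h s (by simp)).symm⟩
  · rintro ⟨h1, h2⟩ v hv
    rcases hv with h | h
    · rw [h]; exact h1.symm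
    · rw [Set.mem_singleton_iff] at h
      rw [h]; exact h2.symm

end Cfsg.Agent.Lib.Helper90.Conj
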