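import Mathlib
import Cfsg.Agent.Lib.Helper31.CoprimeGen

set_option autoImplicit false

/-
helper90: a norm argument and a Frobenius averaging argument for automorphisms.

* `exists_fixed_norm` : `P` finite of odd order with `commutator P ≤ center P`, `α` an
  automorphism with `α ^ m = 1`, `N = x * α x * ... * α^(m-1) x` (`ordProd α x m`).  Then some
  `w` in the centre makes `N * w` a fixed point of `α`.
* `exists_conj` : `K` a finite subgroup normalized by `e`, with `C_K(e) = 1`: every `k * e`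
  (`k ∈ K`) is a `K`-conjugate of `e`.
* `abelian_of_frobenius_action` : `P` finite of odd order with `commutator P = center P`,
  `K` a group of automorphisms of order prime to `|P|`, normalized by the automorphism `e`, such
  that `K` has no fixed points on `P / Z(P)`, the fixed points of `e` are central and every power
  `e^i ≠ 1` has no fixed points on `K`.  Then `P` is abelian.
-/

namespace Cfsg.Agent.Lib.Helper90.TTNorm

open Cfsg.Agent.Lib.Helper31.CoprimeGen

open scoped commutatorElement IsMulCommutative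

variable {P : Type*} [Group P]

/-- `κ_x(y) = y⁻¹ x⁻¹ y x`. -/
def kap (x y : P) : P := y⁻¹ * x⁻¹ * y * x

theorem kap_mem_center (hcl : commutator P ≤ Subgroup.center P) (x y : P) :
    kap x y ∈ Subgroup.center P := by
  apply hcl
  have h : kap x y = ⁅y⁻¹, x⁻¹⁆ := by
    simp [kap, commutatorElement_def]
  rw [h, commutator_def]
  exact Subgroup.commutator_mem_commutator (Subgroup.mem_top _) (Subgroup.mem_top _)

theorem kap_mul (hcl : commutator P ≤ Subgroup.center P) (x y y' : P) :
    kap x (y * y') = kap x y * kap x y' := by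
  have hc := Subgroup.mem_center_iff.mp (kap_mem_center hcl x y)
  have h1 : kap x (y * y') = y'⁻¹ * kap x y * (x⁻¹ * y' * x) := by
    simp only [kap]; group
  have h2 : kap x y' = y'⁻¹ * (x⁻¹ * y' * x) := by
    simp only [kap]; group
  rw [h1, hc y'⁻¹, h2, mul_assoc]

theorem map_mem_center (α : MulAut P) {z : P} (hz : z ∈ Subgroup.center P) :
    α z ∈ Subgroup.center P := by
  rw [Subgroup.mem_center_iff] at hz ⊢
  intro g
  have h := hz (α⁻¹ g)
  have h2 := congrArg α h
  simpa [map_mul] using h2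

/-- The action of an automorphism on the centre. -/
def az (α : MulAut P) (z : ↥(Subgroup.center P)) : ↥(Subgroup.center P) :=
  ⟨α z, map_mem_center α z.2⟩

theorem az_mul (α : MulAut P) (a b : ↥(Subgroup.center P)) : az α (a * b) = az α a * az α b := by
  apply Subtype.ext; simp [az]

/-- `w ↦ w * (α w)⁻¹` on the centre. -/
def delta (α : MulAut P) : ↥(Subgroup.center P) →* ↥(Subgroup.center P) where
  toFun w := w * (az α w)⁻¹
  map_one' := by
    apply Subtype.ext; simp [az]
  map_mul' a b := by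
    rw [az_mul, mul_inv, mul_mul_mul_comm]

theorem delta_apply (α : MulAut P) (w : ↥(Subgroup.center P)) :
    delta α w = w * (az α w)⁻¹ := rfl

theorem mul_inv_pow_mem_range (α : MulAut P) (z : ↥(Subgroup.center P)) (j : ℕ) :
    z * (az (α ^ j) z)⁻¹ ∈ (delta α).range := by
  induction j with
  | zero =>
    have h : az (α ^ 0) z = z := by apply Subtype.ext; simp [az]
    rw [h, mul_inv_cancel]; exact one_mem _
  | succ j ih =>
    have h1 : az (α ^ (j+1)) z = az α (az (α ^ j) z) := by
      apply Subtype.ext; simp [az, pow_succ']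
    have h2 : z * (az (α ^ (j+1)) z)⁻¹ =
        (z * (az (α ^ j) z)⁻¹) * delta α (az (α ^ j) z) := by
      rw [h1, delta_apply]; group
    rw [h2]; exact mul_mem ih ⟨_, rfl⟩

/-- The central elements `κ_x(α^i x)`. -/
def cz (hcl : commutator P ≤ Subgroup.center P) (α : MulAut P) (x : P) (i : ℕ) :
    ↥(Subgroup.center P) :=
  ⟨kap x ((α ^ i) x), kap_mem_center hcl _ _⟩

theorem cz_zero (hcl : commutator P ≤ Subgroup.center P) (α : MulAut P) (x : P) :
    cz hcl α x 0 = 1 := by
  apply Subtype.ext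
  simp only [cz, kap, pow_zero, MulAut.one_apply, Subgroup.coe_one]
  group

theorem cz_sub (hcl : commutator P ≤ Subgroup.center P) (α : MulAut P) (m : ℕ) (hα : α ^ m = 1)
    (x : P) (i : ℕ) (hi : i ≤ m) :
    cz hcl α x (m - i) = (az (α ^ (m - i)) (cz hcl α x i))⁻¹ := by
  apply Subtype.ext
  have h1 : (α ^ (m - i)) ((α ^ i) x) = x := by
    rw [← MulAut.mul_apply, ← pow_add, Nat.sub_add_cancel hi, hα, MulAut.one_apply]
  simp only [cz, az, kap, Subgroup.coe_inv, map_mul, map_inv, h1]
  group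

theorem kap_ordProd (hcl : commutator P ≤ Subgroup.center P) (α : MulAut P) (x : P) (k : ℕ) :
    (⟨kap x (ordProd α x k), kap_mem_center hcl _ _⟩ : ↥(Subgroup.center P)) =
      ∏ i ∈ Finset.range k, cz hcl α x i := by
  induction k with
  | zero =>
    apply Subtype.ext
    simp [ordProd, kap]
  | succ k ih =>
    rw [Finset.prod_range_succ, ← ih]
    apply Subtype.ext
    simp only [ordProd_succ, kap_mul hcl, cz, Subgroup.coe_mul]

theorem prod_sq_mem (hcl : commutator P ≤ Subgroup.center P) (α : MulAut P) (m : ℕ)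
    (hα : α ^ m = 1) (x : P) :
    (∏ i ∈ Finset.range m, cz hcl α x i) * (∏ i ∈ Finset.range m, cz hcl α x i) ∈
      (delta α).range := by
  cases m with
  | zero => simp
  | succ n =>
    have h1 : ∏ i ∈ Finset.range (n+1), cz hcl α x i =
        ∏ i ∈ Finset.range n, cz hcl α x (i+1) := by
      rw [Finset.prod_range_succ', cz_zero, mul_one]
    have h2 : ∏ i ∈ Finset.range n, cz hcl α x (i+1) =
        ∏ i ∈ Finset.range n, (az (α ^ (n + 1 - (i+1))) (cz hcl α x (i+1)))⁻¹ := by
      calc ∏ i ∈ Finset.range n, cz hcl α x (i+1)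
          = ∏ i ∈ Finset.range n, cz hcl α x (n - 1 - i + 1) :=
            (Finset.prod_range_reflect (fun i => cz hcl α x (i+1)) n).symm
        _ = ∏ i ∈ Finset.range n, (az (α ^ (n + 1 - (i+1))) (cz hcl α x (i+1)))⁻¹ := by
            apply Finset.prod_congr rfl
            intro i hi
            have hi' := Finset.mem_range.mp hi
            have h3 : n - 1 - i + 1 = n + 1 - (i + 1) := by omega
            rw [h3]
            exact cz_sub hcl α (n+1) hα x (i+1) (by omega)
    rw [h1]
    nth_rewrite 2 [h2]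
    rw [← Finset.prod_mul_distrib]
    apply Subgroup.prod_mem
    intro i _
    exact mul_inv_pow_mem_range α _ _

/-- The norm argument: a fixed point in the coset `N * Z(P)`. -/
theorem exists_fixed_norm [Finite P] (hodd : Odd (Nat.card P))
    (hcl : commutator P ≤ Subgroup.center P) (α : MulAut P) (m : ℕ) (hα : α ^ m = 1) (x : P) :
    ∃ w ∈ Subgroup.center P, α (ordProd α x m * w) = ordProd α x m * w := by
  obtain ⟨c, hc⟩ : ∃ c : ↥(Subgroup.center P), c = ∏ i ∈ Finset.range m, cz hcl α x i :=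
    ⟨_, rfl⟩
  have hc2 : c * c ∈ (delta α).range := by rw [hc]; exact prod_sq_mem hcl α m hα x
  have hcodd : Odd (Nat.card ↥(Subgroup.center P)) :=
    Odd.of_dvd_nat hodd (Subgroup.card_subgroup_dvd_card _)
  obtain ⟨t, ht⟩ := hcodd
  have hc3 : c ∈ (delta α).range := by
    have h1 : c ^ (2 * t + 1) = 1 := by rw [← ht]; exact pow_card_eq_one'
    have h2 : c = (c * c) ^ (t + 1) := by
      rw [← pow_two, ← pow_mul]
      have h3 : 2 * (t + 1) = (2 * t + 1) + 1 := by ring
      rw [h3, pow_succ, h1, one_mul]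
    rw [h2]; exact pow_mem hc2 _
  obtain ⟨w, hw⟩ := hc3
  refine ⟨w, w.2, ?_⟩
  have hw' : (w : P) * (α w)⁻¹ = kap x (ordProd α x m) := by
    have h1 := congrArg (Subtype.val) hw
    rw [hc, ← kap_ordProd hcl α x m] at h1
    simpa [delta_apply, az] using h1
  have hN : α (ordProd α x m) = x⁻¹ * ordProd α x m * x := by
    rw [map_ordProd, ordProd_succ, hα]; simp [mul_assoc]
  have hαw : α w = (kap x (ordProd α x m))⁻¹ * w := by
    rw [← hw']; group
  rw [map_mul, hN, hαw]; simp only [kap]; group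

/-- If `e` normalizes the finite subgroup `K` and `C_K(e) = 1`, every element of the coset
`K e` is a `K`-conjugate of `e`. -/
theorem exists_conj {Γ : Type*} [Group Γ] (K : Subgroup Γ) [Finite K] (e : Γ)
    (hn : ∀ k ∈ K, e * k * e⁻¹ ∈ K) (hfix : ∀ k ∈ K, e * k = k * e → k = 1) :
    ∀ k ∈ K, ∃ g ∈ K, k * e = g * e * g⁻¹ := by
  intro k hk
  let f : ↥K → ↥K := fun g => ⟨g * e * (g : Γ)⁻¹ * e⁻¹, by
    have h1 := hn (g : Γ)⁻¹ (K.inv_mem g.2)
    have h2 : (g : Γ) * e * (g : Γ)⁻¹ * e⁻¹ = g * (e * (g : Γ)⁻¹ * e⁻¹) := by group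
    rw [h2]; exact K.mul_mem g.2 h1⟩
  have hinj : Function.Injective f := by
    intro g h hgh
    have h1 : (g : Γ) * e * (g : Γ)⁻¹ * e⁻¹ = h * e * (h : Γ)⁻¹ * e⁻¹ :=
      congrArg Subtype.val hgh
    have h3 : (g : Γ) * e * (g : Γ)⁻¹ = h * e * (h : Γ)⁻¹ := mul_right_cancel h1
    have h2 : e * ((h : Γ)⁻¹ * g) = ((h : Γ)⁻¹ * g) * e := by
      calc e * ((h : Γ)⁻¹ * g) = (h : Γ)⁻¹ * (h * e * (h : Γ)⁻¹) * g := by group
        _ = (h : Γ)⁻¹ * (g * e * (g : Γ)⁻¹) * g := by rw [h3]
        _ = ((h : Γ)⁻¹ * g) * e := by group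
    have h4 := hfix _ (K.mul_mem (K.inv_mem h.2) g.2) h2
    apply Subtype.ext
    exact (inv_mul_eq_one.mp h4).symm
  have hsurj : Function.Surjective f := Finite.surjective_of_injective hinj
  obtain ⟨g, hg⟩ := hsurj ⟨k, hk⟩
  refine ⟨g, g.2, ?_⟩
  have h1 : (g : Γ) * e * (g : Γ)⁻¹ * e⁻¹ = k := congrArg Subtype.val hg
  rw [← h1]; group

theorem pow_normalizes {Γ : Type*} [Group Γ] (K : Subgroup Γ) (e : Γ)
    (hn : ∀ k ∈ K, e * k * e⁻¹ ∈ K) (i : ℕ) : ∀ k ∈ K, e ^ i * k * (e ^ i)⁻¹ ∈ K := by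
  induction i with
  | zero => intro k hk; simpa using hk
  | succ i ih =>
    intro k hk
    have h1 : e ^ (i+1) * k * (e ^ (i+1))⁻¹ = e * (e ^ i * k * (e ^ i)⁻¹) * e⁻¹ := by
      rw [pow_succ']; group
    rw [h1]; exact hn _ (ih k hk)

theorem mul_pow_mul_inv_mem {Γ : Type*} [Group Γ] (K : Subgroup Γ) (e : Γ)
    (hn : ∀ k ∈ K, e * k * e⁻¹ ∈ K) (j : ℕ) : ∀ k ∈ K, (k * e) ^ j * (e ^ j)⁻¹ ∈ K := by
  induction j with
  | zero => intro k _; simp
  | succ j ih =>
    intro k hk
    have h1 : (k * e) ^ (j+1) * (e ^ (j+1))⁻¹ =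
        ((k * e) ^ j * (e ^ j)⁻¹) * (e ^ j * k * (e ^ j)⁻¹) := by
      rw [pow_succ, pow_succ]; group
    rw [h1]; exact K.mul_mem (ih k hk) (pow_normalizes K e hn j k hk)

/-- Frobenius averaging: see the file header. -/
theorem abelian_of_frobenius_action [Finite P] (hodd : Odd (Nat.card P))
    (hsp : commutator P = Subgroup.center P) (K : Subgroup (MulAut P))
    (hcop : (Nat.card K).Coprime (Nat.card P)) (e : MulAut P)
    (hn : ∀ k ∈ K, e * k * e⁻¹ ∈ K)
    (ha : ∀ x : P, (∀ k ∈ K, x⁻¹ * k x ∈ Subgroup.center P) → x ∈ Subgroup.center P)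
    (hF2 : ∀ x : P, e x = x → x ∈ Subgroup.center P)
    (hFrob : ∀ i : ℕ, e ^ i ≠ 1 → ∀ k ∈ K, e ^ i * k = k * e ^ i → k = 1) :
    ∀ x : P, x ∈ Subgroup.center P := by
  classical
  intro x
  by_cases he : e = 1
  · exact hF2 x (by rw [he]; rfl)
  let _ : Fintype ↥K := Fintype.ofFinite _
  have hcl : commutator P ≤ Subgroup.center P := hsp.le
  obtain ⟨m, hm⟩ : ∃ m : ℕ, m = orderOf e := ⟨_, rfl⟩
  have hem : e ^ m = 1 := by rw [hm]; exact pow_orderOf_eq_one e
  have hmpos : 0 < m := by rw [hm]; exact orderOf_pos e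
  have hne : ∀ i, 0 < i → i < m → e ^ i ≠ 1 := fun i h0 h1 =>
    pow_ne_one_of_lt_orderOf h0.ne' (hm ▸ h1)
  have hnpow := pow_normalizes K e hn
  have hof : ∀ y : P, Abelianization.of y = 1 ↔ y ∈ Subgroup.center P := by
    intro y
    rw [← hsp, ← Abelianization.ker_of, MonoidHom.mem_ker]
  have hT : ∀ y : P, ∏ k : ↥K, Abelianization.of ((k : MulAut P) y) = 1 := by
    intro y
    obtain ⟨t, ht'⟩ : ∃ t : P, Abelianization.of t =
        ∏ k : ↥K, Abelianization.of ((k : MulAut P) y) :=
      QuotientGroup.mk_surjective _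
    have hcen : t ∈ Subgroup.center P := by
      apply ha
      intro k' hk'
      rw [← hof, map_mul, map_inv]
      have h1 : Abelianization.of ((k' : MulAut P) t) = Abelianization.of t := by
        have h2 : Abelianization.of (k' t) =
            Abelianization.map k'.toMonoidHom (Abelianization.of t) := by
          rw [Abelianization.map_of]; rfl
        rw [h2, ht', map_prod]
        have h3 : ∀ k : ↥K, Abelianization.map k'.toMonoidHom
            (Abelianization.of ((k : MulAut P) y)) =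
            Abelianization.of (((⟨k', hk'⟩ * k : ↥K) : MulAut P) y) := by
          intro k; rw [Abelianization.map_of]; rfl
        simp_rw [h3]
        exact Fintype.prod_equiv (Equiv.mulLeft (⟨k', hk'⟩ : ↥K)) _ _ (fun k => rfl)
      rw [h1, inv_mul_cancel]
    rw [← ht']; exact (hof t).mpr hcen
  have hfix1 : ∀ k ∈ K, e * k = k * e → k = 1 := fun k hk h =>
    hFrob 1 (by simpa using he) k hk (by simpa using h)
  have hc : ∀ k ∈ K, ∀ y : P, ordProd (k * e) y m ∈ Subgroup.center P := by
    intro k hk y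
    obtain ⟨g, hg, hge⟩ := exists_conj K e hn hfix1 k hk
    have hpow : (k * e) ^ m = 1 := by rw [hge, conj_pow, hem]; group
    obtain ⟨w, hw, hfix⟩ := exists_fixed_norm hodd hcl (k * e) m hpow y
    have h1 : e (g⁻¹ (ordProd (k * e) y m * w)) = g⁻¹ (ordProd (k * e) y m * w) := by
      have h2 : (k * e) (ordProd (k * e) y m * w) =
          g (e (g⁻¹ (ordProd (k * e) y m * w))) := by
        rw [hge]; rfl
      rw [hfix] at h2
      have h3 := congrArg (g⁻¹ : MulAut P) h2
      simpa using h3.symm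
    have h4 := hF2 _ h1
    have h5 : ordProd (k * e) y m * w ∈ Subgroup.center P := by
      have h6 := map_mem_center g h4
      simpa using h6
    have h6 := Subgroup.mul_mem _ h5 (Subgroup.inv_mem _ hw)
    simpa using h6
  have hσ := mul_pow_mul_inv_mem K e hn
  have hd : ∀ i, 0 < i → i < m → ∀ y : P,
      ∏ k : ↥K, Abelianization.of ((((k : MulAut P) * e) ^ i) y) = 1 := by
    intro i hi0 him y
    have hei := hne i hi0 him
    let σ : ↥K → ↥K := fun k => ⟨((k : MulAut P) * e) ^ i * (e ^ i)⁻¹, hσ i k k.2⟩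
    have hsurj : Function.Surjective σ := by
      intro k₁
      obtain ⟨g, hg, hge⟩ := exists_conj K (e ^ i) (hnpow i) (hFrob i hei) k₁ k₁.2
      have hk₂ : g * e * g⁻¹ * e⁻¹ ∈ K := by
        have h1 := hn g⁻¹ (K.inv_mem hg)
        have h2 : g * e * g⁻¹ * e⁻¹ = g * (e * g⁻¹ * e⁻¹) := by group
        rw [h2]; exact K.mul_mem hg h1
      refine ⟨⟨g * e * g⁻¹ * e⁻¹, hk₂⟩, ?_⟩
      apply Subtype.ext
      show (g * e * g⁻¹ * e⁻¹ * e) ^ i * (e ^ i)⁻¹ = k₁
      have h3 : g * e * g⁻¹ * e⁻¹ * e = g * e * g⁻¹ := by group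
      rw [h3, conj_pow, ← hge]; group
    have hbij : Function.Bijective σ := ⟨Finite.injective_iff_surjective.mpr hsurj, hsurj⟩
    have h1 : ∀ k : ↥K, Abelianization.of ((((k : MulAut P) * e) ^ i) y) =
        Abelianization.of (((σ k : ↥K) : MulAut P) ((e ^ i) y)) := by
      intro k
      have h2 : ((k : MulAut P) * e) ^ i = ((σ k : ↥K) : MulAut P) * e ^ i := by
        show _ = ((k : MulAut P) * e) ^ i * (e ^ i)⁻¹ * e ^ i
        group
      rw [h2]; rfl
    simp_rw [h1]
    rw [Fintype.prod_bijective σ hbij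
      (fun k => Abelianization.of (((σ k : ↥K) : MulAut P) ((e ^ i) y)))
      (fun k => Abelianization.of ((k : MulAut P) ((e ^ i) y))) (fun k => rfl)]
    exact hT _
  have hprod : ∀ k : ↥K,
      ∏ i ∈ Finset.range m, Abelianization.of ((((k : MulAut P) * e) ^ i) x) = 1 := by
    intro k
    rw [← of_ordProd]
    exact (hof _).mpr (hc k k.2 x)
  have htot : ∏ i ∈ Finset.range m,
      ∏ k : ↥K, Abelianization.of ((((k : MulAut P) * e) ^ i) x) = 1 := by
    rw [Finset.prod_comm]
    exact Finset.prod_eq_one (fun k _ => hprod k)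
  obtain ⟨n, hn1⟩ : ∃ n, m = n + 1 := ⟨m - 1, by omega⟩
  rw [hn1, Finset.prod_range_succ'] at htot
  have hzero : ∏ i ∈ Finset.range n,
      ∏ k : ↥K, Abelianization.of ((((k : MulAut P) * e) ^ (i+1)) x) = 1 := by
    apply Finset.prod_eq_one
    intro i hi
    have hi' := Finset.mem_range.mp hi
    exact hd (i+1) (by omega) (by omega) x
  rw [hzero, one_mul] at htot
  simp only [pow_zero, MulAut.one_apply, Finset.prod_const, Finset.card_univ] at htot
  have h1 : orderOf (Abelianization.of x) ∣ Nat.card ↥K := by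
    rw [Nat.card_eq_fintype_card]; exact orderOf_dvd_of_pow_eq_one htot
  have h2 : orderOf (Abelianization.of x) ∣ Nat.card P := by
    apply orderOf_dvd_of_pow_eq_one
    rw [← map_pow, pow_card_eq_one', map_one]
  have h3 : orderOf (Abelianization.of x) = 1 :=
    Nat.Coprime.eq_one_of_dvd (Nat.Coprime.coprime_dvd_left h1 hcop) h2
  exact (hof x).mp (orderOf_eq_one_iff.mp h3)

end Cfsg.Agent.Lib.Helper90.TTNorm
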