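import Mathlib
import Cfsg.Agent.Lib.Helper90.TTNorm
import Cfsg.Agent.Lib.Helper90.Conj
import Cfsg.Agent.Lib.Helper24.Coprime
import Cfsg.Agent.Lib.Helper24.ConjAction
import Cfsg.Agent.Lib.Helper48.CoprimeQ
import Cfsg.Agent.Lib.Helper31.CoprimeGen
import Cfsg.Agent.Lib.Helper53.PGroupBasics
import Cfsg.Agent.Lib.Helper53.SylowMore
import Cfsg.Agent.S3736
import Cfsg.Agent.S0026
import Cfsg.Agent.S0055

set_option autoImplicit false

/-
helper90: the core lemma behind Thompson's transitivity theorem.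

`P` a `p`-subgroup, `K` a `q`-subgroup (`q ≠ p`), `E` an abelian `p`-subgroup of a finite group,
`K` and `E` normalize `P`, `E` normalizes `K`, and `K` centralizes `C_P(E)`.  Then `K`
centralizes `P`, provided either `p` is odd (`core_odd`) or `P ⊔ E` has class at most two
(`core_class2`).
-/

namespace Cfsg.Agent.Lib.Helper90.TTCore

open scoped commutatorElement

open Cfsg.Agent.Lib.Helper90.Conj

variable {X : Type*} [Group X]

theorem coprime_p {p q : ℕ} [hp : Fact p.Prime] [hq : Fact q.Prime] (hqp : q ≠ p)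
    {K : Subgroup X} [Finite K] (hK : IsPGroup q K) : (Nat.card K).Coprime p := by
  obtain ⟨n, hn⟩ := IsPGroup.iff_card.mp hK
  rw [hn]
  exact Nat.Coprime.pow_left n ((Nat.coprime_primes hq.out hp.out).mpr hqp)

theorem card_coprime {p q : ℕ} [Fact p.Prime] [Fact q.Prime] (hqp : q ≠ p)
    {K P : Subgroup X} [Finite K] [Finite P] (hK : IsPGroup q K) (hP : IsPGroup p P) :
    (Nat.card K).Coprime (Nat.card P) :=
  IsPGroup.coprime_card_of_ne q p hqp K P hK hP

theorem orderOf_coprime_p [Finite X] {p q : ℕ} [Fact p.Prime] [Fact q.Prime] (hqp : q ≠ p)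
    {K : Subgroup X} (hK : IsPGroup q K) {k : X} (hk : k ∈ K) : (orderOf k).Coprime p :=
  Nat.Coprime.coprime_dvd_left (Subgroup.orderOf_dvd_natCard K hk) (coprime_p hqp hK)

theorem orderOf_coprime_card [Finite X] {p q : ℕ} [Fact p.Prime] [Fact q.Prime] (hqp : q ≠ p)
    {K P : Subgroup X} (hK : IsPGroup q K) (hP : IsPGroup p P) {k : X} (hk : k ∈ K) :
    (orderOf k).Coprime (Nat.card P) :=
  Nat.Coprime.coprime_dvd_left (Subgroup.orderOf_dvd_natCard K hk) (card_coprime hqp hK hP)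

/-- A `p`-group normalizing a nontrivial `p`-group centralizes a nontrivial element of it. -/
theorem exists_fixed_ne_one [Finite X] {p : ℕ} [Fact p.Prime] (P E : Subgroup X)
    (hP : IsPGroup p P) (hE : IsPGroup p E) (hEP : E ≤ Subgroup.normalizer (P : Set X))
    (hne : P ≠ ⊥) : ∃ x ∈ P, x ≠ 1 ∧ ∀ e ∈ E, e * x = x * e := by
  have hH : IsPGroup p (P ⊔ E : Subgroup X) := hP.to_sup_of_normal_left' hE hEP
  have hnorm : (P.subgroupOf (P ⊔ E)).Normal :=
    (Subgroup.normal_subgroupOf_iff_le_normalizer le_sup_left).mpr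
      (sup_le Subgroup.le_normalizer hEP)
  have hNne : P.subgroupOf (P ⊔ E) ≠ ⊥ := by
    intro hb
    apply hne
    rw [eq_bot_iff]
    intro x hx
    have h1 : (⟨x, Subgroup.mem_sup_left hx⟩ : ↥(P ⊔ E)) ∈ P.subgroupOf (P ⊔ E) :=
      Subgroup.mem_subgroupOf.mpr hx
    rw [hb, Subgroup.mem_bot] at h1
    rw [Subgroup.mem_bot]
    exact congrArg Subtype.val h1
  obtain ⟨z, hzN, hz1, hzc⟩ :=
    Cfsg.Agent.Lib.Helper53.PGroupBasics.exists_center_mem_normal hH (P.subgroupOf (P ⊔ E)) hNne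
  refine ⟨(z : X), Subgroup.mem_subgroupOf.mp hzN, fun h => hz1 (Subtype.ext h), ?_⟩
  intro e he
  have h1 := Subgroup.mem_center_iff.mp hzc ⟨e, Subgroup.mem_sup_right he⟩
  exact congrArg Subtype.val h1

theorem conj_mem_sup {A B : Subgroup X} {g : X} (hA : ∀ a ∈ A, g * a * g⁻¹ ∈ A)
    (hB : ∀ b ∈ B, g * b * g⁻¹ ∈ B) : ∀ u ∈ A ⊔ B, g * u * g⁻¹ ∈ A ⊔ B := by
  intro u hu
  have h1 : (A ⊔ B).map (MulAut.conj g).toMonoidHom ≤ A ⊔ B := by
    rw [Subgroup.map_sup]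
    apply sup_le_sup
    · rintro _ ⟨a, ha, rfl⟩
      exact hA a ha
    · rintro _ ⟨b, hb, rfl⟩
      exact hB b hb
  exact h1 (Subgroup.mem_map_of_mem _ hu)

/-- A finite abelian `p`-group in which any two elements of order dividing `p` lie in a common
cyclic subgroup is cyclic. -/
theorem exists_generator {A : Type*} [Group A] [Finite A] {p : ℕ} [hp : Fact p.Prime]
    (hA : IsPGroup p A) (hcomm : ∀ a b : A, a * b = b * a)
    (h : ∀ a b : A, a ^ p = 1 → b ^ p = 1 → b ≠ 1 → a ∈ Subgroup.zpowers b) :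
    ∃ e : A, ∀ f : A, f ∈ Subgroup.zpowers e := by
  obtain ⟨e, hmax⟩ := Finite.exists_max (fun x : A => orderOf x)
  refine ⟨e, ?_⟩
  have key : ∀ n : ℕ, ∀ f : A, orderOf f = n → f ∈ Subgroup.zpowers e := by
    intro n
    induction n using Nat.strong_induction_on with
    | _ n ih =>
      intro f hf
      by_cases hf1 : f = 1
      · rw [hf1]; exact one_mem _
      obtain ⟨t, ht⟩ := (IsPGroup.iff_orderOf.mp hA) f
      have ht0 : t ≠ 0 := by
        rintro rfl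
        rw [pow_zero, orderOf_eq_one_iff] at ht
        exact hf1 ht
      have hpdvd : p ∣ orderOf f := by
        rw [ht]; exact dvd_pow_self p ht0
      have hord : orderOf (f ^ p) = orderOf f / p := orderOf_pow_of_dvd hp.out.ne_zero hpdvd
      have hlt : orderOf (f ^ p) < n := by
        rw [hord, ← hf]; exact Nat.div_lt_self (orderOf_pos f) hp.out.one_lt
      have hmem := ih _ hlt (f ^ p) rfl
      obtain ⟨i, hi⟩ : ∃ i : ℕ, e ^ i = f ^ p :=
        (Submonoid.mem_powers_iff _ _).mp (mem_powers_iff_mem_zpowers.mpr hmem)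
      obtain ⟨s, hs⟩ := (IsPGroup.iff_orderOf.mp hA) e
      by_cases hpi : p ∣ i
      · obtain ⟨i', rfl⟩ := hpi
        have hg : (f * (e ^ i')⁻¹) ^ p = 1 := by
          rw [(show Commute f (e ^ i')⁻¹ from hcomm _ _).mul_pow, inv_pow, ← pow_mul,
            mul_comm i' p, hi, mul_inv_cancel]
        have hs0 : s ≠ 0 := by
          rintro rfl
          have h1 := hmax f
          simp only [hs, pow_zero] at h1
          have h2 : orderOf f = 1 := le_antisymm h1 (orderOf_pos f)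
          exact hf1 (orderOf_eq_one_iff.mp h2)
        have hb : (e ^ (p ^ (s - 1))) ^ p = 1 := by
          rw [← pow_mul, ← pow_succ, Nat.sub_add_cancel (Nat.one_le_iff_ne_zero.mpr hs0), ← hs,
            pow_orderOf_eq_one]
        have hb1 : e ^ (p ^ (s - 1)) ≠ 1 := by
          apply pow_ne_one_of_lt_orderOf (pow_ne_zero _ hp.out.ne_zero)
          rw [hs]
          exact Nat.pow_lt_pow_right hp.out.one_lt (by omega)
        have hgb := h _ _ hg hb hb1
        have hbe : Subgroup.zpowers (e ^ (p ^ (s - 1))) ≤ Subgroup.zpowers e := by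
          rw [Subgroup.zpowers_le]; exact pow_mem (Subgroup.mem_zpowers e) _
        have hfe : f = (f * (e ^ i')⁻¹) * e ^ i' := by group
        rw [hfe]; exact mul_mem (hbe hgb) (pow_mem (Subgroup.mem_zpowers e) _)
      · exfalso
        have hcop : (orderOf e).Coprime i := by
          rw [hs]
          exact Nat.Coprime.pow_left _ ((Nat.Prime.coprime_iff_not_dvd hp.out).mpr hpi)
        have h1 : orderOf (e ^ i) = orderOf e := hcop.orderOf_pow
        rw [hi, hord] at h1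
        have h2 : orderOf f = p * orderOf e := by
          rw [← h1]; exact (Nat.mul_div_cancel' hpdvd).symm
        have h3 := hmax f
        have h4 := orderOf_pos e
        have h5 := hp.out.two_le
        nlinarith
  exact fun f => key _ f rfl

/-- The class-two case of the core lemma (needed for `p = 2`). -/
theorem core_class2 [Finite X] {p q : ℕ} [Fact p.Prime] [Fact q.Prime] (hqp : q ≠ p)
    (P K E : Subgroup X) (hP : IsPGroup p P) (hK : IsPGroup q K) (hE : IsPGroup p E)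
    (hEc : ∀ a ∈ E, ∀ b ∈ E, a * b = b * a)
    (hKP : K ≤ Subgroup.normalizer (P : Set X)) (hEP : E ≤ Subgroup.normalizer (P : Set X))
    (hEK : E ≤ Subgroup.normalizer (K : Set X))
    (hC : ∀ x ∈ P, (∀ e ∈ E, e * x = x * e) → ∀ k ∈ K, k * x = x * k)
    (hcl : ∀ x ∈ P ⊔ E, ∀ y ∈ P ⊔ E, ∀ z ∈ P ⊔ E, ⁅⁅x, y⁆, z⁆ = 1) :
    ∀ x ∈ P, ∀ k ∈ K, k * x = x * k := by
  have hsc : ∀ y ∈ P, ∀ e ∈ E, (y⁻¹ * e⁻¹ * y * e ∈ P ∧
      (∀ e' ∈ E, e' * (y⁻¹ * e⁻¹ * y * e) = (y⁻¹ * e⁻¹ * y * e) * e') ∧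
      (∀ k ∈ K, k * (y⁻¹ * e⁻¹ * y * e) = (y⁻¹ * e⁻¹ * y * e) * k)) := by
    intro y hy e he
    have hmem : y⁻¹ * e⁻¹ * y * e ∈ P := by
      have h1 : y⁻¹ * e⁻¹ * y * e = y⁻¹ * (e⁻¹ * y * e) := by group
      rw [h1]; exact P.mul_mem (P.inv_mem hy) (inv_conj_mem_of_mem_normalizer (hEP he) hy)
    have hcomm : ∀ z ∈ P ⊔ E, z * (y⁻¹ * e⁻¹ * y * e) = (y⁻¹ * e⁻¹ * y * e) * z := by
      intro z hz
      have h2 := hcl y⁻¹ (Subgroup.inv_mem _ (Subgroup.mem_sup_left hy)) e⁻¹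
        (Subgroup.inv_mem _ (Subgroup.mem_sup_right he)) z hz
      have h3 : ⁅y⁻¹, e⁻¹⁆ = y⁻¹ * e⁻¹ * y * e := by simp [commutatorElement_def]
      rw [h3] at h2
      exact (commutatorElement_eq_one_iff_commute.mp h2).eq.symm
    have hE' : ∀ e' ∈ E, e' * (y⁻¹ * e⁻¹ * y * e) = (y⁻¹ * e⁻¹ * y * e) * e' :=
      fun e' he' => hcomm e' (Subgroup.mem_sup_right he')
    exact ⟨hmem, hE', hC _ hmem hE'⟩
  have hCK : ∀ k ∈ K, (∀ e ∈ E, e * k = k * e) → ∀ x ∈ P, x * k = k * x := by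
    intro k hk hke
    have hH : IsPGroup p (P ⊔ E : Subgroup X) := hP.to_sup_of_normal_left' hE hEP
    exact Cfsg.Agent.Lib.Helper24.Coprime.thompson_AxB p (P ⊔ E) hH E le_sup_right k
      (orderOf_coprime_p hqp hK hk) hke P le_sup_left (hKP hk) hEP
      (fun x hx hxe => (hC x hx hxe k hk).symm)
  have hgen : ∀ k ∈ K, ∀ e ∈ E, ∀ x ∈ P, x * ⁅k, e⁆ = ⁅k, e⁆ * x := by
    intro k hk e he x hx
    obtain ⟨a, ha⟩ : ∃ a : X, a = k * e * k⁻¹ * e⁻¹ := ⟨_, rfl⟩
    have hak : ⁅k, e⁆ = a := by rw [ha, commutatorElement_def]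
    rw [hak]
    have haK : a ∈ K := by
      have h1 : a = k * (e * k⁻¹ * e⁻¹) := by rw [ha]; group
      rw [h1]; exact K.mul_mem hk (conj_mem_of_mem_normalizer (hEK he) (K.inv_mem hk))
    have hconj : ∀ y ∈ P, ∃ n, (∀ k' ∈ K, k' * n = n * k') ∧ a * y * a⁻¹ = y * n := by
      intro y hy
      obtain ⟨-, hn1E, hn1K⟩ := hsc y hy e he
      have hy' : k⁻¹ * y * k ∈ P := inv_conj_mem_of_mem_normalizer (hKP hk) hy
      obtain ⟨-, -, hn2K⟩ := hsc (k⁻¹ * y * k) hy' e⁻¹ (E.inv_mem he)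
      obtain ⟨n₁, hn₁⟩ : ∃ n₁ : X, n₁ = y⁻¹ * e⁻¹ * y * e := ⟨_, rfl⟩
      obtain ⟨n₂, hn₂⟩ : ∃ n₂ : X, n₂ = (k⁻¹ * y * k)⁻¹ * e⁻¹⁻¹ * (k⁻¹ * y * k) * e⁻¹ :=
        ⟨_, rfl⟩
      rw [← hn₁] at hn1E hn1K
      rw [← hn₂] at hn2K
      refine ⟨n₂ * n₁, ?_, ?_⟩
      · intro k' hk'
        rw [← mul_assoc, hn2K k' hk', mul_assoc, hn1K k' hk', mul_assoc]
      · have e1 : e⁻¹ * y * e = y * n₁ := by rw [hn₁]; group
        have e2 : e * (k⁻¹ * y * k) * e⁻¹ = (k⁻¹ * y * k) * n₂ := by rw [hn₂]; group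
        have c1 : k⁻¹ * n₁ * k = n₁ := inv_conj_eq (hn1K k hk)
        have c2 : e * n₁ * e⁻¹ = n₁ := conj_eq (hn1E e he)
        have c3 : k * n₂ * k⁻¹ = n₂ := conj_eq (hn2K k hk)
        have c4 : k * n₁ * k⁻¹ = n₁ := conj_eq (hn1K k hk)
        calc a * y * a⁻¹ = k * (e * (k⁻¹ * (e⁻¹ * y * e) * k) * e⁻¹) * k⁻¹ := by
              rw [ha]; group
          _ = k * (e * (k⁻¹ * (y * n₁) * k) * e⁻¹) * k⁻¹ := by rw [e1]
          _ = k * ((e * (k⁻¹ * y * k) * e⁻¹) * (e * (k⁻¹ * n₁ * k) * e⁻¹)) * k⁻¹ := by group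
          _ = k * (((k⁻¹ * y * k) * n₂) * (e * n₁ * e⁻¹)) * k⁻¹ := by rw [e2, c1]
          _ = k * (((k⁻¹ * y * k) * n₂) * n₁) * k⁻¹ := by rw [c2]
          _ = y * (k * n₂ * k⁻¹) * (k * n₁ * k⁻¹) := by group
          _ = y * (n₂ * n₁) := by rw [c3, c4, mul_assoc]
    obtain ⟨n, hnK, hn⟩ := hconj x⁻¹ (P.inv_mem hx)
    have hxa : ⁅x, a⁆ = n := by
      have h1 : ⁅x, a⁆ = x * (a * x⁻¹ * a⁻¹) := by rw [commutatorElement_def]; group
      rw [h1, hn]; group
    have hcomm : ⁅x, a⁆ * a = a * ⁅x, a⁆ := by rw [hxa]; exact (hnK a haK).symm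
    exact Cfsg.Agent.Lib.Helper24.Coprime.commute_of_commutator_commute (hKP haK)
      (orderOf_coprime_card hqp hK hP haK) hx hcomm
  have hcomm_le : ⁅K, E⁆ ≤ Subgroup.centralizer (P : Set X) := by
    rw [Subgroup.commutator_le]
    intro k hk e he
    rw [Subgroup.mem_centralizer_iff]
    intro x hx
    exact hgen k hk e he x hx
  have hCKE : K ⊓ Subgroup.centralizer (E : Set X) ≤ Subgroup.centralizer (P : Set X) := by
    intro k hk
    rw [Subgroup.mem_centralizer_iff]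
    intro x hx
    exact hCK k hk.1 (fun e he => (Subgroup.mem_centralizer_iff.mp hk.2 e he)) x hx
  have hsolv : Group.IsSolvable ↥E :=
    Group.isSolvable_of_comm (fun a b => Subtype.ext (hEc a a.2 b b.2))
  have hdec := Cfsg.Agent.S0026.result E K hEK
    (IsPGroup.coprime_card_of_ne p q (Ne.symm hqp) E K hE hK) (Or.inl hsolv)
  intro x hx k hk
  have h1 : k ∈ ⁅K, E⁆ ⊔ (K ⊓ Subgroup.centralizer (E : Set X)) := by rw [hdec]; exact hk
  have h2 : k ∈ Subgroup.centralizer (P : Set X) := (sup_le hcomm_le hCKE) h1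
  exact (Subgroup.mem_centralizer_iff.mp h2 x hx).symm

/-! ### The conjugation hom of the normalizer -/

/-- Conjugation, as a hom from the normalizer of `P` to the automorphisms of `P`. -/
def cj (P : Subgroup X) : ↥(Subgroup.normalizer (P : Set X)) →* MulAut ↥P :=
  Cfsg.Agent.Lib.Helper24.ConjAction.conjHom (Subgroup.normalizer (P : Set X)) P le_rfl

theorem cj_apply (P : Subgroup X) (u : ↥(Subgroup.normalizer (P : Set X))) (w : ↥P) :
    ((cj P u w : ↥P) : X) = u * w * (u : X)⁻¹ :=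
  Cfsg.Agent.Lib.Helper24.ConjAction.conjHom_apply _ _ _ u w

theorem cj_eq_iff (P : Subgroup X) (u v : ↥(Subgroup.normalizer (P : Set X))) :
    cj P u = cj P v ↔ ∀ x ∈ P, (u : X) * x * (u : X)⁻¹ = v * x * (v : X)⁻¹ := by
  constructor
  · intro h x hx
    have h1 := congrArg (fun f : MulAut ↥P => ((f ⟨x, hx⟩ : ↥P) : X)) h
    simpa [cj_apply] using h1
  · intro h
    apply MulEquiv.ext
    intro w
    apply Subtype.ext
    rw [cj_apply, cj_apply]
    exact h w w.2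

theorem cj_eq_one_iff (P : Subgroup X) (u : ↥(Subgroup.normalizer (P : Set X))) :
    cj P u = 1 ↔ ∀ x ∈ P, (u : X) * x = x * u := by
  constructor
  · intro h x hx
    have h1 := congrArg (fun f : MulAut ↥P => ((f ⟨x, hx⟩ : ↥P) : X)) h
    simp only [cj_apply, MulAut.one_apply] at h1
    calc (u : X) * x = (u : X) * x * (u : X)⁻¹ * u := by group
      _ = x * u := by rw [h1]
  · intro h
    apply MulEquiv.ext
    intro w
    apply Subtype.ext
    rw [cj_apply, MulAut.one_apply]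
    exact conj_eq (h w w.2)

/-! ### A minimal counterexample -/

/-- A minimal counterexample to the core lemma. -/
structure MinCfg (p q : ℕ) (P K E : Subgroup X) : Prop where
  hP : IsPGroup p P
  hK : IsPGroup q K
  hE : IsPGroup p E
  hEc : ∀ a ∈ E, ∀ b ∈ E, a * b = b * a
  hKP : K ≤ Subgroup.normalizer (P : Set X)
  hEP : E ≤ Subgroup.normalizer (P : Set X)
  hEK : E ≤ Subgroup.normalizer (K : Set X)
  hC : ∀ x ∈ P, (∀ e ∈ E, e * x = x * e) → ∀ k ∈ K, k * x = x * k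
  hnot : ¬ ∀ x ∈ P, ∀ k ∈ K, k * x = x * k
  minK : ∀ K' : Subgroup X, K' < K → E ≤ Subgroup.normalizer (K' : Set X) →
    ∀ x ∈ P, ∀ k ∈ K', k * x = x * k
  minP : ∀ U : Subgroup X, U < P → K ≤ Subgroup.normalizer (U : Set X) →
    E ≤ Subgroup.normalizer (U : Set X) → ∀ x ∈ U, ∀ k ∈ K, k * x = x * k

namespace MinCfg

variable [Finite X] {p q : ℕ} [hp : Fact p.Prime] [hq : Fact q.Prime] (hqp : q ≠ p)
  {P K E : Subgroup X}

include hqp

theorem hh (h : MinCfg p q P K E) :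
    ⁅P, K⁆ = P ∧ (Cfsg.IsElementaryAbelian p P ∨ Cfsg.IsSpecial p ↥P) ∧
    (∀ U : Subgroup X, (frattini ↥P).map P.subtype ≤ U → U ≤ P →
      K ⊔ E ≤ Subgroup.normalizer (U : Set X) → U = (frattini ↥P).map P.subtype ∨ U = P) ∧
    (p ≠ 2 → ∀ x ∈ P, x ^ p = 1) := by
  refine Cfsg.Agent.S3736.result (K ⊔ E) K P h.hP (sup_le h.hKP h.hEP) le_sup_left
    (sup_le Subgroup.le_normalizer h.hEK) (coprime_p hqp h.hK) ?_ ?_
  · intro hbot
    apply h.hnot
    intro x hx k hk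
    have h1 := (Subgroup.commutator_eq_bot_iff_le_centralizer.mp hbot) hx
    exact Subgroup.mem_centralizer_iff.mp h1 k hk
  · intro U hU hBU
    rw [Subgroup.commutator_eq_bot_iff_le_centralizer]
    intro x hx
    rw [Subgroup.mem_centralizer_iff]
    intro k hk
    exact h.minP U hU (le_sup_left.trans hBU) (le_sup_right.trans hBU) x hx k hk

omit [Finite X] hp hq hqp in
theorem ne_bot (h : MinCfg p q P K E) : P ≠ ⊥ := by
  intro hb
  apply h.hnot
  intro x hx k hk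
  rw [hb, Subgroup.mem_bot] at hx
  rw [hx, mul_one, one_mul]

theorem nonabelian (h : MinCfg p q P K E) : ¬ ∀ x ∈ P, ∀ y ∈ P, x * y = y * x := by
  intro hab
  have hcomm : IsMulCommutative ↥P := ⟨⟨fun a b => Subtype.ext (hab a a.2 b b.2)⟩⟩
  have h1 := (Cfsg.Agent.S0055.result K P h.hKP (card_coprime hqp h.hK h.hP)).1
  rw [(h.hh hqp).1] at h1
  obtain ⟨x, hx, hx1, hxE⟩ := exists_fixed_ne_one P E h.hP h.hE h.hEP h.ne_bot
  have hxK := h.hC x hx hxE
  have h2 : x ∈ (P ⊓ Subgroup.centralizer (K : Set X)) ⊓ P :=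
    ⟨⟨hx, Subgroup.mem_centralizer_iff.mpr hxK⟩, hx⟩
  rw [h1, Subgroup.mem_bot] at h2
  exact hx1 h2

theorem special (h : MinCfg p q P K E) : Cfsg.IsSpecial p ↥P := by
  rcases (h.hh hqp).2.1 with hea | hs
  · exfalso
    apply h.nonabelian hqp
    intro x hx y hy
    have hc := hea.1
    exact congrArg Subtype.val (mul_comm' (⟨x, hx⟩ : ↥P) ⟨y, hy⟩)
  · exact hs

/-- `C_P(K) ≤ Z(P)`. -/
theorem cent_le_center (h : MinCfg p q P K E) :
    ∀ x ∈ P, (∀ k ∈ K, k * x = x * k) → ∀ y ∈ P, y * x = x * y := by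
  intro x hx hxK
  obtain ⟨-, hfr, -⟩ := h.special hqp
  obtain ⟨C, hCdef⟩ : ∃ C : Subgroup X, C = P ⊓ Subgroup.centralizer (K : Set X) := ⟨_, rfl⟩
  obtain ⟨Φ, hΦ⟩ : ∃ Φ : Subgroup X, Φ = (frattini ↥P).map P.subtype := ⟨_, rfl⟩
  have hΦP : Φ ≤ P := by rw [hΦ]; exact Subgroup.map_subtype_le _
  have hCP : C ≤ P := by rw [hCdef]; exact inf_le_left
  have hnormC : K ⊔ E ≤ Subgroup.normalizer (C : Set X) := by
    apply le_normalizer_of_conj
    intro g hg c hc
    have hgP : g ∈ Subgroup.normalizer (P : Set X) := (sup_le h.hKP h.hEP) hg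
    have hgK : g ∈ Subgroup.normalizer (K : Set X) := (sup_le Subgroup.le_normalizer h.hEK) hg
    rw [hCdef] at hc ⊢
    exact ⟨conj_mem_of_mem_normalizer hgP hc.1, conj_mem_centralizer hgK hc.2⟩
  have hnormΦ : K ⊔ E ≤ Subgroup.normalizer (Φ : Set X) := by
    rw [hΦ]
    exact (sup_le h.hKP h.hEP).trans
      (Cfsg.Agent.Lib.Helper24.ConjAction.le_normalizer_map_of_characteristic P (frattini ↥P)
        frattini_characteristic)
  have hnormU : K ⊔ E ≤ Subgroup.normalizer ((C ⊔ Φ : Subgroup X) : Set X) := by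
    apply le_normalizer_of_conj
    intro g hg u hu
    exact conj_mem_sup (fun a ha => conj_mem_of_mem_normalizer (hnormC hg) ha)
      (fun b hb => conj_mem_of_mem_normalizer (hnormΦ hg) hb) u hu
  have hirr := (h.hh hqp).2.2.1 (C ⊔ Φ) (by rw [← hΦ]; exact le_sup_right) (sup_le hCP hΦP) hnormU
  rw [← hΦ] at hirr
  rcases hirr with hU | hU
  · have hxΦ : x ∈ Φ := by
      rw [← hU]
      exact Subgroup.mem_sup_left (by rw [hCdef]; exact ⟨hx, Subgroup.mem_centralizer_iff.mpr hxK⟩)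
    rw [hΦ, hfr] at hxΦ
    exact ((Cfsg.Agent.Lib.Helper53.SylowMore.mem_center_map_iff P x).mp hxΦ).2
  · exfalso
    have h1 : (C ⊔ Φ).subgroupOf P = ⊤ := by rw [hU]; exact Subgroup.subgroupOf_self P
    rw [Subgroup.subgroupOf_sup hCP hΦP] at h1
    have h2 : Φ.subgroupOf P = frattini ↥P := by
      rw [hΦ]
      exact Subgroup.comap_map_eq_self_of_injective (Subgroup.subtype_injective P) _
    rw [h2] at h1
    have h3 : C.subgroupOf P = ⊤ := frattini_nongenerating h1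
    apply h.hnot
    intro y hy k hk
    have h4 : (⟨y, hy⟩ : ↥P) ∈ C.subgroupOf P := by rw [h3]; exact Subgroup.mem_top _
    rw [Subgroup.mem_subgroupOf, hCdef] at h4
    exact Subgroup.mem_centralizer_iff.mp h4.2 k hk

/-- `C_{P/Z(P)}(K) = 1`. -/
theorem fixed_mod_center (h : MinCfg p q P K E) :
    ∀ x ∈ P, (∀ k ∈ K, x⁻¹ * k * x * k⁻¹ ∈ (Subgroup.center ↥P).map P.subtype) →
      ∀ y ∈ P, y * x = x * y := by
  intro x hx hxK
  obtain ⟨Z, hZ⟩ : ∃ Z : Subgroup X, Z = (Subgroup.center ↥P).map P.subtype := ⟨_, rfl⟩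
  rw [← hZ] at hxK
  have hZP : Z ≤ P := by rw [hZ]; exact Subgroup.map_subtype_le _
  have hZq : ¬ q ∣ Nat.card Z := by
    have hZp : IsPGroup p Z := h.hP.to_le hZP
    obtain ⟨n, hn⟩ := IsPGroup.iff_card.mp hZp
    rw [hn]
    intro hdvd
    exact hqp ((Nat.prime_dvd_prime_iff_eq hq.out hp.out).mp (hq.out.dvd_of_dvd_pow hdvd))
  have hKZ : K ≤ Subgroup.normalizer (Z : Set X) := by
    rw [hZ]
    exact h.hKP.trans
      (Cfsg.Agent.Lib.Helper24.ConjAction.le_normalizer_map_of_characteristic P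
        (Subgroup.center ↥P) Subgroup.centerCharacteristic)
  obtain ⟨n, hn, hfix⟩ :=
    Cfsg.Agent.Lib.Helper48.CoprimeQ.exists_fixed_in_coset K Z h.hK hZq hKZ x hxK
  have hxn : x * n ∈ P := P.mul_mem hx (hZP hn)
  have hcen := h.cent_le_center hqp (x * n) hxn (fun k hk => by
    have h1 := hfix k hk
    calc k * (x * n) = k * (x * n) * k⁻¹ * k := by group
      _ = x * n * k := by rw [h1])
  rw [hZ] at hn
  have hnc := ((Cfsg.Agent.Lib.Helper53.SylowMore.mem_center_map_iff P n).mp hn).2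
  intro y hy
  have h1 := hcen y hy
  have h2 := hnc y hy
  calc y * x = y * (x * n) * n⁻¹ := by group
    _ = x * n * y * n⁻¹ := by rw [h1]
    _ = x * (n * y) * n⁻¹ := by group
    _ = x * (y * n) * n⁻¹ := by rw [h2]
    _ = x * y := by group

/-- `C_E(K)` centralizes `P`. -/
theorem cent_K_cent_P (h : MinCfg p q P K E) :
    ∀ e ∈ E, (∀ k ∈ K, e * k = k * e) → ∀ x ∈ P, e * x = x * e := by
  intro e he hek
  obtain ⟨E₁, hE₁⟩ : ∃ E₁ : Subgroup X, E₁ = E ⊓ Subgroup.centralizer (K : Set X) := ⟨_, rfl⟩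
  obtain ⟨U, hU⟩ : ∃ U : Subgroup X, U = P ⊓ Subgroup.centralizer (E₁ : Set X) := ⟨_, rfl⟩
  have hE₁E : E₁ ≤ E := by rw [hE₁]; exact inf_le_left
  have hE₁K : ∀ b ∈ E₁, ∀ k ∈ K, b * k = k * b := by
    intro b hb k hk
    rw [hE₁] at hb
    exact (Subgroup.mem_centralizer_iff.mp hb.2 k hk).symm
  have hKU : K ≤ Subgroup.normalizer (U : Set X) := by
    apply le_normalizer_of_conj
    intro k hk u hu
    have hkC : k ∈ Subgroup.centralizer (E₁ : Set X) := by
      rw [Subgroup.mem_centralizer_iff]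
      intro b hb
      exact hE₁K b hb k hk
    rw [hU] at hu ⊢
    exact ⟨conj_mem_of_mem_normalizer (h.hKP hk) hu.1,
      Subgroup.mul_mem _ (Subgroup.mul_mem _ hkC hu.2) (Subgroup.inv_mem _ hkC)⟩
  have hEU : E ≤ Subgroup.normalizer (U : Set X) := by
    apply le_normalizer_of_conj
    intro f hf u hu
    have hfC : f ∈ Subgroup.centralizer (E₁ : Set X) := by
      rw [Subgroup.mem_centralizer_iff]
      intro b hb
      exact h.hEc b (hE₁E hb) f hf
    rw [hU] at hu ⊢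
    exact ⟨conj_mem_of_mem_normalizer (h.hEP hf) hu.1,
      Subgroup.mul_mem _ (Subgroup.mul_mem _ hfC hu.2) (Subgroup.inv_mem _ hfC)⟩
  have heE₁ : e ∈ E₁ := by
    rw [hE₁]
    exact ⟨he, Subgroup.mem_centralizer_iff.mpr (fun k hk => (hek k hk).symm)⟩
  by_cases hUP : U = P
  · intro x hx
    have h1 : x ∈ U := hUP ▸ hx
    rw [hU] at h1
    exact Subgroup.mem_centralizer_iff.mp h1.2 e heE₁
  · exfalso
    have hlt : U < P := lt_of_le_of_ne (by rw [hU]; exact inf_le_left) hUP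
    have hUK := h.minP U hlt hKU hEU
    apply h.hnot
    intro x hx k hk
    have hH : IsPGroup p (P ⊔ E₁ : Subgroup X) :=
      h.hP.to_sup_of_normal_left' (h.hE.to_le hE₁E) (hE₁E.trans h.hEP)
    have h1 := Cfsg.Agent.Lib.Helper24.Coprime.thompson_AxB p (P ⊔ E₁) hH E₁ le_sup_right k
      (orderOf_coprime_p hqp h.hK hk) (fun b hb => hE₁K b hb k hk) P le_sup_left (h.hKP hk)
      (hE₁E.trans h.hEP)
      (fun x hx hxb => (hUK x (by rw [hU]; exact ⟨hx, Subgroup.mem_centralizer_iff.mpr hxb⟩)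
        k hk).symm)
    exact (h1 x hx).symm

/-- If `e` and the identity induce the same action of `K` on `P` (via conjugating `K`),
then `e` centralizes `K`. -/
theorem cent_of_same_action (h : MinCfg p q P K E) :
    ∀ e ∈ E, (∀ k ∈ K, ∀ x ∈ P, (e * k * e⁻¹) * x * (e * k * e⁻¹)⁻¹ = k * x * k⁻¹) →
      ∀ k ∈ K, e * k = k * e := by
  intro e he hact
  have hpow : ∀ j : ℕ, ∀ k ∈ K, ∀ x ∈ P,
      (e ^ j * k * (e ^ j)⁻¹) * x * (e ^ j * k * (e ^ j)⁻¹)⁻¹ = k * x * k⁻¹ := by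
    intro j
    induction j with
    | zero => intro k hk x hx; simp
    | succ j ih =>
      intro k hk x hx
      have hk' : e ^ j * k * (e ^ j)⁻¹ ∈ K :=
        conj_mem_of_mem_normalizer (h.hEK (E.pow_mem he j)) hk
      have h1 : e ^ (j+1) * k * (e ^ (j+1))⁻¹ = e * (e ^ j * k * (e ^ j)⁻¹) * e⁻¹ := by
        rw [pow_succ']; group
      rw [h1, hact _ hk' x hx, ih k hk x hx]
  obtain ⟨A, hA⟩ : ∃ A : Subgroup X, A = Subgroup.zpowers e := ⟨_, rfl⟩
  have hAE : A ≤ E := by rw [hA, Subgroup.zpowers_le]; exact he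
  have hcomm : ⁅K, A⁆ ≤ Subgroup.centralizer (P : Set X) := by
    rw [Subgroup.commutator_le]
    intro k hk a ha
    rw [hA] at ha
    obtain ⟨j, rfl⟩ : ∃ j : ℕ, e ^ j = a :=
      (Submonoid.mem_powers_iff _ _).mp (mem_powers_iff_mem_zpowers.mpr ha)
    rw [Subgroup.mem_centralizer_iff]
    intro x hx
    have h1 := hpow j k⁻¹ (K.inv_mem hk) x hx
    have h2 : ⁅k, e ^ j⁆ = k * (e ^ j * k⁻¹ * (e ^ j)⁻¹) := by
      rw [commutatorElement_def]; group
    rw [h2]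
    have h3 : (e ^ j * k⁻¹ * (e ^ j)⁻¹) * x = k⁻¹ * x * k * (e ^ j * k⁻¹ * (e ^ j)⁻¹) := by
      calc (e ^ j * k⁻¹ * (e ^ j)⁻¹) * x
          = ((e ^ j * k⁻¹ * (e ^ j)⁻¹) * x * (e ^ j * k⁻¹ * (e ^ j)⁻¹)⁻¹) *
              (e ^ j * k⁻¹ * (e ^ j)⁻¹) := by group
        _ = k⁻¹ * x * k⁻¹⁻¹ * (e ^ j * k⁻¹ * (e ^ j)⁻¹) := by rw [h1]
        _ = k⁻¹ * x * k * (e ^ j * k⁻¹ * (e ^ j)⁻¹) := by rw [inv_inv]
    calc x * (k * (e ^ j * k⁻¹ * (e ^ j)⁻¹))
        = k * (k⁻¹ * x * k * (e ^ j * k⁻¹ * (e ^ j)⁻¹)) := by group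
      _ = k * ((e ^ j * k⁻¹ * (e ^ j)⁻¹) * x) := by rw [h3]
      _ = k * (e ^ j * k⁻¹ * (e ^ j)⁻¹) * x := by group
  have hAK : A ≤ Subgroup.normalizer (K : Set X) := hAE.trans h.hEK
  have hcop : (Nat.card A).Coprime (Nat.card K) :=
    IsPGroup.coprime_card_of_ne p q (Ne.symm hqp) A K (h.hE.to_le hAE) h.hK
  have hsolv : Group.IsSolvable ↥A :=
    Group.isSolvable_of_comm (fun a b => Subtype.ext (h.hEc a (hAE a.2) b (hAE b.2)))
  have hdec := Cfsg.Agent.S0026.result A K hAK hcop (Or.inl hsolv)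
  obtain ⟨K'', hK''⟩ : ∃ K'' : Subgroup X, K'' = K ⊓ Subgroup.centralizer (A : Set X) :=
    ⟨_, rfl⟩
  rw [← hK''] at hdec
  have hEK'' : E ≤ Subgroup.normalizer (K'' : Set X) := by
    apply le_normalizer_of_conj
    intro f hf k hk
    have hfC : f ∈ Subgroup.centralizer (A : Set X) := by
      rw [Subgroup.mem_centralizer_iff]
      intro a ha
      exact h.hEc a (hAE ha) f hf
    rw [hK''] at hk ⊢
    exact ⟨conj_mem_of_mem_normalizer (h.hEK hf) hk.1,
      Subgroup.mul_mem _ (Subgroup.mul_mem _ hfC hk.2) (Subgroup.inv_mem _ hfC)⟩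
  by_cases hKK : K'' = K
  · intro k hk
    have h1 : k ∈ K'' := hKK ▸ hk
    rw [hK'', hA] at h1
    exact Subgroup.mem_centralizer_iff.mp h1.2 e (Subgroup.mem_zpowers e)
  · exfalso
    have hlt : K'' < K := lt_of_le_of_ne (by rw [hK'']; exact inf_le_left) hKK
    have hmin := h.minK K'' hlt hEK''
    apply h.hnot
    intro x hx k hk
    have hk' : k ∈ ⁅K, A⁆ ⊔ K'' := by rw [hdec]; exact hk
    have hle : ⁅K, A⁆ ⊔ K'' ≤ Subgroup.centralizer (P : Set X) :=
      sup_le hcomm (fun k hk => Subgroup.mem_centralizer_iff.mpr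
        (fun x hx => (hmin x hx k hk).symm))
    exact (Subgroup.mem_centralizer_iff.mp (hle hk') x hx).symm

/-- The Frobenius condition: an element of `E` acting nontrivially on `P` has no fixed points
on `K / C_K(P)`. -/
theorem frob (h : MinCfg p q P K E) :
    ∀ e ∈ E, (∃ x ∈ P, e * x ≠ x * e) → ∀ k ∈ K,
      (∀ x ∈ P, (e * k * e⁻¹) * x * (e * k * e⁻¹)⁻¹ = k * x * k⁻¹) → ∀ x ∈ P, k * x = x * k := by
  intro e he hne k hk hkact
  let K' : Subgroup X :=
    { carrier := {k | k ∈ K ∧ ∀ x ∈ P, (e * k * e⁻¹) * x * (e * k * e⁻¹)⁻¹ = k * x * k⁻¹}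
      mul_mem' := by
        rintro a b ⟨ha, ha'⟩ ⟨hb, hb'⟩
        refine ⟨K.mul_mem ha hb, fun x hx => ?_⟩
        have hbx : b * x * b⁻¹ ∈ P := conj_mem_of_mem_normalizer (h.hKP hb) hx
        calc (e * (a * b) * e⁻¹) * x * (e * (a * b) * e⁻¹)⁻¹
            = (e * a * e⁻¹) * ((e * b * e⁻¹) * x * (e * b * e⁻¹)⁻¹) * (e * a * e⁻¹)⁻¹ := by
              group
          _ = (e * a * e⁻¹) * (b * x * b⁻¹) * (e * a * e⁻¹)⁻¹ := by rw [hb' x hx]
          _ = a * (b * x * b⁻¹) * a⁻¹ := ha' _ hbx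
          _ = a * b * x * (a * b)⁻¹ := by group
      one_mem' := ⟨K.one_mem, fun x hx => by simp⟩
      inv_mem' := by
        rintro a ⟨ha, ha'⟩
        refine ⟨K.inv_mem ha, fun x hx => ?_⟩
        have hy : a⁻¹ * x * a ∈ P := inv_conj_mem_of_mem_normalizer (h.hKP ha) hx
        have h1 := ha' _ hy
        have h2 : a * (a⁻¹ * x * a) * a⁻¹ = x := by group
        rw [h2] at h1
        calc (e * a⁻¹ * e⁻¹) * x * (e * a⁻¹ * e⁻¹)⁻¹
            = (e * a * e⁻¹)⁻¹ * x * (e * a * e⁻¹) := by group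
          _ = (e * a * e⁻¹)⁻¹ * ((e * a * e⁻¹) * (a⁻¹ * x * a) * (e * a * e⁻¹)⁻¹) *
              (e * a * e⁻¹) := by rw [h1]
          _ = a⁻¹ * x * a⁻¹⁻¹ := by group }
  have hK'K : K' ≤ K := fun k hk => hk.1
  have hEK' : E ≤ Subgroup.normalizer (K' : Set X) := by
    apply le_normalizer_of_conj
    intro f hf a ha
    refine ⟨conj_mem_of_mem_normalizer (h.hEK hf) ha.1, fun x hx => ?_⟩
    have hy : f⁻¹ * x * f ∈ P := inv_conj_mem_of_mem_normalizer (h.hEP hf) hx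
    have h1 := ha.2 _ hy
    have hef : e * f = f * e := h.hEc e he f hf
    have h2 : e * (f * a * f⁻¹) * e⁻¹ = f * (e * a * e⁻¹) * f⁻¹ := by
      calc e * (f * a * f⁻¹) * e⁻¹ = (e * f) * a * (e * f)⁻¹ := by group
        _ = (f * e) * a * (f * e)⁻¹ := by rw [hef]
        _ = f * (e * a * e⁻¹) * f⁻¹ := by group
    rw [h2]
    calc f * (e * a * e⁻¹) * f⁻¹ * x * (f * (e * a * e⁻¹) * f⁻¹)⁻¹
        = f * ((e * a * e⁻¹) * (f⁻¹ * x * f) * (e * a * e⁻¹)⁻¹) * f⁻¹ := by group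
      _ = f * (a * (f⁻¹ * x * f) * a⁻¹) * f⁻¹ := by rw [h1]
      _ = f * a * f⁻¹ * x * (f * a * f⁻¹)⁻¹ := by group
  by_cases hKK : K' = K
  · exfalso
    have hall : ∀ k ∈ K, ∀ x ∈ P, (e * k * e⁻¹) * x * (e * k * e⁻¹)⁻¹ = k * x * k⁻¹ := by
      intro k hk
      have h1 : k ∈ K' := hKK ▸ hk
      exact h1.2
    have hcK := h.cent_of_same_action hqp e he hall
    have hcP := h.cent_K_cent_P hqp e he hcK
    obtain ⟨x, hx, hxe⟩ := hne
    exact hxe (hcP x hx)
  · have hlt : K' < K := lt_of_le_of_ne hK'K hKK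
    intro x hx
    exact h.minK K' hlt hEK' x hx k ⟨hk, hkact⟩

/-- `C_E(P)` centralizes `K`. -/
theorem cent_P_cent_K (h : MinCfg p q P K E) :
    ∀ e ∈ E, (∀ x ∈ P, e * x = x * e) → ∀ k ∈ K, e * k = k * e := by
  intro e he hex
  apply h.cent_of_same_action hqp e he
  intro k hk x hx
  have hy : k * x * k⁻¹ ∈ P := conj_mem_of_mem_normalizer (h.hKP hk) hx
  have h1 : e⁻¹ * x * e = x := inv_conj_eq (hex x hx)
  have h2 : e * (k * x * k⁻¹) * e⁻¹ = k * x * k⁻¹ := conj_eq (hex _ hy)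
  calc (e * k * e⁻¹) * x * (e * k * e⁻¹)⁻¹ = e * (k * (e⁻¹ * x * e) * k⁻¹) * e⁻¹ := by group
    _ = e * (k * x * k⁻¹) * e⁻¹ := by rw [h1]
    _ = k * x * k⁻¹ := h2

end MinCfg

namespace MinCfg

variable [Finite X] {p q : ℕ} [hp : Fact p.Prime] [hq : Fact q.Prime] (hqp : q ≠ p)
  {P K E : Subgroup X}

include hqp

/-- `E` acts on `P` as a cyclic group. -/
theorem exists_gen (h : MinCfg p q P K E) :
    ∃ e₀, ∃ he₀ : e₀ ∈ E, ∀ f (hf : f ∈ E),
      cj P ⟨f, h.hEP hf⟩ ∈ Subgroup.zpowers (cj P ⟨e₀, h.hEP he₀⟩) := by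
  obtain ⟨EN, hEN⟩ : ∃ EN : Subgroup ↥(Subgroup.normalizer (P : Set X)),
      EN = E.subgroupOf (Subgroup.normalizer (P : Set X)) := ⟨_, rfl⟩
  obtain ⟨Ebar, hEbar⟩ : ∃ Ebar : Subgroup (MulAut ↥P), Ebar = EN.map (cj P) := ⟨_, rfl⟩
  have hmemEN : ∀ u : ↥(Subgroup.normalizer (P : Set X)), u ∈ EN ↔ (u : X) ∈ E := by
    intro u; rw [hEN, Subgroup.mem_subgroupOf]
  have hEbar_p : IsPGroup p ↥Ebar := by
    rw [hEbar]
    apply IsPGroup.map
    rw [hEN]
    exact h.hE.comap_subtype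
  have hrep : ∀ a : ↥Ebar, ∃ u : ↥(Subgroup.normalizer (P : Set X)), (u : X) ∈ E ∧
      cj P u = (a : MulAut ↥P) := by
    intro a
    have ha : (a : MulAut ↥P) ∈ EN.map (cj P) := hEbar.le a.2
    obtain ⟨u, hu, hua⟩ := ha
    exact ⟨u, (hmemEN u).mp hu, hua⟩
  have hEbar_c : ∀ a b : ↥Ebar, a * b = b * a := by
    intro a b
    obtain ⟨u, hu, hua⟩ := hrep a
    obtain ⟨v, hv, hvb⟩ := hrep b
    apply Subtype.ext
    show (a : MulAut ↥P) * b = b * a
    rw [← hua, ← hvb, ← map_mul, ← map_mul]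
    congr 1
    apply Subtype.ext
    exact h.hEc _ hu _ hv
  have hkey : ∀ a b : ↥Ebar, a ^ p = 1 → b ^ p = 1 → b ≠ 1 → a ∈ Subgroup.zpowers b := by
    intro a b ha hb hb1
    by_contra hab
    obtain ⟨u, hu, hua⟩ := hrep a
    obtain ⟨v, hv, hvb⟩ := hrep b
    -- `u ^ p` and `v ^ p` centralize `P`, hence `K`
    have hpowP : ∀ (c : ↥Ebar) (w : ↥(Subgroup.normalizer (P : Set X))),
        cj P w = (c : MulAut ↥P) → c ^ p = 1 → ∀ x ∈ P, (w : X) ^ p * x = x * (w : X) ^ p := by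
      intro c w hwc hc x hx
      have h1 : cj P (w ^ p) = 1 := by
        rw [map_pow, hwc]
        have h2 := congrArg Subtype.val hc
        simpa using h2
      have h3 := (cj_eq_one_iff P (w ^ p)).mp h1 x hx
      simpa using h3
    have huK := h.cent_P_cent_K hqp ((u : X) ^ p) (E.pow_mem hu p) (hpowP a u hua ha)
    have hvK := h.cent_P_cent_K hqp ((v : X) ^ p) (E.pow_mem hv p) (hpowP b v hvb hb)
    have hv1 : ∃ x ∈ P, (v : X) * x ≠ x * v := by
      by_contra hcon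
      push Not at hcon
      apply hb1
      apply Subtype.ext
      show (b : MulAut ↥P) = 1
      rw [← hvb, cj_eq_one_iff]
      exact hcon
    have huv : ∀ j : ℕ, ∃ x ∈ P, ((u : X) * (v : X) ^ j) * x ≠ x * ((u : X) * (v : X) ^ j) := by
      intro j
      by_contra hcon
      push Not at hcon
      apply hab
      have h1 : cj P (u * v ^ j) = 1 := by
        rw [cj_eq_one_iff]
        intro x hx
        have h2 := hcon x hx
        simpa using h2
      rw [map_mul, map_pow, hua, hvb] at h1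
      have h2 : a * b ^ j = 1 := by
        apply Subtype.ext
        simpa using h1
      have h3 : a = (b ^ j)⁻¹ := eq_inv_of_mul_eq_one_left h2
      rw [h3]
      exact Subgroup.inv_mem _ (Subgroup.pow_mem _ (Subgroup.mem_zpowers b) j)
    -- the generation lemma on `K`
    obtain ⟨Ψ, hΨ⟩ : ∃ Ψ : ↥E →* MulAut ↥K,
        Ψ = Cfsg.Agent.Lib.Helper24.ConjAction.conjHom E K h.hEK := ⟨_, rfl⟩
    have hΨapp : ∀ (w : ↥E) (k : ↥K), ((Ψ w k : ↥K) : X) = w * k * (w : X)⁻¹ := by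
      intro w k
      rw [hΨ]
      exact Cfsg.Agent.Lib.Helper24.ConjAction.conjHom_apply E K h.hEK w k
    have hΨone : ∀ w : ↥E, (∀ k ∈ K, (w : X) * k = k * w) → Ψ w = 1 := by
      intro w hw
      apply MulEquiv.ext
      intro k
      apply Subtype.ext
      rw [hΨapp, MulAut.one_apply]
      exact conj_eq (hw k k.2)
    obtain ⟨α, hα⟩ : ∃ α : MulAut ↥K, α = Ψ ⟨(u : X), hu⟩ := ⟨_, rfl⟩
    obtain ⟨β, hβ⟩ : ∃ β : MulAut ↥K, β = Ψ ⟨(v : X), hv⟩ := ⟨_, rfl⟩
    have hαp : α ^ p = 1 := by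
      rw [hα, ← map_pow]
      apply hΨone
      intro k hk
      have h1 := huK k hk
      simpa using h1
    have hβp : β ^ p = 1 := by
      rw [hβ, ← map_pow]
      apply hΨone
      intro k hk
      have h1 := hvK k hk
      simpa using h1
    have hαβ : Commute α β := by
      show α * β = β * α
      rw [hα, hβ, ← map_mul, ← map_mul]
      congr 1
      apply Subtype.ext
      exact h.hEc _ hu _ hv
    have hnil : Group.IsNilpotent ↥K := h.hK.isNilpotent
    have hpK : ¬ p ∣ Nat.card ↥K := by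
      obtain ⟨n, hn⟩ := IsPGroup.iff_card.mp h.hK
      rw [hn]
      intro hdvd
      exact hqp ((Nat.prime_dvd_prime_iff_eq hp.out hq.out).mp
        (hp.out.dvd_of_dvd_pow hdvd)).symm
    have hgen := Cfsg.Agent.Lib.Helper31.CoprimeGen.nilpotent_generation hpK α β hαβ hαp hβp
    have hfix : ∀ w : ↥E, (∃ x ∈ P, (w : X) * x ≠ x * w) →
        Cfsg.Agent.Lib.Helper31.CoprimeGen.fixSub (Ψ w) ≤
          (Subgroup.centralizer (P : Set X)).subgroupOf K := by
      intro w hw k hk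
      rw [Cfsg.Agent.Lib.Helper31.CoprimeGen.mem_fixSub] at hk
      have hkk : (w : X) * k * (w : X)⁻¹ = k := by
        have h1 := congrArg Subtype.val hk
        rwa [hΨapp] at h1
      rw [Subgroup.mem_subgroupOf, Subgroup.mem_centralizer_iff]
      intro x hx
      exact (h.frob hqp w w.2 hw k k.2 (fun x _ => by rw [hkk]) x hx).symm
    have htop : (⊤ : Subgroup ↥K) ≤ (Subgroup.centralizer (P : Set X)).subgroupOf K := by
      rw [← hgen]
      apply sup_le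
      · rw [hβ]; exact hfix _ hv1
      · apply iSup₂_le
        intro j _
        have h1 : α * β ^ j = Ψ (⟨(u : X), hu⟩ * ⟨(v : X), hv⟩ ^ j) := by
          rw [hα, hβ, map_mul, map_pow]
        rw [h1]
        apply hfix
        obtain ⟨x, hx, hxne⟩ := huv j
        exact ⟨x, hx, by simpa using hxne⟩
    apply h.hnot
    intro x hx k hk
    have h1 : (⟨k, hk⟩ : ↥K) ∈ (Subgroup.centralizer (P : Set X)).subgroupOf K :=
      htop (Subgroup.mem_top _)
    rw [Subgroup.mem_subgroupOf] at h1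
    exact (Subgroup.mem_centralizer_iff.mp h1 x hx).symm
  obtain ⟨ebar, hebar⟩ := exists_generator hEbar_p hEbar_c hkey
  obtain ⟨u, hu, hue⟩ := hrep ebar
  refine ⟨(u : X), hu, ?_⟩
  intro f hf
  have hfbar : cj P ⟨f, h.hEP hf⟩ ∈ Ebar := by
    rw [hEbar]
    exact Subgroup.mem_map_of_mem _ ((hmemEN _).mpr hf)
  have h1 := hebar ⟨_, hfbar⟩
  have h2 := Subgroup.mem_map_of_mem Ebar.subtype h1
  rw [MonoidHom.map_zpowers] at h2
  have h3 : cj P ⟨f, h.hEP hf⟩ ∈ Subgroup.zpowers (ebar : MulAut ↥P) := by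
    simpa using h2
  rw [← hue] at h3
  exact h3

/-- No minimal counterexample exists when `p` is odd. -/
theorem false_of_odd (h : MinCfg p q P K E) (hp2 : p ≠ 2) : False := by
  obtain ⟨e₀, he₀, hgen⟩ := h.exists_gen hqp
  obtain ⟨-, -, hcm⟩ := h.special hqp
  obtain ⟨KN, hKN⟩ : ∃ KN : Subgroup ↥(Subgroup.normalizer (P : Set X)),
      KN = K.subgroupOf (Subgroup.normalizer (P : Set X)) := ⟨_, rfl⟩
  obtain ⟨Kbar, hKbar⟩ : ∃ Kbar : Subgroup (MulAut ↥P), Kbar = KN.map (cj P) := ⟨_, rfl⟩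
  obtain ⟨ebar, hebar⟩ : ∃ ebar : MulAut ↥P, ebar = cj P ⟨e₀, h.hEP he₀⟩ := ⟨_, rfl⟩
  have hmemKN : ∀ u : ↥(Subgroup.normalizer (P : Set X)), u ∈ KN ↔ (u : X) ∈ K := by
    intro u; rw [hKN, Subgroup.mem_subgroupOf]
  have hmemKbar : ∀ k (hk : k ∈ K), cj P ⟨k, h.hKP hk⟩ ∈ Kbar := by
    intro k hk
    rw [hKbar]
    exact Subgroup.mem_map_of_mem _ ((hmemKN _).mpr hk)
  have hodd : Odd (Nat.card ↥P) := by
    obtain ⟨n, hn⟩ := IsPGroup.iff_card.mp h.hP
    rw [hn]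
    exact Odd.pow (hp.out.odd_of_ne_two hp2)
  have hcop : (Nat.card ↥Kbar).Coprime (Nat.card ↥P) := by
    have h1 : Nat.card ↥Kbar ∣ Nat.card ↥KN := by
      rw [hKbar]; exact Subgroup.card_map_dvd _ _
    have h2 : Nat.card ↥KN = Nat.card ↥K := by
      rw [hKN]
      exact Nat.card_congr (Subgroup.subgroupOfEquivOfLe h.hKP).toEquiv
    rw [h2] at h1
    exact Nat.Coprime.coprime_dvd_left h1 (card_coprime hqp h.hK h.hP)
  have hn : ∀ k ∈ Kbar, ebar * k * ebar⁻¹ ∈ Kbar := by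
    intro k hk
    rw [hKbar] at hk
    obtain ⟨u, hu, rfl⟩ := hk
    have hu' := (hmemKN u).mp hu
    have h1 : ebar * cj P u * ebar⁻¹ =
        cj P ⟨e₀ * (u : X) * e₀⁻¹, h.hKP (conj_mem_of_mem_normalizer (h.hEK he₀) hu')⟩ := by
      rw [hebar, ← map_inv, ← map_mul, ← map_mul]
      rfl
    rw [h1]
    exact hmemKbar _ (conj_mem_of_mem_normalizer (h.hEK he₀) hu')
  have hcenter : ∀ x : ↥P, x ∈ Subgroup.center ↥P ↔ ∀ y ∈ P, y * (x : X) = x * y := by
    intro x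
    rw [Subgroup.mem_center_iff]
    constructor
    · intro hx y hy; exact congrArg Subtype.val (hx ⟨y, hy⟩)
    · intro hx y; exact Subtype.ext (hx y y.2)
  have ha : ∀ x : ↥P, (∀ k ∈ Kbar, x⁻¹ * k x ∈ Subgroup.center ↥P) →
      x ∈ Subgroup.center ↥P := by
    intro x hx
    rw [hcenter]
    apply h.fixed_mod_center hqp x x.2
    intro k hk
    have h1 := hx (cj P ⟨k, h.hKP hk⟩) (hmemKbar k hk)
    refine ⟨_, h1, ?_⟩
    simp only [Subgroup.coe_subtype, Subgroup.coe_mul, Subgroup.coe_inv, cj_apply]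
    group
  have hF2 : ∀ x : ↥P, ebar x = x → x ∈ Subgroup.center ↥P := by
    intro x hx
    rw [hcenter]
    have hE : ∀ f ∈ E, f * (x : X) = x * f := by
      intro f hf
      have h1 := hgen f hf
      have h2 : Subgroup.zpowers (cj P ⟨e₀, h.hEP he₀⟩) ≤
          MulAction.stabilizer (MulAut ↥P) x := by
        rw [Subgroup.zpowers_le, MulAction.mem_stabilizer_iff]
        rw [hebar] at hx
        exact hx
      have h3 : cj P ⟨f, h.hEP hf⟩ x = x := MulAction.mem_stabilizer_iff.mp (h2 h1)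
      have h4 := congrArg Subtype.val h3
      rw [cj_apply] at h4
      calc f * (x : X) = f * x * f⁻¹ * f := by group
        _ = x * f := by rw [h4]
    exact h.cent_le_center hqp x x.2 (h.hC x x.2 hE)
  have hFrob : ∀ i : ℕ, ebar ^ i ≠ 1 → ∀ k ∈ Kbar, ebar ^ i * k = k * ebar ^ i → k = 1 := by
    intro i hi k hk hcomm
    rw [hKbar] at hk
    obtain ⟨u, hu, rfl⟩ := hk
    have hu' := (hmemKN u).mp hu
    have hei : e₀ ^ i ∈ E := E.pow_mem he₀ i
    have hne : ∃ x ∈ P, e₀ ^ i * x ≠ x * e₀ ^ i := by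
      by_contra hcon
      push Not at hcon
      apply hi
      rw [hebar, ← map_pow, cj_eq_one_iff]
      intro x hx
      have h1 := hcon x hx
      simpa using h1
    have hact : ∀ x ∈ P, (e₀ ^ i * u * (e₀ ^ i)⁻¹) * x * (e₀ ^ i * u * (e₀ ^ i)⁻¹)⁻¹ =
        u * x * (u : X)⁻¹ := by
      have h1 : cj P (⟨e₀, h.hEP he₀⟩ ^ i * u * (⟨e₀, h.hEP he₀⟩ ^ i)⁻¹) = cj P u := by
        rw [map_mul, map_mul, map_inv, map_pow, ← hebar, hcomm]
        group
      intro x hx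
      have h2 := (cj_eq_iff P _ _).mp h1 x hx
      simpa using h2
    have hcent := h.frob hqp (e₀ ^ i) hei hne u hu' hact
    rw [cj_eq_one_iff]
    intro x hx
    exact hcent x hx
  have hall := Cfsg.Agent.Lib.Helper90.TTNorm.abelian_of_frobenius_action hodd hcm Kbar hcop
    ebar hn ha hF2 hFrob
  apply h.nonabelian hqp
  intro x hx y hy
  exact ((hcenter ⟨y, hy⟩).mp (hall ⟨y, hy⟩)) x hx

end MinCfg

/-- **Core lemma, odd case.**  `P` a `p`-group (`p` odd), `K` a `q`-group (`q ≠ p`), `E` an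
abelian `p`-group; `K` and `E` normalize `P`, `E` normalizes `K`, and `K` centralizes `C_P(E)`.
Then `K` centralizes `P`. -/
theorem core_odd [Finite X] {p q : ℕ} [Fact p.Prime] [Fact q.Prime] (hp2 : p ≠ 2) (hqp : q ≠ p)
    (P K E : Subgroup X) (hP : IsPGroup p P) (hK : IsPGroup q K) (hE : IsPGroup p E)
    (hEc : ∀ a ∈ E, ∀ b ∈ E, a * b = b * a)
    (hKP : K ≤ Subgroup.normalizer (P : Set X)) (hEP : E ≤ Subgroup.normalizer (P : Set X))
    (hEK : E ≤ Subgroup.normalizer (K : Set X))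
    (hC : ∀ x ∈ P, (∀ e ∈ E, e * x = x * e) → ∀ k ∈ K, k * x = x * k) :
    ∀ x ∈ P, ∀ k ∈ K, k * x = x * k := by
  suffices H : ∀ n : ℕ, ∀ P K : Subgroup X, Nat.card P + Nat.card K = n → IsPGroup p P →
      IsPGroup q K → K ≤ Subgroup.normalizer (P : Set X) →
      E ≤ Subgroup.normalizer (P : Set X) → E ≤ Subgroup.normalizer (K : Set X) →
      (∀ x ∈ P, (∀ e ∈ E, e * x = x * e) → ∀ k ∈ K, k * x = x * k) →
      ∀ x ∈ P, ∀ k ∈ K, k * x = x * k from H _ P K rfl hP hK hKP hEP hEK hC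
  intro n
  induction n using Nat.strong_induction_on with
  | _ n ih =>
    intro P K hn hP hK hKP hEP hEK hC
    by_contra hnot
    have hmin : MinCfg p q P K E :=
      { hP := hP, hK := hK, hE := hE, hEc := hEc, hKP := hKP, hEP := hEP, hEK := hEK, hC := hC
        hnot := hnot
        minK := fun K' hK' hEK' =>
          ih (Nat.card P + Nat.card K')
            (by
              rw [← hn]
              exact Nat.add_lt_add_left
                (Cfsg.Agent.Lib.Helper24.Coprime.card_lt_of_le_of_ne hK'.le hK'.ne) _)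
            P K' rfl hP (hK.to_le hK'.le) (hK'.le.trans hKP) hEP hEK'
            (fun x hx hxe k hk => hC x hx hxe k (hK'.le hk))
        minP := fun U hU hKU hEU =>
          ih (Nat.card U + Nat.card K)
            (by
              rw [← hn]
              exact Nat.add_lt_add_right
                (Cfsg.Agent.Lib.Helper24.Coprime.card_lt_of_le_of_ne hU.le hU.ne) _)
            U K rfl (hP.to_le hU.le) hK hKU hEU hEK
            (fun x hx hxe k hk => hC x (hU.le hx) hxe k hk) }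
    exact hmin.false_of_odd hqp hp2

end Cfsg.Agent.Lib.Helper90.TTCore
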