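import Mathlib
import Cfsg.Prelude.Def_Local
import Cfsg.Agent.Lib.Helper90.TTCore
import Cfsg.Agent.Lib.Helper11.ZJQuot
import Cfsg.Agent.Lib.Helper31.InvSylow
import Cfsg.Agent.Lib.Helper23.Cores

set_option autoImplicit false

/-
helper90: the key lemma behind Thompson's transitivity theorem.

`X` a finite `p`-constrained group, `A` an abelian `p`-subgroup containing every `p`-element of
its centralizer, `K` an `A`-invariant `q`-subgroup (`q ≠ p`).  Then `K ≤ O_{p'}(X)`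
(`le_pPrimeCore_of_invariant`; for `p = 2` one assumes that `p`-subgroups have class at most
two).  `le_pPrimeCoreOf_of_invariant` is the version for a subgroup `N` of a group `G`.
-/

namespace Cfsg.Agent.Lib.Helper90.TTKey

open scoped commutatorElement

open Cfsg.Agent.Lib.Helper90.Conj Cfsg.Agent.Lib.Helper90.TTCore

theorem eq_one_of_mem_pq {Y : Type*} [Group Y] [Finite Y] {p q : ℕ} [Fact p.Prime]
    [Fact q.Prime] (hqp : q ≠ p) {H₁ H₂ : Subgroup Y} (h1 : IsPGroup p H₁) (h2 : IsPGroup q H₂)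
    {g : Y} (hg1 : g ∈ H₁) (hg2 : g ∈ H₂) : g = 1 := by
  have hd1 : orderOf g ∣ Nat.card H₁ := Subgroup.orderOf_dvd_natCard H₁ hg1
  have hd2 : orderOf g ∣ Nat.card H₂ := Subgroup.orderOf_dvd_natCard H₂ hg2
  have hcop := IsPGroup.coprime_card_of_ne p q (Ne.symm hqp) H₁ H₂ h1 h2
  exact orderOf_eq_one_iff.mp
    (Nat.Coprime.eq_one_of_dvd (Nat.Coprime.coprime_dvd_left hd1 hcop) hd2)

variable {X : Type*} [Group X] [Finite X] {p q : ℕ} [hp : Fact p.Prime] [hq : Fact q.Prime]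

/-- **Key lemma** (type form). -/
theorem le_pPrimeCore_of_invariant (hqp : q ≠ p) (hc : Cfsg.IsPConstrained p X)
    (h2 : p = 2 → ∀ R : Subgroup X, IsPGroup p R → ∀ x ∈ R, ∀ y ∈ R, ∀ z ∈ R, ⁅⁅x, y⁆, z⁆ = 1)
    (A K : Subgroup X) (hA : IsPGroup p A) (hAc : ∀ a ∈ A, ∀ b ∈ A, a * b = b * a)
    (hfull : ∀ x : X, (∀ a ∈ A, a * x = x * a) → (∃ k : ℕ, x ^ p ^ k = 1) → x ∈ A)
    (hK : IsPGroup q K) (hAK : A ≤ Subgroup.normalizer (K : Set X)) :
    K ≤ Cfsg.pPrimeCore p X := by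
  obtain ⟨π, hπ⟩ : ∃ π : X →* X ⧸ Cfsg.pPrimeCore p X,
      π = QuotientGroup.mk' (Cfsg.pPrimeCore p X) := ⟨_, rfl⟩
  have hWcop : (Nat.card (Cfsg.pPrimeCore p X)).Coprime p :=
    Cfsg.Agent.Lib.Helper23.Cores.pPrimeCore_card_coprime p
  have hker : ∀ x : X, π x = 1 ↔ x ∈ Cfsg.pPrimeCore p X := by
    intro x; rw [hπ]; exact QuotientGroup.eq_one_iff x
  have hsurj : Function.Surjective π := by
    rw [hπ]; exact QuotientGroup.mk'_surjective _
  obtain ⟨Qb, hQb⟩ : ∃ Qb : Subgroup (X ⧸ Cfsg.pPrimeCore p X),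
      Qb = Cfsg.pCore p (X ⧸ Cfsg.pPrimeCore p X) := ⟨_, rfl⟩
  obtain ⟨Kb, hKb⟩ : ∃ Kb : Subgroup (X ⧸ Cfsg.pPrimeCore p X), Kb = K.map π := ⟨_, rfl⟩
  obtain ⟨Ab, hAb⟩ : ∃ Ab : Subgroup (X ⧸ Cfsg.pPrimeCore p X), Ab = A.map π := ⟨_, rfl⟩
  have hQbp : IsPGroup p Qb := by
    rw [hQb]; exact Cfsg.Agent.Lib.Helper23.Cores.pCore_isPGroup p
  have hKbq : IsPGroup q Kb := by rw [hKb]; exact hK.map π
  have hAbp : IsPGroup p Ab := by rw [hAb]; exact hA.map π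
  have hAbc : ∀ a ∈ Ab, ∀ b ∈ Ab, a * b = b * a := by
    rw [hAb]
    rintro _ ⟨a, ha, rfl⟩ _ ⟨b, hb, rfl⟩
    rw [← map_mul, ← map_mul, hAc a ha b hb]
  have hQn : Qb.Normal := by rw [hQb]; infer_instance
  have hKQ : Kb ≤ Subgroup.normalizer (Qb : Set (X ⧸ Cfsg.pPrimeCore p X)) := by
    rw [Subgroup.normalizer_eq_top]; exact le_top
  have hAQ : Ab ≤ Subgroup.normalizer (Qb : Set (X ⧸ Cfsg.pPrimeCore p X)) := by
    rw [Subgroup.normalizer_eq_top]; exact le_top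
  have hAKb : Ab ≤ Subgroup.normalizer (Kb : Set (X ⧸ Cfsg.pPrimeCore p X)) := by
    apply le_normalizer_of_conj
    rw [hAb, hKb]
    rintro _ ⟨a, ha, rfl⟩ _ ⟨k, hk, rfl⟩
    exact ⟨a * k * a⁻¹, conj_mem_of_mem_normalizer (hAK ha) hk, by simp⟩
  have hC : ∀ x ∈ Qb, (∀ e ∈ Ab, e * x = x * e) → ∀ k ∈ Kb, k * x = x * k := by
    intro xb hxb hxe kb hkb
    obtain ⟨x, rfl⟩ := hsurj xb
    have hcos : ∀ a ∈ A, x⁻¹ * (a * x * a⁻¹) ∈ Cfsg.pPrimeCore p X := by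
      intro a ha
      rw [← hker]
      have h1 := hxe (π a) (by rw [hAb]; exact Subgroup.mem_map_of_mem π ha)
      rw [map_mul, map_inv, map_mul, map_mul, map_inv, h1]
      group
    have hWp : ¬ p ∣ Nat.card (Cfsg.pPrimeCore p X) := fun hd =>
      (Nat.Prime.coprime_iff_not_dvd hp.out).mp hWcop.symm hd
    obtain ⟨n, hn, hfix⟩ := Cfsg.Agent.Lib.Helper31.InvSylow.exists_fixed_in_coset_pgroup A
      (Cfsg.pPrimeCore p X) hA hWp
      (fun a _ n hn => (inferInstance : (Cfsg.pPrimeCore p X).Normal).conj_mem n hn a) x hcos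
    obtain ⟨y, hy⟩ : ∃ y : X, y = x * n := ⟨_, rfl⟩
    rw [← hy] at hfix
    have hπy : π y = π x := by rw [hy, map_mul, (hker n).mpr hn, mul_one]
    obtain ⟨j, hj⟩ : ∃ j : ℕ, (π x) ^ p ^ j = 1 := by
      obtain ⟨j, hj⟩ := hQbp ⟨π x, hxb⟩
      exact ⟨j, by simpa using congrArg Subtype.val hj⟩
    obtain ⟨N, hN⟩ : ∃ N : ℕ, N = Nat.card (Cfsg.pPrimeCore p X) := ⟨_, rfl⟩
    rw [← hN] at hWcop
    have hz : (y ^ N) ^ p ^ j = 1 := by
      have h1 : y ^ p ^ j ∈ Cfsg.pPrimeCore p X := by rw [← hker, map_pow, hπy, hj]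
      have h2 : (y ^ p ^ j) ^ N = 1 := by
        have h3 : (⟨y ^ p ^ j, h1⟩ : ↥(Cfsg.pPrimeCore p X)) ^ N = 1 := by
          rw [hN]; exact pow_card_eq_one'
        exact congrArg Subtype.val h3
      rw [← pow_mul, mul_comm, pow_mul]
      exact h2
    have hzA : y ^ N ∈ A := hfull _ (fun a ha =>
      (Commute.pow_right (show Commute a y from hfix a ha) N).eq) ⟨j, hz⟩
    have hcopN : N.Coprime (orderOf (π x)) :=
      Nat.Coprime.coprime_dvd_right (orderOf_dvd_of_pow_eq_one hj) (Nat.Coprime.pow_right j hWcop)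
    obtain ⟨m, hm⟩ := exists_pow_eq_self_of_coprime hcopN
    have hxA : π x ∈ Ab := by
      rw [← hm, ← hπy, ← map_pow, ← map_pow, hAb]
      exact Subgroup.mem_map_of_mem π (A.pow_mem hzA m)
    rw [hAb] at hxA
    obtain ⟨a, ha, hax⟩ := hxA
    rw [hKb] at hkb
    obtain ⟨k, hk, rfl⟩ := hkb
    have hcQ : π k * π x * (π k)⁻¹ * (π x)⁻¹ ∈ Qb :=
      Qb.mul_mem (hQn.conj_mem _ hxb _) (Qb.inv_mem hxb)
    have hcK : π k * π x * (π k)⁻¹ * (π x)⁻¹ ∈ Kb := by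
      rw [← hax, hKb]
      exact ⟨k * (a * k⁻¹ * a⁻¹),
        K.mul_mem hk (conj_mem_of_mem_normalizer (hAK ha) (K.inv_mem hk)), by simp [mul_assoc]⟩
    have hc1 : π k * π x * (π k)⁻¹ * (π x)⁻¹ = 1 := eq_one_of_mem_pq hqp hQbp hKbq hcQ hcK
    calc π k * π x = (π k * π x * (π k)⁻¹ * (π x)⁻¹) * π x * π k := by group
      _ = π x * π k := by rw [hc1, one_mul]
  have hcent : ∀ x ∈ Qb, ∀ k ∈ Kb, k * x = x * k := by
    by_cases hp2 : p = 2
    · apply core_class2 hqp Qb Kb Ab hQbp hKbq hAbp hAbc hKQ hAQ hAKb hC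
      -- lift the class-two identity to a Sylow subgroup of the preimage
      have hRbp : IsPGroup p (Qb ⊔ Ab : Subgroup (X ⧸ Cfsg.pPrimeCore p X)) :=
        hQbp.to_sup_of_normal_left hAbp
      obtain ⟨M, hM⟩ : ∃ M : Subgroup X, M = (Qb ⊔ Ab).comap π := ⟨_, rfl⟩
      have hWM : Cfsg.pPrimeCore p X ≤ M := by
        intro w hw
        rw [hM, Subgroup.mem_comap, (hker w).mpr hw]
        exact one_mem _
      have hMK : ∀ x ∈ M, ∃ k : ℕ, x ^ (p ^ k) ∈ Cfsg.pPrimeCore p X := by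
        intro x hx
        rw [hM, Subgroup.mem_comap] at hx
        obtain ⟨k, hk⟩ := hRbp ⟨π x, hx⟩
        refine ⟨k, ?_⟩
        rw [← hker, map_pow]
        simpa using congrArg Subtype.val hk
      obtain ⟨S⟩ : Nonempty (Sylow p ↥M) := inferInstance
      have hsup := Cfsg.Agent.Lib.Helper11.PConstr.sylow_sup_eq M (Cfsg.pPrimeCore p X) hWM hMK S
      obtain ⟨S', hS'⟩ : ∃ S' : Subgroup X, S' = (S : Subgroup ↥M).map M.subtype := ⟨_, rfl⟩
      rw [← hS'] at hsup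
      have hS'p : IsPGroup p S' := by rw [hS']; exact S.2.map _
      have hRb : Qb ⊔ Ab = S'.map π := by
        have h1 : M.map π = Qb ⊔ Ab := by
          rw [hM]; exact Subgroup.map_comap_eq_self_of_surjective hsurj _
        rw [← h1, ← hsup, Subgroup.map_sup]
        have h3 : (Cfsg.pPrimeCore p X).map π = ⊥ := by
          rw [hπ]; exact Cfsg.Agent.Lib.Helper11.ZJQuot.map_pPrimeCore_eq_bot
        rw [h3, sup_bot_eq]
      rw [hRb]
      rintro _ ⟨x, hx, rfl⟩ _ ⟨y, hy, rfl⟩ _ ⟨z, hz, rfl⟩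
      rw [← map_commutatorElement, ← map_commutatorElement, h2 hp2 S' hS'p x hx y hy z hz,
        map_one]
    · exact core_odd hp2 hqp Qb Kb Ab hQbp hKbq hAbp hAbc hKQ hAQ hAKb hC
  have hKbQ : Kb ≤ Qb := by
    intro k hk
    rw [hQb]
    apply Cfsg.Agent.Lib.Helper11.ZJQuot.centralizer_pCore_quotient_le hc
    rw [Subgroup.mem_centralizer_iff]
    intro x hx
    exact (hcent x (by rw [hQb]; exact hx) k hk).symm
  intro k hk
  rw [← hker]
  have h1 : π k ∈ Kb := by rw [hKb]; exact Subgroup.mem_map_of_mem π hk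
  exact eq_one_of_mem_pq hqp hQbp hKbq (hKbQ h1) h1

/-- **Key lemma** (subgroup form): `N` a `p`-constrained subgroup of `G` containing `A` and
`K`. -/
theorem le_pPrimeCoreOf_of_invariant {G : Type*} [Group G] [Finite G] (hqp : q ≠ p)
    (N : Subgroup G) (hc : Cfsg.IsPConstrained p ↥N)
    (h2 : p = 2 → ∀ R : Subgroup G, IsPGroup p R → ∀ x ∈ R, ∀ y ∈ R, ∀ z ∈ R, ⁅⁅x, y⁆, z⁆ = 1)
    (A K : Subgroup G) (hAN : A ≤ N) (hKN : K ≤ N) (hA : IsPGroup p A)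
    (hAc : ∀ a ∈ A, ∀ b ∈ A, a * b = b * a)
    (hfull : ∀ x : G, (∀ a ∈ A, a * x = x * a) → (∃ k : ℕ, x ^ p ^ k = 1) → x ∈ A)
    (hK : IsPGroup q K) (hAK : A ≤ Subgroup.normalizer (K : Set G)) :
    K ≤ (Cfsg.pPrimeCore p ↥N).map N.subtype := by
  have key := le_pPrimeCore_of_invariant (X := ↥N) hqp hc
    (fun hp2 R hR x hx y hy z hz => by
      have hRG : IsPGroup p (R.map N.subtype) := hR.map _
      have h3 := h2 hp2 (R.map N.subtype) hRG x (Subgroup.mem_map_of_mem _ hx) y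
        (Subgroup.mem_map_of_mem _ hy) z (Subgroup.mem_map_of_mem _ hz)
      apply Subtype.ext
      simpa [commutatorElement_def] using h3)
    (A.subgroupOf N) (K.subgroupOf N) hA.comap_subtype
    (fun a ha b hb => Subtype.ext (hAc a (Subgroup.mem_subgroupOf.mp ha) b
      (Subgroup.mem_subgroupOf.mp hb)))
    (fun x hx hxp => by
      rw [Subgroup.mem_subgroupOf]
      apply hfull
      · intro a ha
        exact congrArg Subtype.val (hx ⟨a, hAN ha⟩ (Subgroup.mem_subgroupOf.mpr ha))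
      · obtain ⟨k, hk⟩ := hxp
        exact ⟨k, by simpa using congrArg Subtype.val hk⟩)
    hK.comap_subtype
    (by
      apply le_normalizer_of_conj
      intro a ha k hk
      rw [Subgroup.mem_subgroupOf] at ha hk ⊢
      exact conj_mem_of_mem_normalizer (hAK ha) hk)
  intro k hk
  exact ⟨⟨k, hKN hk⟩, key (Subgroup.mem_subgroupOf.mpr hk), rfl⟩

omit hp in
/-- Sylow `p`-subgroups of class at most two: the commutator identity on every `p`-subgroup. -/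
theorem class_two_of_sylow {G : Type*} [Group G] [Finite G]
    (h : ∀ S : Sylow p G, Group.IsNilpotent (S : Subgroup G) ∧
      Group.nilpotencyClass (S : Subgroup G) ≤ 2) :
    ∀ R : Subgroup G, IsPGroup p R → ∀ x ∈ R, ∀ y ∈ R, ∀ z ∈ R, ⁅⁅x, y⁆, z⁆ = 1 := by
  intro R hR x hx y hy z hz
  obtain ⟨S, hRS⟩ := hR.exists_le_sylow
  obtain ⟨hnil, hcl⟩ := h S
  have h1 : Subgroup.lowerCentralSeries (⊤ : Subgroup ↥(S : Subgroup G)) 2 = ⊥ :=
    Subgroup.lowerCentralSeries_eq_bot_iff_nilpotencyClass_le.mpr hcl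
  obtain ⟨xs, hxs⟩ : ∃ xs : ↥(S : Subgroup G), (xs : G) = x := ⟨⟨x, hRS hx⟩, rfl⟩
  obtain ⟨ys, hys⟩ : ∃ ys : ↥(S : Subgroup G), (ys : G) = y := ⟨⟨y, hRS hy⟩, rfl⟩
  obtain ⟨zs, hzs⟩ : ∃ zs : ↥(S : Subgroup G), (zs : G) = z := ⟨⟨z, hRS hz⟩, rfl⟩
  have h2 : ⁅⁅xs, ys⁆, zs⁆ ∈
      Subgroup.lowerCentralSeries (⊤ : Subgroup ↥(S : Subgroup G)) 2 := by
    rw [Subgroup.lowerCentralSeries_succ, Subgroup.lowerCentralSeries_succ,
      Subgroup.lowerCentralSeries_zero]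
    exact Subgroup.commutator_mem_commutator
      (Subgroup.commutator_mem_commutator (Subgroup.mem_top _) (Subgroup.mem_top _))
      (Subgroup.mem_top _)
  rw [h1, Subgroup.mem_bot] at h2
  have h3 := congrArg Subtype.val h2
  rw [← hxs, ← hys, ← hzs]
  simpa [commutatorElement_def] using h3

end Cfsg.Agent.Lib.Helper90.TTKey
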