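import Mathlib
import Cfsg.Prelude.Def_Local
import Cfsg.Agent.Lib.Helper90.TTCore
import Cfsg.Agent.Lib.Helper90.TTKey
import Cfsg.Agent.Lib.Helper11.ZJQuot
import Cfsg.Agent.Lib.Helper31.InvSylow
import Cfsg.Agent.Lib.Helper23.Cores
import Cfsg.Agent.S3736

set_option autoImplicit false

/-
helper90: the `Ω₁`-versions (odd `p`) of the key lemmas behind Thompson transitivity.

* `core_odd_omega`: `P` a `p`-group (`p` odd), `K` a `q`-group, `E` an abelian `p`-group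
  normalizing both; if `K` centralizes every element of order dividing `p` of `C_P(E)` then
  `K` centralizes `P`.
* `le_pPrimeCore_of_invariant_omega`: `X` `p`-constrained, `p` odd, `A` an abelian `p`-subgroup
  containing every element of order `p` of `C_X(A)`, `K` an `A`-invariant `q`-subgroup: then
  `K ≤ O_{p'}(X)`.
* `le_pPrimeCore_of_invariant_pprime`: the same for an arbitrary `A`-invariant `p'`-subgroup.
-/

namespace Cfsg.Agent.Lib.Helper90.TTOmega

open scoped commutatorElement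

open Cfsg.Agent.Lib.Helper90.Conj Cfsg.Agent.Lib.Helper90.TTCore Cfsg.Agent.Lib.Helper90.TTKey

theorem card_lt {X : Type*} [Group X] [Finite X] {H K : Subgroup X} (h : H < K) :
    Nat.card H < Nat.card K := by
  by_contra hcon
  push Not at hcon
  exact h.ne (Subgroup.eq_of_le_of_card_ge h.le hcon)

theorem core_odd_omega {X : Type*} [Group X] [Finite X] {p q : ℕ} [Fact p.Prime]
    [Fact q.Prime] (hp2 : p ≠ 2) (hqp : q ≠ p)
    (P K E : Subgroup X) (hP : IsPGroup p P) (hK : IsPGroup q K) (hE : IsPGroup p E)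
    (hEc : ∀ a ∈ E, ∀ b ∈ E, a * b = b * a)
    (hKP : K ≤ Subgroup.normalizer (P : Set X)) (hEP : E ≤ Subgroup.normalizer (P : Set X))
    (hEK : E ≤ Subgroup.normalizer (K : Set X))
    (hC : ∀ x ∈ P, x ^ p = 1 → (∀ e ∈ E, e * x = x * e) → ∀ k ∈ K, k * x = x * k) :
    ∀ x ∈ P, ∀ k ∈ K, k * x = x * k := by
  have key : ∀ n : ℕ, ∀ U : Subgroup X, Nat.card U = n → U ≤ P →
      K ≤ Subgroup.normalizer (U : Set X) → E ≤ Subgroup.normalizer (U : Set X) →
      ∀ x ∈ U, ∀ k ∈ K, k * x = x * k := by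
    intro n
    induction n using Nat.strong_induction_on with
    | _ n ih =>
      intro U hUn hUP hKU hEU
      by_contra hnot
      have hUp : IsPGroup p U := hP.to_le hUP
      have hnt : ⁅U, K⁆ ≠ ⊥ := by
        intro hbot
        apply hnot
        intro x hx k hk
        have h1 := (Subgroup.commutator_eq_bot_iff_le_centralizer.mp hbot) hx
        exact Subgroup.mem_centralizer_iff.mp h1 k hk
      have hmin : ∀ V : Subgroup X, V < U → K ⊔ E ≤ Subgroup.normalizer (V : Set X) →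
          ⁅V, K⁆ = ⊥ := by
        intro V hV hBV
        rw [Subgroup.commutator_eq_bot_iff_le_centralizer]
        intro x hx
        rw [Subgroup.mem_centralizer_iff]
        intro k hk
        exact ih (Nat.card V) (by rw [← hUn]; exact card_lt hV) V rfl (hV.le.trans hUP)
          (le_sup_left.trans hBV) (le_sup_right.trans hBV) x hx k hk
      have hres := Cfsg.Agent.S3736.result (K ⊔ E) K U hUp (sup_le hKU hEU) le_sup_left
        (sup_le Subgroup.le_normalizer hEK) (coprime_p hqp hK) hnt hmin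
      have hexp := hres.2.2.2 hp2
      exact hnot (core_odd hp2 hqp U K E hUp hK hE hEc hKU hEU hEK
        (fun x hx hxE => hC x (hUP hx) (hexp x hx) hxE))
  exact key _ P rfl le_rfl hKP hEP

variable {X : Type*} [Group X] [Finite X] {p q : ℕ} [hp : Fact p.Prime] [hq : Fact q.Prime]

/-- **Key lemma**, `Ω₁`-form, `p` odd, for an `A`-invariant `q`-subgroup. -/
theorem le_pPrimeCore_of_invariant_omega (hp2 : p ≠ 2) (hqp : q ≠ p)
    (hc : Cfsg.IsPConstrained p X)
    (A K : Subgroup X) (hA : IsPGroup p A) (hAc : ∀ a ∈ A, ∀ b ∈ A, a * b = b * a)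
    (hfull : ∀ x : X, (∀ a ∈ A, a * x = x * a) → x ^ p = 1 → x ∈ A)
    (hK : IsPGroup q K) (hAK : A ≤ Subgroup.normalizer (K : Set X)) :
    K ≤ Cfsg.pPrimeCore p X := by
  obtain ⟨π, hπ⟩ : ∃ π : X →* X ⧸ Cfsg.pPrimeCore p X,
      π = QuotientGroup.mk' (Cfsg.pPrimeCore p X) := ⟨_, rfl⟩
  have hWcop : (Nat.card (Cfsg.pPrimeCore p X)).Coprime p :=
    Cfsg.Agent.Lib.Helper23.Cores.pPrimeCore_card_coprime p
  have hker : ∀ x : X, π x = 1 ↔ x ∈ Cfsg.pPrimeCore p X := by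
    intro x; rw [hπ]; exact QuotientGroup.eq_one_iff x
  have hsurj : Function.Surjective π := by
    rw [hπ]; exact QuotientGroup.mk'_surjective _
  obtain ⟨Qb, hQb⟩ : ∃ Qb : Subgroup (X ⧸ Cfsg.pPrimeCore p X),
      Qb = Cfsg.pCore p (X ⧸ Cfsg.pPrimeCore p X) := ⟨_, rfl⟩
  obtain ⟨Kb, hKb⟩ : ∃ Kb : Subgroup (X ⧸ Cfsg.pPrimeCore p X), Kb = K.map π := ⟨_, rfl⟩
  obtain ⟨Ab, hAb⟩ : ∃ Ab : Subgroup (X ⧸ Cfsg.pPrimeCore p X), Ab = A.map π := ⟨_, rfl⟩
  have hQbp : IsPGroup p Qb := by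
    rw [hQb]; exact Cfsg.Agent.Lib.Helper23.Cores.pCore_isPGroup p
  have hKbq : IsPGroup q Kb := by rw [hKb]; exact hK.map π
  have hAbp : IsPGroup p Ab := by rw [hAb]; exact hA.map π
  have hAbc : ∀ a ∈ Ab, ∀ b ∈ Ab, a * b = b * a := by
    rw [hAb]
    rintro _ ⟨a, ha, rfl⟩ _ ⟨b, hb, rfl⟩
    rw [← map_mul, ← map_mul, hAc a ha b hb]
  have hQn : Qb.Normal := by rw [hQb]; infer_instance
  have hKQ : Kb ≤ Subgroup.normalizer (Qb : Set (X ⧸ Cfsg.pPrimeCore p X)) := by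
    rw [Subgroup.normalizer_eq_top]; exact le_top
  have hAQ : Ab ≤ Subgroup.normalizer (Qb : Set (X ⧸ Cfsg.pPrimeCore p X)) := by
    rw [Subgroup.normalizer_eq_top]; exact le_top
  have hAKb : Ab ≤ Subgroup.normalizer (Kb : Set (X ⧸ Cfsg.pPrimeCore p X)) := by
    apply le_normalizer_of_conj
    rw [hAb, hKb]
    rintro _ ⟨a, ha, rfl⟩ _ ⟨k, hk, rfl⟩
    exact ⟨a * k * a⁻¹, conj_mem_of_mem_normalizer (hAK ha) hk, by simp⟩
  have hC : ∀ x ∈ Qb, x ^ p = 1 → (∀ e ∈ Ab, e * x = x * e) → ∀ k ∈ Kb, k * x = x * k := by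
    intro xb hxb hxp hxe kb hkb
    obtain ⟨x, rfl⟩ := hsurj xb
    have hcos : ∀ a ∈ A, x⁻¹ * (a * x * a⁻¹) ∈ Cfsg.pPrimeCore p X := by
      intro a ha
      rw [← hker]
      have h1 := hxe (π a) (by rw [hAb]; exact Subgroup.mem_map_of_mem π ha)
      rw [map_mul, map_inv, map_mul, map_mul, map_inv, h1]
      group
    have hWp : ¬ p ∣ Nat.card (Cfsg.pPrimeCore p X) := fun hd =>
      (Nat.Prime.coprime_iff_not_dvd hp.out).mp hWcop.symm hd
    obtain ⟨n, hn, hfix⟩ := Cfsg.Agent.Lib.Helper31.InvSylow.exists_fixed_in_coset_pgroup A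
      (Cfsg.pPrimeCore p X) hA hWp
      (fun a _ n hn => (inferInstance : (Cfsg.pPrimeCore p X).Normal).conj_mem n hn a) x hcos
    obtain ⟨y, hy⟩ : ∃ y : X, y = x * n := ⟨_, rfl⟩
    rw [← hy] at hfix
    have hπy : π y = π x := by rw [hy, map_mul, (hker n).mpr hn, mul_one]
    obtain ⟨N, hN⟩ : ∃ N : ℕ, N = Nat.card (Cfsg.pPrimeCore p X) := ⟨_, rfl⟩
    rw [← hN] at hWcop
    have hz : (y ^ N) ^ p = 1 := by
      have h1 : y ^ p ∈ Cfsg.pPrimeCore p X := by rw [← hker, map_pow, hπy, hxp]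
      have h2 : (y ^ p) ^ N = 1 := by
        have h3 : (⟨y ^ p, h1⟩ : ↥(Cfsg.pPrimeCore p X)) ^ N = 1 := by
          rw [hN]; exact pow_card_eq_one'
        exact congrArg Subtype.val h3
      rw [← pow_mul, mul_comm, pow_mul]
      exact h2
    have hzA : y ^ N ∈ A := hfull _ (fun a ha =>
      (Commute.pow_right (show Commute a y from hfix a ha) N).eq) hz
    have hcopN : N.Coprime (orderOf (π x)) :=
      Nat.Coprime.coprime_dvd_right (orderOf_dvd_of_pow_eq_one hxp) hWcop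
    obtain ⟨m, hm⟩ := exists_pow_eq_self_of_coprime hcopN
    have hxA : π x ∈ Ab := by
      rw [← hm, ← hπy, ← map_pow, ← map_pow, hAb]
      exact Subgroup.mem_map_of_mem π (A.pow_mem hzA m)
    rw [hAb] at hxA
    obtain ⟨a, ha, hax⟩ := hxA
    rw [hKb] at hkb
    obtain ⟨k, hk, rfl⟩ := hkb
    have hcQ : π k * π x * (π k)⁻¹ * (π x)⁻¹ ∈ Qb :=
      Qb.mul_mem (hQn.conj_mem _ hxb _) (Qb.inv_mem hxb)
    have hcK : π k * π x * (π k)⁻¹ * (π x)⁻¹ ∈ Kb := by
      rw [← hax, hKb]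
      exact ⟨k * (a * k⁻¹ * a⁻¹),
        K.mul_mem hk (conj_mem_of_mem_normalizer (hAK ha) (K.inv_mem hk)), by simp [mul_assoc]⟩
    have hc1 : π k * π x * (π k)⁻¹ * (π x)⁻¹ = 1 := eq_one_of_mem_pq hqp hQbp hKbq hcQ hcK
    calc π k * π x = (π k * π x * (π k)⁻¹ * (π x)⁻¹) * π x * π k := by group
      _ = π x * π k := by rw [hc1, one_mul]
  have hcent : ∀ x ∈ Qb, ∀ k ∈ Kb, k * x = x * k :=
    core_odd_omega hp2 hqp Qb Kb Ab hQbp hKbq hAbp hAbc hKQ hAQ hAKb hC
  have hKbQ : Kb ≤ Qb := by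
    intro k hk
    rw [hQb]
    apply Cfsg.Agent.Lib.Helper11.ZJQuot.centralizer_pCore_quotient_le hc
    rw [Subgroup.mem_centralizer_iff]
    intro x hx
    exact (hcent x (by rw [hQb]; exact hx) k hk).symm
  intro k hk
  rw [← hker]
  have h1 : π k ∈ Kb := by rw [hKb]; exact Subgroup.mem_map_of_mem π hk
  exact eq_one_of_mem_pq hqp hQbp hKbq (hKbQ h1) h1

omit hq in
/-- A `p'`-subgroup `Q` normalized by the `p`-group `A` lies in a subgroup `W` as soon as every
`A`-invariant subgroup of `Q` of prime power order does. -/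
theorem le_of_invariant_sylow_le (A Q W : Subgroup X) (hA : IsPGroup p A)
    (hQ : ¬ p ∣ Nat.card Q) (hAQ : A ≤ Subgroup.normalizer (Q : Set X))
    (h : ∀ (r : ℕ) [Fact r.Prime] (S : Subgroup X), S ≤ Q → IsPGroup r S →
      A ≤ Subgroup.normalizer (S : Set X) → S ≤ W) : Q ≤ W := by
  have hTQ : Nat.card ↥(W ⊓ Q) ∣ Nat.card Q := Subgroup.card_dvd_of_le inf_le_right
  have hQpos : Nat.card Q ≠ 0 := Nat.card_pos.ne'
  have hTpos : Nat.card ↥(W ⊓ Q) ≠ 0 := Nat.card_pos.ne'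
  have hQT : Nat.card Q ∣ Nat.card ↥(W ⊓ Q) := by
    rw [← Nat.factorization_le_iff_dvd hQpos hTpos]
    intro r
    by_cases hr : r.Prime
    · have : Fact r.Prime := ⟨hr⟩
      obtain ⟨S, hSQ, hScard, hSA⟩ :=
        Cfsg.Agent.Lib.Helper31.InvSylow.exists_invariant_sylow A Q hA
          hQ (fun a ha k hk => conj_mem_of_mem_normalizer (hAQ ha) hk) r
      have hSr : IsPGroup r S := IsPGroup.of_card hScard
      have hSW : S ≤ W := h r S hSQ hSr (le_normalizer_of_conj hSA)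
      have hd1 : Nat.card S ∣ Nat.card ↥(W ⊓ Q) := Subgroup.card_dvd_of_le (le_inf hSW hSQ)
      rw [hScard] at hd1
      exact (Nat.Prime.pow_dvd_iff_le_factorization hr hTpos).mp hd1
    · rw [Nat.factorization_eq_zero_of_not_prime _ hr]
      exact Nat.zero_le _
  have hcard : Nat.card ↥(W ⊓ Q) = Nat.card Q := Nat.dvd_antisymm hTQ hQT
  have heq : W ⊓ Q = Q := Subgroup.eq_of_le_of_card_ge inf_le_right hcard.ge
  exact heq ▸ inf_le_left

/-- **Key lemma**, `Ω₁`-form, `p` odd, for an arbitrary `A`-invariant `p'`-subgroup. -/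
theorem le_pPrimeCore_of_invariant_pprime (hp2 : p ≠ 2) (hc : Cfsg.IsPConstrained p X)
    (A Q : Subgroup X) (hA : IsPGroup p A) (hAc : ∀ a ∈ A, ∀ b ∈ A, a * b = b * a)
    (hfull : ∀ x : X, (∀ a ∈ A, a * x = x * a) → x ^ p = 1 → x ∈ A)
    (hQ : ¬ p ∣ Nat.card Q) (hAQ : A ≤ Subgroup.normalizer (Q : Set X)) :
    Q ≤ Cfsg.pPrimeCore p X := by
  apply le_of_invariant_sylow_le A Q _ hA hQ hAQ
  intro r hr S hSQ hSr hSA
  by_cases hrp : r = p
  · subst hrp
    have hS1 : Nat.card S = 1 := by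
      obtain ⟨n, hn⟩ := IsPGroup.iff_card.mp hSr
      have hd : Nat.card S ∣ Nat.card Q := Subgroup.card_dvd_of_le hSQ
      rcases Nat.eq_zero_or_pos n with rfl | hpos
      · simpa using hn
      · exact absurd (dvd_trans (hn ▸ dvd_pow_self r hpos.ne') hd) hQ
    rw [Subgroup.card_eq_one.mp hS1]
    exact bot_le
  · exact le_pPrimeCore_of_invariant_omega hp2 hrp hc A S hA hAc hfull hSr hSA

end Cfsg.Agent.Lib.Helper90.TTOmega
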