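import Mathlib
import Cfsg.Prelude.Def_Local
import Cfsg.Prelude.Def_OddOrderLocal
import Cfsg.Prelude.Def_CaseTheorems
import Cfsg.Agent.Lib.Helper90.Conj
import Cfsg.Agent.Lib.Helper90.TTCore
import Cfsg.Agent.Lib.Helper90.TTKey
import Cfsg.Agent.Lib.Helper24.Coprime
import Cfsg.Agent.Lib.Helper31.InvSylow
import Cfsg.Agent.Lib.Helper23.Transitivity
import Cfsg.Agent.Lib.Helper23.Cores
import Cfsg.Agent.Lib.Helper71.Fitting
import Cfsg.Agent.Lib.Helper11.ZJQuot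
import Cfsg.Agent.S1264
import Cfsg.Agent.S0026
import Cfsg.Agent.S1396

set_option autoImplicit false

/-
helper90: Bender's lemma on invariant `q`-subgroups (S1481).

`H` a subgroup of the finite group `G` maximal among local subgroups, `F = F(H)` with at least
two prime divisors, `M ≤ F` with `C_F(M) ≤ M`, `R` a solvable subgroup normalized by `M` and by
`C_H(F)`.  Then (`Cfg.inf_eq_bot`) every `M`-invariant subgroup of `R` of order prime to `#F`
meets `H` trivially, every `M`-invariant `q`-subgroup of `R` (`q ∤ #F`) lies in `O_{π(F)'}(R)`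
(`Cfg.le_piCoreOf`), and there is a unique maximal one, a Sylow `q`-subgroup of `O_{π(F)'}(R)`.
-/

namespace Cfsg.Agent.Lib.Helper90.Bender

open scoped commutatorElement

open Cfsg.Agent.Lib.Helper90.Conj Cfsg.Agent.Lib.Helper90.TTCore Cfsg.Agent.Lib.Helper90.TTKey
  Cfsg.Agent.Lib.Helper23.Transitivity

variable {G : Type*} [Group G]

/-- An element of two subgroups of coprime orders is trivial. -/
theorem eq_one_of_mem_coprime [Finite G] {A B : Subgroup G}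
    (hcop : (Nat.card A).Coprime (Nat.card B)) {g : G} (hA : g ∈ A) (hB : g ∈ B) : g = 1 := by
  have hd1 : orderOf g ∣ Nat.card A := Subgroup.orderOf_dvd_natCard A hA
  have hd2 : orderOf g ∣ Nat.card B := Subgroup.orderOf_dvd_natCard B hB
  exact orderOf_eq_one_iff.mp
    (Nat.Coprime.eq_one_of_dvd (Nat.Coprime.coprime_dvd_left hd1 hcop) hd2)

/-- The `s`-part of the centre of `F`, as a subgroup of `G`. -/
def zPart (F : Subgroup G) (s : ℕ) : Subgroup G where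
  carrier := {z | z ∈ F ∧ (∀ f ∈ F, f * z = z * f) ∧ ∃ k : ℕ, z ^ s ^ k = 1}
  one_mem' := ⟨F.one_mem, fun f _ => by simp, 0, by simp⟩
  mul_mem' := by
    rintro a b ⟨ha, hac, k, hk⟩ ⟨hb, hbc, l, hl⟩
    refine ⟨F.mul_mem ha hb, fun f hf => ?_, k + l, ?_⟩
    · calc f * (a * b) = (f * a) * b := by group
        _ = a * (f * b) := by rw [hac f hf]; group
        _ = a * b * f := by rw [hbc f hf]; group
    · have hcomm : Commute a b := (hbc a ha)
      rw [hcomm.mul_pow, pow_add, pow_mul, hk, one_pow, one_mul, mul_comm (s ^ k), pow_mul, hl,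
        one_pow]
  inv_mem' := by
    rintro a ⟨ha, hac, k, hk⟩
    refine ⟨F.inv_mem ha, fun f hf => ?_, k, by rw [inv_pow, hk, inv_one]⟩
    have h1 := hac f hf
    calc f * a⁻¹ = a⁻¹ * (a * f) * a⁻¹ := by group
      _ = a⁻¹ * (f * a) * a⁻¹ := by rw [h1]
      _ = a⁻¹ * f := by group

theorem zPart_le (F : Subgroup G) (s : ℕ) : zPart F s ≤ F := fun _ hz => hz.1

theorem zPart_central {F : Subgroup G} {s : ℕ} {z f : G} (hz : z ∈ zPart F s) (hf : f ∈ F) :
    f * z = z * f := hz.2.1 f hf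

theorem zPart_isPGroup (F : Subgroup G) (s : ℕ) : IsPGroup s (zPart F s) := by
  rintro ⟨z, hz⟩
  obtain ⟨k, hk⟩ := hz.2.2
  exact ⟨k, Subtype.ext (by simpa using hk)⟩

theorem zPart_normalizer [Finite G] (F H : Subgroup G) (s : ℕ)
    (hHF : H ≤ Subgroup.normalizer (F : Set G)) :
    H ≤ Subgroup.normalizer (zPart F s : Set G) := by
  apply le_normalizer_of_conj
  rintro h hh z ⟨hz, hzc, k, hk⟩
  refine ⟨conj_mem_of_mem_normalizer (hHF hh) hz, fun f hf => ?_, k, ?_⟩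
  · have hf' : h⁻¹ * f * h ∈ F := inv_conj_mem_of_mem_normalizer (hHF hh) hf
    have h1 := hzc _ hf'
    calc f * (h * z * h⁻¹) = h * ((h⁻¹ * f * h) * z) * h⁻¹ := by group
      _ = h * (z * (h⁻¹ * f * h)) * h⁻¹ := by rw [h1]
      _ = h * z * h⁻¹ * f := by group
  · rw [conj_pow, hk]; group

theorem zPart_ne_bot [Finite G] (F : Subgroup G) (hF : Group.IsNilpotent ↥F) (s : ℕ)
    [Fact s.Prime] (hs : s ∣ Nat.card F) : zPart F s ≠ ⊥ := by
  obtain ⟨S⟩ : Nonempty (Sylow s ↥F) := inferInstance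
  have hSn : (S : Subgroup ↥F).Normal :=
    Sylow.normal_of_normalizerCondition Group.normalizerCondition_of_isNilpotent S
  have hSne : (S : Subgroup ↥F) ≠ ⊥ := S.ne_bot_of_dvd_card hs
  obtain ⟨C, hC⟩ : ∃ C : Subgroup G, C = (S : Subgroup ↥F).map F.subtype := ⟨_, rfl⟩
  have hCF : C ≤ F := by rw [hC]; exact Subgroup.map_subtype_le _
  have hCne : C ≠ ⊥ := by
    rw [hC]
    intro hbot
    exact hSne ((Subgroup.map_eq_bot_iff_of_injective _ (Subgroup.subtype_injective F)).mp hbot)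
  have hnorm : F ≤ Subgroup.normalizer (C : Set G) := by
    apply le_normalizer_of_conj
    rw [hC]
    rintro f hf _ ⟨c, hc, rfl⟩
    exact ⟨⟨f, hf⟩ * c * ⟨f, hf⟩⁻¹, hSn.conj_mem c hc _, rfl⟩
  have h1 := Cfsg.Agent.Lib.Helper71.Fitting.inf_centralizer_ne_bot F C hF hCF hCne hnorm
  obtain ⟨⟨c, hcC, hcZ⟩, hc1⟩ := (Subgroup.ne_bot_iff_exists_ne_one).mp h1
  have hc1' : c ≠ 1 := fun h => hc1 (Subtype.ext h)
  intro hbot
  apply hc1'
  have hmem : c ∈ zPart F s := by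
    refine ⟨hCF hcC, fun f hf => Subgroup.mem_centralizer_iff.mp hcZ f hf, ?_⟩
    rw [hC] at hcC
    obtain ⟨c', hc', rfl⟩ := hcC
    obtain ⟨k, hk⟩ := S.2 ⟨c', hc'⟩
    exact ⟨k, by simpa using congrArg (fun x : ↥(S : Subgroup ↥F) => ((x : ↥F) : G)) hk⟩
  rw [hbot, Subgroup.mem_bot] at hmem
  exact hmem

/-- Nilpotent form of Thompson's `A × B` lemma: `F` nilpotent, `M ≤ F` with `C_F(M) ≤ M`, `D`
a subgroup of order prime to `#F` normalizing `F` and normalized by `M`.  Then `D` centralizes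
`F`. -/
theorem centralizes_of_invariant [Finite G] (F M D : Subgroup G) (hF : Group.IsNilpotent ↥F)
    (hMF : M ≤ F) (hCM : F ⊓ Subgroup.centralizer (M : Set G) ≤ M)
    (hDF : D ≤ Subgroup.normalizer (F : Set G)) (hMD : M ≤ Subgroup.normalizer (D : Set G))
    (hcop : (Nat.card D).Coprime (Nat.card F)) : ∀ d ∈ D, ∀ f ∈ F, d * f = f * d := by
  have hDM : ∀ d ∈ D, ∀ m ∈ M, d * m = m * d := by
    intro d hd m hm
    have hc1 : d * m * d⁻¹ * m⁻¹ ∈ D := by
      have h1 : m * d⁻¹ * m⁻¹ ∈ D := conj_mem_of_mem_normalizer (hMD hm) (D.inv_mem hd)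
      have h2 : d * m * d⁻¹ * m⁻¹ = d * (m * d⁻¹ * m⁻¹) := by group
      rw [h2]; exact D.mul_mem hd h1
    have hc2 : d * m * d⁻¹ * m⁻¹ ∈ F :=
      F.mul_mem (conj_mem_of_mem_normalizer (hDF hd) (hMF hm)) (F.inv_mem (hMF hm))
    have hc := eq_one_of_mem_coprime hcop hc1 hc2
    calc d * m = (d * m * d⁻¹ * m⁻¹) * m * d := by group
      _ = m * d := by rw [hc, one_mul]
  obtain ⟨M₁, hM₁⟩ : ∃ M₁ : Subgroup G, M₁ = F ⊓ Subgroup.centralizer (D : Set G) := ⟨_, rfl⟩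
  have hM₁F : M₁ ≤ F := by rw [hM₁]; exact inf_le_left
  have hMM₁ : M ≤ M₁ := by
    intro m hm
    rw [hM₁]
    refine Subgroup.mem_inf.mpr ⟨hMF hm, Subgroup.mem_centralizer_iff.mpr ?_⟩
    intro d hd
    exact hDM d hd m hm
  have hM₁D : ∀ m ∈ M₁, ∀ d ∈ D, d * m = m * d := by
    intro m hm d hd
    rw [hM₁] at hm
    exact Subgroup.mem_centralizer_iff.mp hm.2 d hd
  have hmain : M₁ = F := by
    by_contra hne
    have hlt : M₁.subgroupOf F < ⊤ := by
      rw [lt_top_iff_ne_top]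
      intro htop
      apply hne
      apply le_antisymm hM₁F
      intro f hf
      have h1 : (⟨f, hf⟩ : ↥F) ∈ M₁.subgroupOf F := by rw [htop]; exact Subgroup.mem_top _
      exact Subgroup.mem_subgroupOf.mp h1
    have hnc : NormalizerCondition ↥F := Group.normalizerCondition_of_isNilpotent
    obtain ⟨x, hxN, hxM⟩ := SetLike.exists_of_lt (hnc _ hlt)
    apply hxM
    rw [Subgroup.mem_subgroupOf, hM₁]
    refine Subgroup.mem_inf.mpr ⟨x.2, Subgroup.mem_centralizer_iff.mpr ?_⟩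
    intro d hd
    -- `x` normalizes `M₁` inside `F`
    have hxnorm : ∀ m ∈ M₁, (x : G)⁻¹ * m * x ∈ M₁ := by
      intro m hm
      have hxN' : x⁻¹ ∈ Subgroup.normalizer ((M₁.subgroupOf F : Subgroup ↥F) : Set ↥F) :=
        Subgroup.inv_mem _ hxN
      have h1 := (Subgroup.mem_normalizer_iff.mp hxN' ⟨m, hM₁F hm⟩).mp
        (Subgroup.mem_subgroupOf.mpr hm)
      have h2 := Subgroup.mem_subgroupOf.mp h1
      simpa using h2
    have hcF : (x : G) * d * (x : G)⁻¹ * d⁻¹ ∈ F := by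
      have h1 : d * (x : G)⁻¹ * d⁻¹ ∈ F :=
        conj_mem_of_mem_normalizer (hDF hd) (F.inv_mem x.2)
      have h2 : (x : G) * d * (x : G)⁻¹ * d⁻¹ = (x : G) * (d * (x : G)⁻¹ * d⁻¹) := by group
      rw [h2]; exact F.mul_mem x.2 h1
    have hcM₁ : ∀ m ∈ M₁, m * ((x : G) * d * (x : G)⁻¹ * d⁻¹) =
        ((x : G) * d * (x : G)⁻¹ * d⁻¹) * m := by
      intro m hm
      have hm' := hxnorm m hm
      have h1 : d * m = m * d := hM₁D m hm d hd
      have h2 : d * ((x : G)⁻¹ * m * x) = ((x : G)⁻¹ * m * x) * d := hM₁D _ hm' d hd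
      have h4 : m * d⁻¹ = d⁻¹ * m := by
        calc m * d⁻¹ = d⁻¹ * (d * m) * d⁻¹ := by group
          _ = d⁻¹ * (m * d) * d⁻¹ := by rw [h1]
          _ = d⁻¹ * m := by group
      calc m * ((x : G) * d * (x : G)⁻¹ * d⁻¹)
          = (x : G) * (((x : G)⁻¹ * m * x) * d) * (x : G)⁻¹ * d⁻¹ := by group
        _ = (x : G) * (d * ((x : G)⁻¹ * m * x)) * (x : G)⁻¹ * d⁻¹ := by rw [h2]
        _ = (x : G) * d * (x : G)⁻¹ * (m * d⁻¹) := by group
        _ = (x : G) * d * (x : G)⁻¹ * (d⁻¹ * m) := by rw [h4]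
        _ = ((x : G) * d * (x : G)⁻¹ * d⁻¹) * m := by group
    have hcM : (x : G) * d * (x : G)⁻¹ * d⁻¹ ∈ M := by
      apply hCM
      refine Subgroup.mem_inf.mpr ⟨hcF, Subgroup.mem_centralizer_iff.mpr ?_⟩
      intro m hm
      exact hcM₁ m (hMM₁ hm)
    have hcd : ⁅(x : G), d⁆ * d = d * ⁅(x : G), d⁆ := by
      rw [commutatorElement_def]
      exact (hDM d hd _ hcM).symm
    have hcop' : (orderOf d).Coprime (Nat.card F) :=
      Nat.Coprime.coprime_dvd_left (Subgroup.orderOf_dvd_natCard D hd) hcop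
    exact (Cfsg.Agent.Lib.Helper24.Coprime.commute_of_commutator_commute (hDF hd) hcop' x.2
      hcd).symm
  intro d hd f hf
  rw [← hmain] at hf
  exact hM₁D f hf d hd

/-! ### The Fitting subgroup of a subgroup -/

theorem fittingOf_le (H : Subgroup G) : Cfsg.fittingOf H ≤ H := by
  unfold Cfsg.fittingOf
  exact Subgroup.map_subtype_le _

theorem le_normalizer_fittingOf [Finite G] (H : Subgroup G) :
    H ≤ Subgroup.normalizer (Cfsg.fittingOf H : Set G) := by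
  apply le_normalizer_of_conj
  unfold Cfsg.fittingOf
  rintro h hh _ ⟨f, hf, rfl⟩
  have hn := Cfsg.Agent.Lib.Helper71.Fitting.fitting_normal ↥H
  exact ⟨⟨h, hh⟩ * f * ⟨h, hh⟩⁻¹, hn.conj_mem f hf _, rfl⟩

theorem fittingOf_isNilpotent [Finite G] (H : Subgroup G) :
    Group.IsNilpotent ↥(Cfsg.fittingOf H) := by
  have h1 : Group.IsNilpotent ↥(Cfsg.fittingSubgroup ↥H) :=
    Cfsg.Agent.Lib.Helper71.Fitting.fitting_isNilpotent ↥H
  unfold Cfsg.fittingOf
  exact Group.nilpotent_of_mulEquiv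
    ((Cfsg.fittingSubgroup ↥H).equivMapOfInjective H.subtype (Subgroup.subtype_injective H))

/-- A solvable subgroup normalized by `C_H(F(H))` meets `C_H(F(H))` inside `F(H)`. -/
theorem inf_centralizer_fittingOf_le [Finite G] (H R : Subgroup G) (hR : Group.IsSolvable ↥R)
    (hXR : H ⊓ Subgroup.centralizer (Cfsg.fittingOf H : Set G) ≤
      Subgroup.normalizer (R : Set G)) :
    R ⊓ (H ⊓ Subgroup.centralizer (Cfsg.fittingOf H : Set G)) ≤ Cfsg.fittingOf H := by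
  obtain ⟨X, hX⟩ : ∃ X : Subgroup G,
      X = H ⊓ Subgroup.centralizer (Cfsg.fittingOf H : Set G) := ⟨_, rfl⟩
  rw [← hX] at hXR ⊢
  obtain ⟨N, hN⟩ : ∃ N : Subgroup ↥H, N = (R ⊓ X).subgroupOf H := ⟨_, rfl⟩
  have hmemX : ∀ y : ↥H, y ∈ Subgroup.centralizer (Cfsg.fittingSubgroup ↥H : Set ↥H) ↔
      (y : G) ∈ X := by
    intro y
    rw [hX, Subgroup.mem_inf, Subgroup.mem_centralizer_iff, Subgroup.mem_centralizer_iff]
    constructor
    · intro hy
      refine ⟨y.2, ?_⟩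
      unfold Cfsg.fittingOf
      rintro _ ⟨f, hf, rfl⟩
      exact congrArg Subtype.val (hy f hf)
    · rintro ⟨-, hy⟩ f hf
      apply Subtype.ext
      exact hy (f : G) (by unfold Cfsg.fittingOf; exact ⟨f, hf, rfl⟩)
  have hN1 : N ≤ Subgroup.centralizer (Cfsg.fittingSubgroup ↥H : Set ↥H) := by
    intro n hn
    rw [hN, Subgroup.mem_subgroupOf] at hn
    exact (hmemX n).mpr hn.2
  have hN2 : Subgroup.centralizer (Cfsg.fittingSubgroup ↥H : Set ↥H) ≤
      Subgroup.normalizer (N : Set ↥H) := by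
    intro y hy
    have hyX : (y : G) ∈ X := (hmemX y).mp hy
    apply Cfsg.Agent.Lib.Helper31.InvSylow.mem_normalizer_of_conj_mem
    intro n hn
    rw [hN, Subgroup.mem_subgroupOf] at hn ⊢
    exact ⟨conj_mem_of_mem_normalizer (hXR hyX) hn.1,
      X.mul_mem (X.mul_mem hyX hn.2) (X.inv_mem hyX)⟩
  have hN3 : Group.IsSolvable ↥N := by
    let f : ↥N →* ↥R := (H.subtype.comp N.subtype).codRestrict R (by
      intro n
      have hn : (n : ↥H) ∈ (R ⊓ X).subgroupOf H := hN.le n.2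
      rw [Subgroup.mem_subgroupOf] at hn
      exact hn.1)
    have hf : Function.Injective f := by
      intro a b hab
      have h1 : ((a : ↥H) : G) = ((b : ↥H) : G) := congrArg (fun x : ↥R => (x : G)) hab
      exact Subtype.ext (Subtype.ext h1)
    exact Group.isSolvable_of_isSolvable_injective hf
  have key := Cfsg.Agent.S1264.result N hN1 hN2 hN3
  intro x hx
  have hxH : x ∈ H := by
    have := hx.2
    rw [hX] at this
    exact this.1
  have h1 : (⟨x, hxH⟩ : ↥H) ∈ N := by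
    rw [hN, Subgroup.mem_subgroupOf]; exact hx
  have h2 := (Subgroup.map_subtype_le _) (key h1)
  unfold Cfsg.fittingOf
  exact ⟨⟨x, hxH⟩, h2, rfl⟩


/-- `R ⊔ M` is solvable when `R` and `M` are and `M` normalizes `R`. -/
theorem isSolvable_sup [Finite G] (R M : Subgroup G) (hR : Group.IsSolvable ↥R)
    (hM : Group.IsSolvable ↥M) (hMR : M ≤ Subgroup.normalizer (R : Set G)) :
    Group.IsSolvable ↥(R ⊔ M) := by
  have hRn : (R.subgroupOf (R ⊔ M)).Normal :=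
    (Subgroup.normal_subgroupOf_iff_le_normalizer le_sup_left).mpr
      (sup_le Subgroup.le_normalizer hMR)
  let f : ↥R →* ↥(R ⊔ M) := Subgroup.inclusion le_sup_left
  let g : ↥(R ⊔ M) →* ↥(R ⊔ M) ⧸ R.subgroupOf (R ⊔ M) := QuotientGroup.mk' _
  have hsurj : Function.Surjective
      (g.comp (Subgroup.inclusion (le_sup_right : M ≤ R ⊔ M))) := by
    intro y
    obtain ⟨x, rfl⟩ := QuotientGroup.mk'_surjective _ y
    obtain ⟨r, hr, m, hm, hx⟩ := (mem_sup_of_normalizes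
      (fun r hr m hm => conj_mem_of_mem_normalizer (hMR hm) hr)).mp x.2
    refine ⟨⟨m, hm⟩, ?_⟩
    show (QuotientGroup.mk (Subgroup.inclusion (le_sup_right : M ≤ R ⊔ M) ⟨m, hm⟩) :
      ↥(R ⊔ M) ⧸ R.subgroupOf (R ⊔ M)) = QuotientGroup.mk x
    rw [QuotientGroup.eq, Subgroup.mem_subgroupOf]
    have h1 : m⁻¹ * r * m ∈ R := inv_conj_mem_of_mem_normalizer (hMR hm) hr
    have h2 : ((((Subgroup.inclusion (le_sup_right : M ≤ R ⊔ M) ⟨m, hm⟩)⁻¹ * x : ↥(R ⊔ M))) : G)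
        = m⁻¹ * r * m := by
      simp [hx, mul_assoc]
    rw [h2]; exact h1
  have hQ : Group.IsSolvable (↥(R ⊔ M) ⧸ R.subgroupOf (R ⊔ M)) :=
    Group.isSolvable_of_surjective hsurj
  refine Group.isSolvable_of_ker_le_range f g ?_
  intro x hx
  rw [MonoidHom.mem_ker] at hx
  have h1 : x ∈ R.subgroupOf (R ⊔ M) := (QuotientGroup.eq_one_iff x).mp hx
  exact ⟨⟨x, Subgroup.mem_subgroupOf.mp h1⟩, rfl⟩

/-! ### The configuration of Bender's lemma -/

/-- The hypotheses of Bender's lemma. -/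
structure Cfg (H M R : Subgroup G) : Prop where
  hHmax : ∀ L : Subgroup G, Cfsg.IsLocalSubgroup L → H ≤ L → L = H
  hM : M ≤ Cfsg.fittingOf H
  hCM : Cfsg.fittingOf H ⊓ Subgroup.centralizer (M : Set G) ≤ M
  hR : Group.IsSolvable ↥R
  hMR : M ≤ Subgroup.normalizer (R : Set G)
  hXR : H ⊓ Subgroup.centralizer (Cfsg.fittingOf H : Set G) ≤ Subgroup.normalizer (R : Set G)

namespace Cfg

variable [Finite G] {H M R : Subgroup G}

omit [Finite G] in
theorem zPart_le_M (h : Cfg H M R) (s : ℕ) : zPart (Cfsg.fittingOf H) s ≤ M := by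
  intro z hz
  apply h.hCM
  refine Subgroup.mem_inf.mpr ⟨hz.1, Subgroup.mem_centralizer_iff.mpr ?_⟩
  intro m hm
  exact zPart_central hz (h.hM hm)

theorem isSolvable_M (h : Cfg H M R) : Group.IsSolvable ↥M := by
  have h1 : Group.IsNilpotent ↥(Cfsg.fittingOf H) := fittingOf_isNilpotent H
  have h2 : Group.IsSolvable ↥(Cfsg.fittingOf H) := inferInstance
  exact Group.isSolvable_of_isSolvable_injective (Subgroup.inclusion_injective h.hM)

/-- `C_G(Z_s) ≤ H`. -/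
theorem mem_of_commute_zPart (h : Cfg H M R) (s : ℕ) [Fact s.Prime]
    (hs : s ∣ Nat.card (Cfsg.fittingOf H)) {x : G}
    (hx : ∀ z ∈ zPart (Cfsg.fittingOf H) s, z * x = x * z) : x ∈ H := by
  have hloc : Cfsg.IsLocalSubgroup
      (Subgroup.normalizer (zPart (Cfsg.fittingOf H) s : Set G)) :=
    ⟨s, zPart (Cfsg.fittingOf H) s, Fact.out, zPart_isPGroup _ _,
      zPart_ne_bot _ (fittingOf_isNilpotent H) s hs, rfl⟩
  have heq := h.hHmax _ hloc (zPart_normalizer _ H s (le_normalizer_fittingOf H))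
  rw [← heq]
  exact Cfsg.Agent.Lib.Helper24.Coprime.mem_normalizer_of_commute hx

/-- An `M`-invariant subgroup of `R` of order prime to `#F` meets `H` trivially. -/
theorem eq_one_of_mem (h : Cfg H M R) (Y : Subgroup G) (hYR : Y ≤ R)
    (hMY : M ≤ Subgroup.normalizer (Y : Set G))
    (hcop : (Nat.card Y).Coprime (Nat.card (Cfsg.fittingOf H))) {y : G} (hy : y ∈ Y)
    (hyH : y ∈ H) : y = 1 := by
  have hMH : M ≤ H := h.hM.trans (fittingOf_le H)
  have hD : ∀ d ∈ Y ⊓ H, ∀ f ∈ Cfsg.fittingOf H, d * f = f * d := by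
    apply centralizes_of_invariant (Cfsg.fittingOf H) M (Y ⊓ H) (fittingOf_isNilpotent H) h.hM
      h.hCM
    · exact inf_le_right.trans (le_normalizer_fittingOf H)
    · apply le_normalizer_of_conj
      intro m hm d hd
      exact Subgroup.mem_inf.mpr ⟨conj_mem_of_mem_normalizer (hMY hm) hd.1,
        H.mul_mem (H.mul_mem (hMH hm) hd.2) (H.inv_mem (hMH hm))⟩
    · exact Nat.Coprime.coprime_dvd_left (Subgroup.card_dvd_of_le inf_le_left) hcop
  have hyF : y ∈ Cfsg.fittingOf H := by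
    apply inf_centralizer_fittingOf_le H R h.hR h.hXR
    refine Subgroup.mem_inf.mpr ⟨hYR hy, Subgroup.mem_inf.mpr ⟨hyH,
      Subgroup.mem_centralizer_iff.mpr ?_⟩⟩
    intro f hf
    exact (hD y (Subgroup.mem_inf.mpr ⟨hy, hyH⟩) f hf).symm
  exact eq_one_of_mem_coprime hcop hy hyF

theorem eq_one_of_commute_zPart (h : Cfg H M R) (s : ℕ) [Fact s.Prime]
    (hs : s ∣ Nat.card (Cfsg.fittingOf H)) (Y : Subgroup G) (hYR : Y ≤ R)
    (hMY : M ≤ Subgroup.normalizer (Y : Set G))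
    (hcop : (Nat.card Y).Coprime (Nat.card (Cfsg.fittingOf H))) {y : G} (hy : y ∈ Y)
    (hyz : ∀ z ∈ zPart (Cfsg.fittingOf H) s, z * y = y * z) : y = 1 :=
  h.eq_one_of_mem Y hYR hMY hcop hy (h.mem_of_commute_zPart s hs hyz)

/-- An `M`-invariant `q`-subgroup of `R` lies in `O_{p'}(L)` for every solvable `L ⊇ R, M` and
every prime `p` dividing `#F`. -/
theorem le_pPrimeCore (h : Cfg H M R) {p s q : ℕ} [hp : Fact p.Prime] [hs : Fact s.Prime]
    [hq : Fact q.Prime] (hpF : p ∣ Nat.card (Cfsg.fittingOf H))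
    (hsF : s ∣ Nat.card (Cfsg.fittingOf H)) (hsp : s ≠ p)
    (hqF : ¬ q ∣ Nat.card (Cfsg.fittingOf H))
    (L : Subgroup G) (_hRL : R ≤ L) (hML : M ≤ L) (hL : Group.IsSolvable ↥L)
    (Q : Subgroup G) (hQR : Q ≤ R) (hQq : IsPGroup q Q)
    (hMQ : M ≤ Subgroup.normalizer (Q : Set G)) :
    Q.subgroupOf L ≤ Cfsg.pPrimeCore p ↥L := by
  have hqp : q ≠ p := by rintro rfl; exact hqF hpF
  have hqs : q ≠ s := by rintro rfl; exact hqF hsF
  have hcopQ : (Nat.card Q).Coprime (Nat.card (Cfsg.fittingOf H)) := by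
    obtain ⟨k, hk⟩ := IsPGroup.iff_card.mp hQq
    rw [hk]
    exact Nat.Coprime.pow_left k ((Nat.Prime.coprime_iff_not_dvd hq.out).mpr hqF)
  obtain ⟨F, hFdef⟩ : ∃ F : Subgroup G, F = Cfsg.fittingOf H := ⟨_, rfl⟩
  have hc : Cfsg.IsPConstrained p ↥L := Cfsg.Agent.S1396.isPConstrained_of_isSolvable p
  obtain ⟨π, hπ⟩ : ∃ π : ↥L →* ↥L ⧸ Cfsg.pPrimeCore p ↥L,
      π = QuotientGroup.mk' (Cfsg.pPrimeCore p ↥L) := ⟨_, rfl⟩
  have hWcop : (Nat.card (Cfsg.pPrimeCore p ↥L)).Coprime p :=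
    Cfsg.Agent.Lib.Helper23.Cores.pPrimeCore_card_coprime p
  have hWp : ¬ p ∣ Nat.card (Cfsg.pPrimeCore p ↥L) := fun hd =>
    (Nat.Prime.coprime_iff_not_dvd hp.out).mp hWcop.symm hd
  have hker : ∀ x : ↥L, π x = 1 ↔ x ∈ Cfsg.pPrimeCore p ↥L := by
    intro x; rw [hπ]; exact QuotientGroup.eq_one_iff x
  have hsurj : Function.Surjective π := by
    rw [hπ]; exact QuotientGroup.mk'_surjective _
  obtain ⟨Pb, hPb⟩ : ∃ Pb : Subgroup (↥L ⧸ Cfsg.pPrimeCore p ↥L),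
      Pb = Cfsg.pCore p (↥L ⧸ Cfsg.pPrimeCore p ↥L) := ⟨_, rfl⟩
  have hPbp : IsPGroup p Pb := by
    rw [hPb]; exact Cfsg.Agent.Lib.Helper23.Cores.pCore_isPGroup p
  have hPn : Pb.Normal := by rw [hPb]; infer_instance
  obtain ⟨Zp, hZp⟩ : ∃ Zp : Subgroup ↥L, Zp = (zPart F p).subgroupOf L := ⟨_, rfl⟩
  obtain ⟨Zs, hZs⟩ : ∃ Zs : Subgroup ↥L, Zs = (zPart F s).subgroupOf L := ⟨_, rfl⟩
  obtain ⟨Q', hQ'⟩ : ∃ Q' : Subgroup ↥L, Q' = Q.subgroupOf L := ⟨_, rfl⟩
  have hZpp : IsPGroup p Zp := by rw [hZp]; exact (zPart_isPGroup F p).comap_subtype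
  have hZss : IsPGroup s Zs := by rw [hZs]; exact (zPart_isPGroup F s).comap_subtype
  have hQ'q : IsPGroup q Q' := by rw [hQ']; exact hQq.comap_subtype
  have hmemZp : ∀ x : ↥L, x ∈ Zp ↔ (x : G) ∈ zPart F p := by
    intro x; rw [hZp, Subgroup.mem_subgroupOf]
  have hmemZs : ∀ x : ↥L, x ∈ Zs ↔ (x : G) ∈ zPart F s := by
    intro x; rw [hZs, Subgroup.mem_subgroupOf]
  have hmemQ : ∀ x : ↥L, x ∈ Q' ↔ (x : G) ∈ Q := by
    intro x; rw [hQ', Subgroup.mem_subgroupOf]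
  have hZpM : zPart F p ≤ M := by rw [hFdef]; exact h.zPart_le_M p
  have hZsM : zPart F s ≤ M := by rw [hFdef]; exact h.zPart_le_M s
  obtain ⟨Zpb, hZpb⟩ : ∃ Zpb : Subgroup (↥L ⧸ Cfsg.pPrimeCore p ↥L), Zpb = Zp.map π :=
    ⟨_, rfl⟩
  obtain ⟨Zsb, hZsb⟩ : ∃ Zsb : Subgroup (↥L ⧸ Cfsg.pPrimeCore p ↥L), Zsb = Zs.map π :=
    ⟨_, rfl⟩
  obtain ⟨Qb, hQb⟩ : ∃ Qb : Subgroup (↥L ⧸ Cfsg.pPrimeCore p ↥L), Qb = Q'.map π := ⟨_, rfl⟩
  have hZpbp : IsPGroup p Zpb := by rw [hZpb]; exact hZpp.map π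
  have hZsbs : IsPGroup s Zsb := by rw [hZsb]; exact hZss.map π
  have hQbq : IsPGroup q Qb := by rw [hQb]; exact hQ'q.map π
  have hZsQ : ∀ a ∈ Zs, ∀ k ∈ Q', a * k * a⁻¹ ∈ Q' := by
    intro a ha k hk
    rw [hmemQ] at hk ⊢
    have h1 := conj_mem_of_mem_normalizer (hMQ (hZsM ((hmemZs a).mp ha))) hk
    simpa using h1
  -- (α) fixed points of `Z_p` on `P̄` are fixed by `Z_s`
  have hα : ∀ x ∈ Pb, (∀ e ∈ Zpb, e * x = x * e) → ∀ a ∈ Zsb, x * a = a * x := by
    intro xb hxb hxe a ha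
    obtain ⟨x, rfl⟩ := hsurj xb
    have hcos : ∀ a ∈ Zp, x⁻¹ * (a * x * a⁻¹) ∈ Cfsg.pPrimeCore p ↥L := by
      intro a ha
      rw [← hker]
      have h1 := hxe (π a) (by rw [hZpb]; exact Subgroup.mem_map_of_mem π ha)
      rw [map_mul, map_inv, map_mul, map_mul, map_inv, h1]
      group
    obtain ⟨n, hn, hfix⟩ := Cfsg.Agent.Lib.Helper31.InvSylow.exists_fixed_in_coset_pgroup Zp
      (Cfsg.pPrimeCore p ↥L) hZpp hWp
      (fun a _ n hn => (inferInstance : (Cfsg.pPrimeCore p ↥L).Normal).conj_mem n hn a) x hcos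
    obtain ⟨y, hy⟩ : ∃ y : ↥L, y = x * n := ⟨_, rfl⟩
    rw [← hy] at hfix
    have hπy : π y = π x := by rw [hy, map_mul, (hker n).mpr hn, mul_one]
    have hyH : (y : G) ∈ H := by
      apply h.mem_of_commute_zPart p hpF
      rw [← hFdef]
      intro z hz
      have h1 := hfix ⟨z, hML (hZpM hz)⟩ ((hmemZp _).mpr hz)
      exact congrArg Subtype.val h1
    rw [hZsb] at ha
    obtain ⟨z, hz, rfl⟩ := ha
    have hzG : (z : G) ∈ zPart F s := (hmemZs z).mp hz
    have hcZ : y * z * y⁻¹ * z⁻¹ ∈ Zs := by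
      rw [hmemZs]
      have hn := zPart_normalizer F H s (by rw [hFdef]; exact le_normalizer_fittingOf H)
      have h1 : (y : G) * z * (y : G)⁻¹ ∈ zPart F s :=
        conj_mem_of_mem_normalizer (hn hyH) hzG
      have h2 := (zPart F s).mul_mem h1 ((zPart F s).inv_mem hzG)
      simpa using h2
    have hc1 : π (y * z * y⁻¹ * z⁻¹) ∈ Zsb := by
      rw [hZsb]; exact Subgroup.mem_map_of_mem π hcZ
    have hc2 : π (y * z * y⁻¹ * z⁻¹) ∈ Pb := by
      rw [map_mul, map_mul, map_mul, map_inv, map_inv, hπy]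
      have h1 : π z * (π x)⁻¹ * (π z)⁻¹ ∈ Pb := hPn.conj_mem _ (Pb.inv_mem hxb) _
      have h2 : π x * π z * (π x)⁻¹ * (π z)⁻¹ = π x * (π z * (π x)⁻¹ * (π z)⁻¹) := by group
      rw [h2]; exact Pb.mul_mem hxb h1
    have hc := eq_one_of_mem_pq hsp hPbp hZsbs hc2 hc1
    rw [map_mul, map_mul, map_mul, map_inv, map_inv, hπy] at hc
    calc π x * π z = (π x * π z * (π x)⁻¹ * (π z)⁻¹) * π z * π x := by group
      _ = π z * π x := by rw [hc, one_mul]
  -- (β) `Z_s` centralizes `P̄`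
  have hβ : ∀ x ∈ Pb, ∀ a ∈ Zsb, x * a = a * x := by
    intro x hx a ha
    have hsupp : IsPGroup p (Pb ⊔ Zpb : Subgroup (↥L ⧸ Cfsg.pPrimeCore p ↥L)) :=
      hPbp.to_sup_of_normal_left hZpbp
    refine Cfsg.Agent.Lib.Helper24.Coprime.thompson_AxB p (Pb ⊔ Zpb) hsupp Zpb le_sup_right a
      (orderOf_coprime_p hsp hZsbs ha) ?_ Pb le_sup_left ?_ ?_
      (fun x hx hxb => hα x hx hxb a ha) x hx
    · intro b hb
      rw [hZpb] at hb
      rw [hZsb] at ha
      obtain ⟨zp, hzp, rfl⟩ := hb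
      obtain ⟨zs, hzs, rfl⟩ := ha
      rw [← map_mul, ← map_mul]
      congr 1
      apply Subtype.ext
      exact zPart_central ((hmemZs zs).mp hzs) (zPart_le F p ((hmemZp zp).mp hzp))
    · rw [Subgroup.normalizer_eq_top]; exact Subgroup.mem_top _
    · rw [Subgroup.normalizer_eq_top]; exact le_top
  -- (γ) `Z_s` has no fixed points on `Q̄`
  have hγ : ∀ x ∈ Qb, (∀ a ∈ Zsb, a * x = x * a) → x = 1 := by
    intro xb hxb hxa
    rw [hQb] at hxb
    obtain ⟨x, hx, rfl⟩ := hxb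
    obtain ⟨N, hN⟩ : ∃ N : Subgroup ↥L, N = Q' ⊓ Cfsg.pPrimeCore p ↥L := ⟨_, rfl⟩
    have hNq : IsPGroup q N := by rw [hN]; exact hQ'q.to_le inf_le_left
    have hNs : ¬ s ∣ Nat.card N := fun hd =>
      (Nat.Prime.coprime_iff_not_dvd hs.out).mp (coprime_p hqs hNq).symm hd
    have hAN : ∀ a ∈ Zs, ∀ n ∈ N, a * n * a⁻¹ ∈ N := by
      intro a ha n hn
      rw [hN] at hn ⊢
      exact Subgroup.mem_inf.mpr ⟨hZsQ a ha n hn.1,
        (inferInstance : (Cfsg.pPrimeCore p ↥L).Normal).conj_mem n hn.2 a⟩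
    have hcos : ∀ a ∈ Zs, x⁻¹ * (a * x * a⁻¹) ∈ N := by
      intro a ha
      rw [hN]
      refine Subgroup.mem_inf.mpr ⟨Q'.mul_mem (Q'.inv_mem hx) (hZsQ a ha x hx), ?_⟩
      rw [← hker]
      have h1 := hxa (π a) (by rw [hZsb]; exact Subgroup.mem_map_of_mem π ha)
      rw [map_mul, map_inv, map_mul, map_mul, map_inv, h1]
      group
    obtain ⟨n, hn, hfix⟩ := Cfsg.Agent.Lib.Helper31.InvSylow.exists_fixed_in_coset_pgroup Zs N
      hZss hNs hAN x hcos
    have hnQ : n ∈ Q' := by rw [hN] at hn; exact hn.1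
    have hnW : n ∈ Cfsg.pPrimeCore p ↥L := by rw [hN] at hn; exact hn.2
    have hy1 : ((x * n : ↥L) : G) = 1 := by
      apply h.eq_one_of_commute_zPart s hsF Q hQR hMQ hcopQ ((hmemQ _).mp (Q'.mul_mem hx hnQ))
      rw [← hFdef]
      intro z hz
      have h1 := hfix ⟨z, hML (hZsM hz)⟩ ((hmemZs _).mpr hz)
      exact congrArg Subtype.val h1
    have hxn : x * n = 1 := Subtype.ext hy1
    have hxW : x ∈ Cfsg.pPrimeCore p ↥L := by
      have h1 : x = n⁻¹ := eq_inv_of_mul_eq_one_left hxn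
      rw [h1]; exact Subgroup.inv_mem _ hnW
    exact (hker x).mpr hxW
  -- (δ) `Q̄` centralizes `P̄`
  have hZsQb : Zsb ≤ Subgroup.normalizer (Qb : Set (↥L ⧸ Cfsg.pPrimeCore p ↥L)) := by
    apply le_normalizer_of_conj
    rw [hZsb, hQb]
    rintro _ ⟨a, ha, rfl⟩ _ ⟨k, hk, rfl⟩
    exact ⟨a * k * a⁻¹, hZsQ a ha k hk, by simp⟩
  have hcopZQ : (Nat.card Zsb).Coprime (Nat.card Qb) :=
    IsPGroup.coprime_card_of_ne s q (Ne.symm hqs) Zsb Qb hZsbs hQbq
  have hQbsolv : Group.IsSolvable ↥Qb := by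
    have h1 : Group.IsNilpotent ↥Qb := hQbq.isNilpotent
    infer_instance
  have hgen := Cfsg.Agent.S0026.result Zsb Qb hZsQb hcopZQ (Or.inr hQbsolv)
  have hQbC : Qb ≤ Subgroup.centralizer (Pb : Set (↥L ⧸ Cfsg.pPrimeCore p ↥L)) := by
    rw [← hgen]
    apply sup_le
    · rw [Subgroup.commutator_le]
      intro x hx a ha
      have ha' : a ∈ Subgroup.centralizer (Pb : Set (↥L ⧸ Cfsg.pPrimeCore p ↥L)) :=
        Subgroup.mem_centralizer_iff.mpr (fun u hu => hβ u hu a ha)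
      have hxa : x * a * x⁻¹ ∈ Subgroup.centralizer (Pb : Set (↥L ⧸ Cfsg.pPrimeCore p ↥L)) := by
        rw [Subgroup.mem_centralizer_iff]
        intro u hu
        have hu' : x⁻¹ * u * x ∈ Pb := by
          have h1 := hPn.conj_mem u hu x⁻¹
          simpa using h1
        have h1 := hβ _ hu' a ha
        calc u * (x * a * x⁻¹) = x * ((x⁻¹ * u * x) * a) * x⁻¹ := by group
          _ = x * (a * (x⁻¹ * u * x)) * x⁻¹ := by rw [h1]
          _ = x * a * x⁻¹ * u := by group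
      rw [commutatorElement_def]
      exact Subgroup.mul_mem _ hxa (Subgroup.inv_mem _ ha')
    · intro x hx
      have h1 : x = 1 := hγ x hx.1 (fun a ha => Subgroup.mem_centralizer_iff.mp hx.2 a ha)
      rw [h1]; exact Subgroup.one_mem _
  have hQbP : Qb ≤ Pb := by
    intro k hk
    rw [hPb]
    apply Cfsg.Agent.Lib.Helper11.ZJQuot.centralizer_pCore_quotient_le hc
    rw [← hPb]; exact hQbC hk
  intro k hk
  rw [← hQ'] at hk
  rw [← hker]
  have h1 : π k ∈ Qb := by rw [hQb]; exact Subgroup.mem_map_of_mem π hk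
  exact eq_one_of_mem_pq hqp hPbp hQbq (hQbP h1) h1

/-- An `M`-invariant `q`-subgroup of `R` lies in `O_{π(F)'}(R)`. -/
theorem le_piCoreOf (h : Cfg H M R)
    (h2 : 2 ≤ (Nat.card (Cfsg.fittingOf H)).primeFactors.card) {q : ℕ} [Fact q.Prime]
    (hqF : ¬ q ∣ Nat.card (Cfsg.fittingOf H)) (Q : Subgroup G) (hQR : Q ≤ R)
    (hQq : IsPGroup q Q) (hMQ : M ≤ Subgroup.normalizer (Q : Set G)) :
    Q ≤ Cfsg.piCoreOf (Cfsg.primesNotDvd (Nat.card (Cfsg.fittingOf H))) R := by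
  obtain ⟨L, hLdef⟩ : ∃ L : Subgroup G, L = R ⊔ M := ⟨_, rfl⟩
  have hRL : R ≤ L := by rw [hLdef]; exact le_sup_left
  have hML : M ≤ L := by rw [hLdef]; exact le_sup_right
  have hL : Group.IsSolvable ↥L := by
    rw [hLdef]; exact isSolvable_sup R M h.hR h.isSolvable_M h.hMR
  have hLN : L ≤ Subgroup.normalizer (R : Set G) := by
    rw [hLdef]; exact sup_le Subgroup.le_normalizer h.hMR
  have hRn : (R.subgroupOf L).Normal :=
    (Subgroup.normal_subgroupOf_iff_le_normalizer hRL).mpr hLN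
  obtain ⟨NQ, hNQ⟩ : ∃ NQ : Subgroup ↥L,
      NQ = Subgroup.normalClosure ((Q.subgroupOf L : Subgroup ↥L) : Set ↥L) := ⟨_, rfl⟩
  have hNQn : NQ.Normal := by rw [hNQ]; exact Subgroup.normalClosure_normal
  have hNQR : NQ ≤ R.subgroupOf L := by
    rw [hNQ]
    apply Subgroup.normalClosure_le_normal
    intro x hx
    exact Subgroup.mem_subgroupOf.mpr (hQR (Subgroup.mem_subgroupOf.mp hx))
  have hcop : (Nat.card NQ).Coprime (Nat.card (Cfsg.fittingOf H)) := by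
    apply Nat.coprime_of_dvd
    intro p hp hpN hpF
    have : Fact p.Prime := ⟨hp⟩
    obtain ⟨s, hs, hsp⟩ := Finset.exists_mem_ne h2 p
    have hsP : s.Prime := Nat.prime_of_mem_primeFactors hs
    have : Fact s.Prime := ⟨hsP⟩
    have hsF : s ∣ Nat.card (Cfsg.fittingOf H) := Nat.dvd_of_mem_primeFactors hs
    have h1 := h.le_pPrimeCore hpF hsF hsp hqF L hRL hML hL Q hQR hQq hMQ
    have h3 : NQ ≤ Cfsg.pPrimeCore p ↥L := by
      rw [hNQ]; exact Subgroup.normalClosure_le_normal h1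
    have h4 := Cfsg.Agent.Lib.Helper23.Cores.pPrimeCore_card_coprime (G := ↥L) p
    exact (Nat.Prime.coprime_iff_not_dvd hp).mp
      (Nat.Coprime.coprime_dvd_left (Subgroup.card_dvd_of_le h3) h4).symm hpN
  obtain ⟨W, hW⟩ : ∃ W : Subgroup G, W = NQ.map L.subtype := ⟨_, rfl⟩
  have hWR : W ≤ R := by
    rw [hW]
    rintro _ ⟨w, hw, rfl⟩
    exact Subgroup.mem_subgroupOf.mp (hNQR hw)
  have hWn : R ≤ Subgroup.normalizer (W : Set G) := by
    apply le_normalizer_of_conj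
    rw [hW]
    rintro r hr _ ⟨w, hw, rfl⟩
    exact ⟨⟨r, hRL hr⟩ * w * ⟨r, hRL hr⟩⁻¹, hNQn.conj_mem w hw _, rfl⟩
  have hWπ : IsPiNum (Cfsg.primesNotDvd (Nat.card (Cfsg.fittingOf H))) (Nat.card W) := by
    rw [hW, Subgroup.card_map_of_injective (Subgroup.subtype_injective _)]
    intro p hp hpN
    exact ⟨hp, (Nat.Prime.coprime_iff_not_dvd hp).mp (Nat.Coprime.coprime_dvd_left hpN hcop)⟩
  have hQW : Q ≤ W := by
    intro x hx
    rw [hW]
    exact ⟨⟨x, hRL (hQR hx)⟩, by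
      rw [hNQ]; exact Subgroup.subset_normalClosure (Subgroup.mem_subgroupOf.mpr hx), rfl⟩
  exact hQW.trans (Cfsg.Agent.Lib.Helper23.Transitivity.le_piCoreOf _ hWR hWn hWπ)

/-- **Bender's lemma** (S1481). -/
theorem main (h : Cfg H M R) (h2 : 2 ≤ (Nat.card (Cfsg.fittingOf H)).primeFactors.card)
    (q : ℕ) [hq : Fact q.Prime] (hqF : ¬ q ∣ Nat.card (Cfsg.fittingOf H)) :
    ∃! Q : Subgroup G, Q ∈ Cfsg.maxInvSubgroups R M {q} ∧
      (∀ Q' : Subgroup G, Q' ∈ Cfsg.maxInvSubgroups R M {q} →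
        Q' ≤ Cfsg.piCoreOf (Cfsg.primesNotDvd (Nat.card (Cfsg.fittingOf H))) R ∧
        ¬ q ∣ Q'.relIndex (Cfsg.piCoreOf (Cfsg.primesNotDvd (Nat.card (Cfsg.fittingOf H))) R)) := by
  obtain ⟨K, hK⟩ : ∃ K : Subgroup G,
      K = Cfsg.piCoreOf (Cfsg.primesNotDvd (Nat.card (Cfsg.fittingOf H))) R := ⟨_, rfl⟩
  rw [← hK]
  have hKR : K ≤ R := by rw [hK]; exact piCoreOf_le _ _
  have hKcop : (Nat.card K).Coprime (Nat.card (Cfsg.fittingOf H)) := by
    rw [hK]; exact (coprime_of_isPiNum (isPiNum_card_piCoreOf _ _)).symm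
  have hMK : M ≤ Subgroup.normalizer (K : Set G) := by
    apply le_normalizer_of_conj
    intro m hm k hk
    have hmR := h.hMR hm
    obtain ⟨T, hT⟩ : ∃ T : Subgroup G, T = K.map (MulAut.conj m).toMonoidHom := ⟨_, rfl⟩
    have hTR : T ≤ R := by
      rw [hT]
      rintro _ ⟨x, hx, rfl⟩
      exact conj_mem_of_mem_normalizer hmR (hKR hx)
    have hTn : R ≤ Subgroup.normalizer (T : Set G) := by
      apply le_normalizer_of_conj
      rw [hT]
      rintro r hr _ ⟨x, hx, rfl⟩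
      have hr' : m⁻¹ * r * m ∈ R := inv_conj_mem_of_mem_normalizer hmR hr
      have hx' : (m⁻¹ * r * m) * x * (m⁻¹ * r * m)⁻¹ ∈ K := by
        rw [hK]
        exact conj_mem_of_mem_normalizer (le_normalizer_piCoreOf _ R hr') (by rw [← hK]; exact hx)
      refine ⟨_, hx', ?_⟩
      simp only [MulEquiv.coe_toMonoidHom, MulAut.conj_apply]
      group
    have hTπ : IsPiNum (Cfsg.primesNotDvd (Nat.card (Cfsg.fittingOf H))) (Nat.card T) := by
      rw [hT, Subgroup.card_map_of_injective (MulAut.conj m).injective, hK]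
      exact isPiNum_card_piCoreOf _ _
    have hTK : T ≤ K := by
      rw [hK]; exact Cfsg.Agent.Lib.Helper23.Transitivity.le_piCoreOf _ hTR hTn hTπ
    apply hTK
    rw [hT]
    exact ⟨k, hk, by simp [MulAut.conj_apply]⟩
  obtain ⟨s, hs⟩ : ∃ s, s ∈ (Nat.card (Cfsg.fittingOf H)).primeFactors := by
    apply Finset.card_pos.mp; omega
  have hsP : s.Prime := Nat.prime_of_mem_primeFactors hs
  have : Fact s.Prime := ⟨hsP⟩
  have hsF : s ∣ Nat.card (Cfsg.fittingOf H) := Nat.dvd_of_mem_primeFactors hs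
  obtain ⟨Z, hZ⟩ : ∃ Z : Subgroup G, Z = zPart (Cfsg.fittingOf H) s := ⟨_, rfl⟩
  have hZM : Z ≤ M := by rw [hZ]; exact h.zPart_le_M s
  have hZs : IsPGroup s Z := by rw [hZ]; exact zPart_isPGroup _ _
  have hsK : ¬ s ∣ Nat.card K := fun hd =>
    (Nat.Prime.coprime_iff_not_dvd hsP).mp (Nat.Coprime.coprime_dvd_right hsF hKcop).symm hd
  have hZK : ∀ a ∈ Z, ∀ k ∈ K, a * k * a⁻¹ ∈ K := fun a ha k hk =>
    conj_mem_of_mem_normalizer (hMK (hZM ha)) hk
  have hfix : ∀ c ∈ K, (∀ a ∈ Z, a * c = c * a) → c = 1 := by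
    intro c hc hca
    exact h.eq_one_of_commute_zPart s hsF K hKR hMK hKcop hc (by rw [← hZ]; exact hca)
  obtain ⟨S, hSK, hScard, hSZ⟩ :=
    Cfsg.Agent.Lib.Helper31.InvSylow.exists_invariant_sylow Z K hZs hsK hZK q
  have huniq : ∀ S' : Subgroup G, S' ≤ K → Nat.card S' = q ^ (Nat.card K).factorization q →
      (∀ a ∈ Z, ∀ x ∈ S', a * x * a⁻¹ ∈ S') → S' = S := by
    intro S' hS'K hS'card hS'Z
    obtain ⟨c, hcK, hcZ, hcS⟩ := Cfsg.Agent.Lib.Helper31.InvSylow.invariant_sylow_conj Z K hZs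
      hsK hZK q S' S hS'K hSK hS'card hScard hS'Z hSZ
    have hc1 := hfix c hcK hcZ
    rw [hc1] at hcS
    rw [← hcS]
    ext x
    constructor
    · intro hx
      exact ⟨x, hx, by simp⟩
    · rintro ⟨y, hy, rfl⟩
      simpa using hy
  have hMS : M ≤ Subgroup.normalizer (S : Set G) := by
    apply le_normalizer_of_conj
    intro m hm x hx
    obtain ⟨T, hT⟩ : ∃ T : Subgroup G, T = S.map (MulAut.conj m).toMonoidHom := ⟨_, rfl⟩
    have hTS : T = S := by
      apply huniq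
      · rw [hT]
        rintro _ ⟨y, hy, rfl⟩
        exact conj_mem_of_mem_normalizer (hMK hm) (hSK hy)
      · rw [hT, Subgroup.card_map_of_injective (MulAut.conj m).injective]; exact hScard
      · rw [hT]
        rintro a ha _ ⟨y, hy, rfl⟩
        have ham : m * a = a * m := zPart_central (by rw [← hZ]; exact ha) (h.hM hm)
        refine ⟨a * y * a⁻¹, hSZ a ha y hy, ?_⟩
        show m * (a * y * a⁻¹) * m⁻¹ = a * (m * y * m⁻¹) * a⁻¹
        calc m * (a * y * a⁻¹) * m⁻¹ = (m * a) * y * (m * a)⁻¹ := by group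
          _ = (a * m) * y * (a * m)⁻¹ := by rw [ham]
          _ = a * (m * y * m⁻¹) * a⁻¹ := by group
    rw [← hTS, hT]
    exact ⟨x, hx, rfl⟩
  have hle : ∀ Y ∈ Cfsg.invSubgroups R M {q}, Y ≤ S := by
    rintro Y ⟨hYR, hYπ, hMY⟩
    have hYq : IsPGroup q Y := by
      have hne : Nat.card Y ≠ 0 := Nat.card_pos.ne'
      have h1 := Nat.eq_prime_pow_of_unique_prime_dvd hne (fun {d} hd hdY => hYπ d hd hdY)
      exact IsPGroup.of_card h1
    have hYK : Y ≤ K := by rw [hK]; exact h.le_piCoreOf h2 hqF Y hYR hYq hMY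
    obtain ⟨S', hYS', hS'K, hS'card, hS'Z⟩ :=
      Cfsg.Agent.Lib.Helper31.InvSylow.exists_invariant_sylow_ge Z K hZs hsK hZK q Y hYK hYq
        (fun a ha y hy => conj_mem_of_mem_normalizer (hMY (hZM ha)) hy)
    rw [huniq S' hS'K hS'card hS'Z] at hYS'
    exact hYS'
  have hSinv : S ∈ Cfsg.invSubgroups R M {q} := by
    refine ⟨hSK.trans hKR, ?_, hMS⟩
    intro d hd hdS
    rw [hScard] at hdS
    exact (Nat.prime_dvd_prime_iff_eq hd hq.out).mp (hd.dvd_of_dvd_pow hdS)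
  have hSmax : S ∈ Cfsg.maxInvSubgroups R M {q} :=
    ⟨hSinv, fun Y hY hSY => le_antisymm (hle Y hY) hSY⟩
  have hall : ∀ Q' ∈ Cfsg.maxInvSubgroups R M {q}, Q' = S := by
    intro Q' hQ'
    exact (hQ'.2 S hSinv (hle Q' hQ'.1)).symm
  have hidx : ¬ q ∣ S.relIndex K := by
    intro hd
    have hmul : Nat.card ↥(S.subgroupOf K) * (S.subgroupOf K).index = Nat.card K :=
      Subgroup.card_mul_index _
    have hc : Nat.card ↥(S.subgroupOf K) = Nat.card S :=
      Nat.card_congr (Subgroup.subgroupOfEquivOfLe hSK).toEquiv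
    have hKpos : Nat.card K ≠ 0 := Nat.card_pos.ne'
    have hd2 : q ^ ((Nat.card K).factorization q + 1) ∣ Nat.card K := by
      have h3 : q ^ (Nat.card K).factorization q * q ∣
          Nat.card ↥(S.subgroupOf K) * (S.subgroupOf K).index := by
        rw [hc, hScard]
        exact Nat.mul_dvd_mul dvd_rfl hd
      rw [hmul] at h3
      rw [pow_succ]
      exact h3
    exact Nat.pow_succ_factorization_not_dvd hKpos hq.out hd2
  refine ⟨S, ⟨hSmax, fun Q' hQ' => ?_⟩, fun Q hQ => hall Q hQ.1⟩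
  rw [hall Q' hQ']
  exact ⟨hSK, hidx⟩

end Cfg

end Cfsg.Agent.Lib.Helper90.Bender
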