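import Mathlib
import Cfsg.Prelude.Def_Local
import Cfsg.Prelude.Def_OddOrderLocal
import Cfsg.Prelude.Def_CaseTheorems
import Cfsg.Agent.Lib.Helper90.TTKey
import Cfsg.Agent.Lib.Helper90.SylowConj
import Cfsg.Agent.Lib.Helper23.Transitivity2
import Cfsg.Agent.Lib.Helper31.InvSylow
import Cfsg.Agent.Lib.Helper22.PPrimeP
import Cfsg.Agent.S1282

set_option autoImplicit false

/-
helper90: Thompson's transitivity theorem (`transitive`), in the form with explicit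
commutation hypotheses.  `E` is an abelian `p`-subgroup of `p`-rank at least three containing
every `p`-element of its centralizer, all `p`-locals `N_G(T)` are `p`-constrained, and (for
`p = 2`) all `p`-subgroups have class at most two.  Then `O_{p'}(C_G(E))` is transitive on the
maximal `E`-invariant `q`-subgroups, `q ≠ p`.
-/

namespace Cfsg.Agent.Lib.Helper90.TTMain

open scoped commutatorElement

open Cfsg.Agent.Lib.Helper90.Conj Cfsg.Agent.Lib.Helper90.TTCore Cfsg.Agent.Lib.Helper90.TTKey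
open Cfsg.Agent.Lib.Helper23.Transitivity Cfsg.Agent.Lib.Helper23.Transitivity2

variable {G : Type*} [Group G] [Finite G]

omit [Finite G] in
theorem card_sup_dvd' (H K : Subgroup G) (hHK : H ≤ Subgroup.normalizer (K : Set G)) :
    Nat.card ↥(H ⊔ K) ∣ Nat.card H * Nat.card K := by
  have hKn : (K.subgroupOf (Subgroup.normalizer (K : Set G))).Normal :=
    Subgroup.normal_in_normalizer
  have h1 := Cfsg.Agent.Lib.Helper23.Cores.card_sup_dvd_mul
    (H.subgroupOf (Subgroup.normalizer (K : Set G)))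
    (K.subgroupOf (Subgroup.normalizer (K : Set G)))
  rw [← Subgroup.subgroupOf_sup hHK Subgroup.le_normalizer] at h1
  have e1 : Nat.card ↥((H ⊔ K).subgroupOf (Subgroup.normalizer (K : Set G))) =
      Nat.card ↥(H ⊔ K) :=
    Nat.card_congr (Subgroup.subgroupOfEquivOfLe (sup_le hHK Subgroup.le_normalizer)).toEquiv
  have e2 : Nat.card ↥(H.subgroupOf (Subgroup.normalizer (K : Set G))) = Nat.card H :=
    Nat.card_congr (Subgroup.subgroupOfEquivOfLe hHK).toEquiv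
  have e3 : Nat.card ↥(K.subgroupOf (Subgroup.normalizer (K : Set G))) = Nat.card K :=
    Nat.card_congr (Subgroup.subgroupOfEquivOfLe Subgroup.le_normalizer).toEquiv
  rw [e1, e2, e3] at h1
  exact h1

variable {p q : ℕ} [hp : Fact p.Prime] [hq : Fact q.Prime]

/-- A `p'`-element of `C_G(E)` lies in `O_{p'}(C_G(E))`, when `E` is an abelian `p`-subgroup
containing every `p`-element of its centralizer. -/
theorem mem_piCoreOf_of_coprime (E : Subgroup G) (hEp : IsPGroup p E)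
    (hEc : ∀ a ∈ E, ∀ b ∈ E, a * b = b * a)
    (hfull : ∀ x : G, (∀ a ∈ E, a * x = x * a) → (∃ k : ℕ, x ^ p ^ k = 1) → x ∈ E)
    (c : G) (hc : ∀ a ∈ E, a * c = c * a) (hco : (orderOf c).Coprime p) :
    c ∈ Cfsg.piCoreOf (Cfsg.primesNotDvd p) (Subgroup.centralizer (E : Set G)) := by
  obtain ⟨C, hC⟩ : ∃ C : Subgroup G, C = Subgroup.centralizer (E : Set G) := ⟨_, rfl⟩
  rw [← hC]
  have hmemC : ∀ x : G, x ∈ C ↔ ∀ a ∈ E, a * x = x * a := by
    intro x; rw [hC, Subgroup.mem_centralizer_iff]; exact Iff.rfl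
  have hEC : E ≤ C := fun e he => (hmemC e).mpr (fun a ha => hEc a ha e he)
  obtain ⟨E', hE'⟩ : ∃ E' : Subgroup ↥C, E' = E.subgroupOf C := ⟨_, rfl⟩
  have hmemE' : ∀ x : ↥C, x ∈ E' ↔ (x : G) ∈ E := by
    intro x; rw [hE', Subgroup.mem_subgroupOf]
  have hcentral : ∀ z ∈ E', ∀ g : ↥C, g * z = z * g := by
    intro z hz g
    apply Subtype.ext
    exact ((hmemC g).mp g.2 z ((hmemE' z).mp hz)).symm
  have hE'n : E'.Normal := by
    constructor
    intro z hz g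
    have h1 : g * z * g⁻¹ = z := by rw [hcentral z hz g]; group
    rw [h1]; exact hz
  have hE'p : IsPGroup p ↥E' := by rw [hE']; exact hEp.comap_subtype
  have hcop : (Nat.card ↥E').Coprime E'.index := by
    obtain ⟨S, hS⟩ := hE'p.exists_le_sylow
    have hSE : (S : Subgroup ↥C) ≤ E' := by
      intro s hs
      rw [hmemE']
      apply hfull
      · exact (hmemC s).mp s.2
      · obtain ⟨k, hk⟩ := S.2 ⟨s, hs⟩
        refine ⟨k, ?_⟩
        have h1 := congrArg (fun x : ↥(S : Subgroup ↥C) => ((x : ↥C) : G)) hk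
        simpa using h1
    have heq : E' = (S : Subgroup ↥C) := le_antisymm hS hSE
    have hidx : ¬ p ∣ E'.index := by rw [heq]; exact S.not_dvd_index
    obtain ⟨n, hn⟩ := IsPGroup.iff_card.mp hE'p
    rw [hn]
    exact Nat.Coprime.pow_left n ((Nat.Prime.coprime_iff_not_dvd hp.out).mpr hidx)
  obtain ⟨H, hH⟩ := Subgroup.exists_right_complement'_of_coprime hcop
  have hHcard : E'.index = Nat.card ↥H := hH.symm.index_eq_card
  have hHp : (Nat.card ↥H).Coprime p := by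
    rw [← hHcard]
    obtain ⟨S, hS⟩ := hE'p.exists_le_sylow
    have hSE : (S : Subgroup ↥C) ≤ E' := by
      intro s hs
      rw [hmemE']
      apply hfull
      · exact (hmemC s).mp s.2
      · obtain ⟨k, hk⟩ := S.2 ⟨s, hs⟩
        refine ⟨k, ?_⟩
        have h1 := congrArg (fun x : ↥(S : Subgroup ↥C) => ((x : ↥C) : G)) hk
        simpa using h1
    have heq : E' = (S : Subgroup ↥C) := le_antisymm hS hSE
    have hidx : ¬ p ∣ E'.index := by rw [heq]; exact S.not_dvd_index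
    exact ((Nat.Prime.coprime_iff_not_dvd hp.out).mpr hidx).symm
  have hdecomp : ∀ g : ↥C, ∃ e ∈ E', ∃ h ∈ H, g = e * h := by
    intro g
    obtain ⟨⟨⟨e, he⟩, ⟨h, hh⟩⟩, hx, -⟩ :=
      (Subgroup.isComplement'_def.mp hH).existsUnique g
    exact ⟨e, he, h, hh, hx.symm⟩
  have hHn : ∀ g : ↥C, ∀ h ∈ H, g * h * g⁻¹ ∈ H := by
    intro g h hh
    obtain ⟨e, he, h₀, hh₀, rfl⟩ := hdecomp g
    have h1 : e * h₀ * h * (e * h₀)⁻¹ = h₀ * h * h₀⁻¹ := by
      have h2 := hcentral e he (h₀ * h * h₀⁻¹)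
      calc e * h₀ * h * (e * h₀)⁻¹ = e * (h₀ * h * h₀⁻¹) * e⁻¹ := by group
        _ = (h₀ * h * h₀⁻¹) * e * e⁻¹ := by rw [h2]
        _ = h₀ * h * h₀⁻¹ := by group
    rw [h1]
    exact H.mul_mem (H.mul_mem hh₀ hh) (H.inv_mem hh₀)
  -- the image of `H` in `G` lies in the core
  have hHG : H.map C.subtype ≤ Cfsg.piCoreOf (Cfsg.primesNotDvd p) C := by
    apply le_piCoreOf
    · exact Subgroup.map_subtype_le _
    · apply le_normalizer_of_conj
      rintro g hg _ ⟨h, hh, rfl⟩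
      exact ⟨⟨g, hg⟩ * h * ⟨g, hg⟩⁻¹, hHn ⟨g, hg⟩ h hh, rfl⟩
    · intro r hr hrd
      rw [Subgroup.card_map_of_injective (Subgroup.subtype_injective C)] at hrd
      refine ⟨hr, fun hrp => ?_⟩
      have hrp' : r = p := (Nat.prime_dvd_prime_iff_eq hr hp.out).mp hrp
      rw [hrp'] at hrd
      exact (Nat.Prime.coprime_iff_not_dvd hp.out).mp hHp.symm hrd
  apply hHG
  obtain ⟨c', hc'⟩ : ∃ c' : ↥C, (c' : G) = c := ⟨⟨c, (hmemC c).mpr hc⟩, rfl⟩
  obtain ⟨e, he, h, hh, hceh⟩ := hdecomp c'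
  have hch : Commute c' h⁻¹ := by
    have h1 : c' * h⁻¹ = e := by rw [hceh]; group
    have h2 : h⁻¹ * c' = e := by
      calc h⁻¹ * c' = h⁻¹ * e * h := by rw [hceh]; group
        _ = e * h⁻¹ * h := by rw [hcentral e he h⁻¹]
        _ = e := by group
    exact h1.trans h2.symm
  have he1 : e = 1 := by
    have h1 : e = c' * h⁻¹ := by rw [hceh]; group
    have hord : orderOf c' = orderOf c := by rw [← hc']; exact (Subgroup.orderOf_coe c').symm
    have h2 : e ^ (orderOf c * Nat.card ↥H) = 1 := by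
      rw [h1, hch.mul_pow]
      have ha : c' ^ (orderOf c * Nat.card ↥H) = 1 := by
        rw [pow_mul, ← hord, pow_orderOf_eq_one, one_pow]
      have hb : (h⁻¹) ^ (orderOf c * Nat.card ↥H) = 1 := by
        rw [mul_comm, pow_mul, inv_pow]
        have h3 : h ^ Nat.card ↥H = 1 := by
          have h4 : (⟨h, hh⟩ : ↥H) ^ Nat.card ↥H = 1 := pow_card_eq_one'
          exact congrArg Subtype.val h4
        rw [h3, inv_one, one_pow]
      rw [ha, hb, one_mul]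
    have h3 : orderOf e ∣ orderOf c * Nat.card ↥H := orderOf_dvd_of_pow_eq_one h2
    obtain ⟨k, hk⟩ := hE'p ⟨e, he⟩
    have h4 : orderOf e ∣ p ^ k := by
      apply orderOf_dvd_of_pow_eq_one
      simpa using congrArg Subtype.val hk
    have h5 : (orderOf c * Nat.card ↥H).Coprime (p ^ k) :=
      Nat.Coprime.pow_right k (Nat.Coprime.mul_left hco hHp)
    exact orderOf_eq_one_iff.mp
      (Nat.Coprime.eq_one_of_dvd (Nat.Coprime.coprime_dvd_left h3 h5) h4)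
  refine ⟨c', ?_, hc'⟩
  rw [hceh, he1, one_mul]
  exact hh

/-- An elementary abelian subgroup of order at least `p ^ 3` inside `E`. -/
theorem exists_elemAb (E : Subgroup G) (hEp : IsPGroup p E) (hE3 : ¬ Cfsg.PRankLE p 2 ↥E) :
    ∃ A : Subgroup G, A ≤ E ∧ Cfsg.IsElementaryAbelian p A ∧ p ^ 3 ≤ Nat.card ↥A := by
  unfold Cfsg.PRankLE at hE3
  push Not at hE3
  obtain ⟨B, hBc, hBp, hBcard⟩ := hE3
  refine ⟨B.map E.subtype, Subgroup.map_subtype_le _, ⟨?_, ?_⟩, ?_⟩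
  · refine ⟨⟨?_⟩⟩
    rintro ⟨_, ⟨a, ha, rfl⟩⟩ ⟨_, ⟨b, hb, rfl⟩⟩
    apply Subtype.ext
    have h1 := mul_comm' (⟨a, ha⟩ : ↥B) ⟨b, hb⟩
    have h2 := congrArg (fun x : ↥B => ((x : ↥E) : G)) h1
    simpa using h2
  · rintro _ ⟨a, ha, rfl⟩
    have h1 := hBp a ha
    have h2 := congrArg (Subtype.val) h1
    simpa using h2
  · rw [Subgroup.card_map_of_injective (Subgroup.subtype_injective E)]
    have hBpg : IsPGroup p ↥B := hEp.to_subgroup B
    obtain ⟨n, hn⟩ := IsPGroup.iff_card.mp hBpg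
    rw [hn] at hBcard ⊢
    have h3 : 2 < n := (Nat.pow_lt_pow_iff_right hp.out.one_lt).mp hBcard
    exact Nat.pow_le_pow_right hp.out.pos h3

/-- For `a ∈ E` nontrivial: an `E`-invariant `p'`-subgroup `W` (namely `O_{p'}(N_G(⟨a⟩))`)
containing every `E`-invariant `q`-subgroup of `C_G(a)`. -/
theorem exists_core (hqp : q ≠ p)
    (hloc : ∀ T : Subgroup G, IsPGroup p T → T ≠ ⊥ →
      Cfsg.IsPConstrained p ↥(Subgroup.normalizer (T : Set G)))
    (h2 : p = 2 → ∀ R : Subgroup G, IsPGroup p R → ∀ x ∈ R, ∀ y ∈ R, ∀ z ∈ R, ⁅⁅x, y⁆, z⁆ = 1)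
    (E : Subgroup G) (hEp : IsPGroup p E) (hEc : ∀ a ∈ E, ∀ b ∈ E, a * b = b * a)
    (hfull : ∀ x : G, (∀ a ∈ E, a * x = x * a) → (∃ k : ℕ, x ^ p ^ k = 1) → x ∈ E)
    (a : G) (ha : a ∈ E) (ha1 : a ≠ 1) :
    ∃ W : Subgroup G, ¬ p ∣ Nat.card W ∧ (∀ e ∈ E, ∀ w ∈ W, e * w * e⁻¹ ∈ W) ∧
      ∀ F : Subgroup G, IsPGroup q F → E ≤ Subgroup.normalizer (F : Set G) →
        F ≤ Subgroup.centralizer ({a} : Set G) → F ≤ W := by
  obtain ⟨N, hN⟩ : ∃ N : Subgroup G,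
      N = Subgroup.normalizer ((Subgroup.zpowers a : Subgroup G) : Set G) := ⟨_, rfl⟩
  have hT : IsPGroup p (Subgroup.zpowers a) := hEp.to_le (Subgroup.zpowers_le.mpr ha)
  have hT1 : Subgroup.zpowers a ≠ ⊥ := Subgroup.zpowers_ne_bot.mpr ha1
  have hc := hloc _ hT hT1
  rw [← hN] at hc
  have hEN : E ≤ N := by
    intro e he
    rw [hN]
    exact Cfsg.Agent.Lib.Helper24.Coprime.mem_normalizer_zpowers_of_commute (hEc e he a ha)
  refine ⟨(Cfsg.pPrimeCore p ↥N).map N.subtype, ?_, ?_, ?_⟩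
  · rw [Subgroup.card_map_of_injective (Subgroup.subtype_injective N)]
    exact (Nat.Prime.coprime_iff_not_dvd hp.out).mp
      (Cfsg.Agent.Lib.Helper23.Cores.pPrimeCore_card_coprime p).symm
  · intro e he w hw
    exact Cfsg.Agent.Lib.Helper22.PPrimeP.conj_mem_pPrimeCore_map p
      (Subgroup.le_normalizer (hEN he)) hw
  · intro F hF hEF hFa
    have hFN : F ≤ N := by
      intro f hf
      rw [hN]
      apply Cfsg.Agent.Lib.Helper24.Coprime.mem_normalizer_zpowers_of_commute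
      exact (Subgroup.mem_centralizer_iff.mp (hFa hf) a (Set.mem_singleton a)).symm
    exact le_pPrimeCoreOf_of_invariant hqp N hc h2 E F hEN hFN hEp hEc hfull hF hEF

/-- **Thompson's transitivity theorem.** -/
theorem transitive (hqp : q ≠ p)
    (hloc : ∀ T : Subgroup G, IsPGroup p T → T ≠ ⊥ →
      Cfsg.IsPConstrained p ↥(Subgroup.normalizer (T : Set G)))
    (h2 : p = 2 → ∀ R : Subgroup G, IsPGroup p R → ∀ x ∈ R, ∀ y ∈ R, ∀ z ∈ R, ⁅⁅x, y⁆, z⁆ = 1)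
    (E : Subgroup G) (hEp : IsPGroup p E) (hEc : ∀ a ∈ E, ∀ b ∈ E, a * b = b * a)
    (hE3 : ¬ Cfsg.PRankLE p 2 ↥E)
    (hfull : ∀ x : G, (∀ a ∈ E, a * x = x * a) → (∃ k : ℕ, x ^ p ^ k = 1) → x ∈ E) :
    ∀ Q₁ ∈ Cfsg.maxInvSubgroups ⊤ E {q}, ∀ Q₂ ∈ Cfsg.maxInvSubgroups ⊤ E {q},
      KConj (Cfsg.piCoreOf (Cfsg.primesNotDvd p) (Subgroup.centralizer (E : Set G))) Q₁ Q₂ := by
  obtain ⟨A, hAE, hAea, hA3⟩ := exists_elemAb E hEp hE3
  obtain ⟨D, hD⟩ : ∃ D : Subgroup G,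
      D = Cfsg.piCoreOf (Cfsg.primesNotDvd p) (Subgroup.centralizer (E : Set G)) := ⟨_, rfl⟩
  rw [← hD]
  have hDC : D ≤ Subgroup.centralizer (E : Set G) := by rw [hD]; exact piCoreOf_le _ _
  suffices H : ∀ m : ℕ, ∀ Q₁ Q₂ : Subgroup G, Q₁ ∈ Cfsg.maxInvSubgroups ⊤ E {q} →
      Q₂ ∈ Cfsg.maxInvSubgroups ⊤ E {q} → Nat.card G - Nat.card ↥(Q₁ ⊓ Q₂) = m →
      KConj D Q₁ Q₂ from fun Q₁ h₁ Q₂ h₂ => H _ Q₁ Q₂ h₁ h₂ rfl
  intro m
  induction m using Nat.strong_induction_on with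
  | _ m ih =>
    intro Q₁ Q₂ h₁ h₂ hm
    have hq1 := (mem_inv_iff E q hq.out Q₁).mp h₁.1
    have hq2 := (mem_inv_iff E q hq.out Q₂).mp h₂.1
    by_cases hD₁ : Q₁ ⊓ Q₂ = Q₁
    · have hle : Q₁ ≤ Q₂ := inf_eq_left.mp hD₁
      have heq : Q₂ = Q₁ := h₁.2 Q₂ h₂.1 hle
      rw [heq]; exact kConj_refl D Q₁
    by_cases hD₂ : Q₁ ⊓ Q₂ = Q₂
    · have hle : Q₂ ≤ Q₁ := inf_eq_right.mp hD₂
      have heq : Q₁ = Q₂ := h₂.2 Q₁ h₁.1 hle
      rw [heq]; exact kConj_refl D Q₂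
    obtain ⟨a, haA, ha1, hF₁, hF₂⟩ := Cfsg.Agent.S1282.result p A hAea hA3 q hqp Q₁ Q₂ hq1.1
      hq2.1 (hAE.trans hq1.2) (hAE.trans hq2.2) hD₁ hD₂
    obtain ⟨D₀, hD₀⟩ : ∃ D₀ : Subgroup G, D₀ = Q₁ ⊓ Q₂ := ⟨_, rfl⟩
    rw [← hD₀] at hF₁ hF₂ hm
    have hD₀Q₁ : D₀ ≤ Q₁ := by rw [hD₀]; exact inf_le_left
    have hD₀Q₂ : D₀ ≤ Q₂ := by rw [hD₀]; exact inf_le_right
    obtain ⟨W, hWp, hWE, hWF⟩ := exists_core (q := q) hqp hloc h2 E hEp hEc hfull a (hAE haA) ha1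
    have hED₀ : ∀ e ∈ E, ∀ d ∈ D₀, e * d * e⁻¹ ∈ D₀ := by
      intro e he d hd
      rw [hD₀] at hd ⊢
      exact ⟨conj_mem_of_mem_normalizer (hq1.2 he) hd.1,
        conj_mem_of_mem_normalizer (hq2.2 he) hd.2⟩
    have hEND₀ : E ≤ Subgroup.normalizer (D₀ : Set G) := le_normalizer_of_conj hED₀
    have hD₀q : IsPGroup q D₀ := hq1.1.to_le hD₀Q₁
    have step : ∀ Q : Subgroup G, Q ∈ Cfsg.maxInvSubgroups ⊤ E {q} → D₀ ≤ Q →
        ¬ (Subgroup.normalizer (D₀ : Set G) ⊓ Q ⊓ Subgroup.centralizer {a} ≤ D₀) →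
        ∃ R : Subgroup G, IsPGroup q R ∧ (∀ e ∈ E, ∀ r ∈ R, e * r * e⁻¹ ∈ R) ∧ D₀ < R ∧
          R ≤ Q ∧ R ≤ (W ⊓ Subgroup.normalizer (D₀ : Set G)) ⊔ D₀ := by
      intro Q hQ hD₀Q hF
      have hQq := (mem_inv_iff E q hq.out Q).mp hQ.1
      obtain ⟨F, hFdef⟩ : ∃ F : Subgroup G, F =
          Subgroup.normalizer (D₀ : Set G) ⊓ Q ⊓ Subgroup.centralizer ({a} : Set G) := ⟨_, rfl⟩
      rw [← hFdef] at hF
      have hFN : F ≤ Subgroup.normalizer (D₀ : Set G) := by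
        rw [hFdef]; exact inf_le_left.trans inf_le_left
      have hFQ : F ≤ Q := by rw [hFdef]; exact inf_le_left.trans inf_le_right
      have hFa : F ≤ Subgroup.centralizer ({a} : Set G) := by rw [hFdef]; exact inf_le_right
      have hFq : IsPGroup q F := hQq.1.to_le hFQ
      have hEF : ∀ e ∈ E, ∀ f ∈ F, e * f * e⁻¹ ∈ F := by
        intro e he f hf
        have hea : e ∈ Subgroup.centralizer ({a} : Set G) := by
          rw [Subgroup.mem_centralizer_iff]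
          intro x hx
          rw [Set.mem_singleton_iff.mp hx]
          exact hEc a (hAE haA) e he
        rw [hFdef]
        refine ⟨⟨?_, conj_mem_of_mem_normalizer (hQq.2 he) (hFQ hf)⟩, ?_⟩
        · exact Subgroup.mul_mem _ (Subgroup.mul_mem _ (hEND₀ he) (hFN hf))
            (Subgroup.inv_mem _ (hEND₀ he))
        · exact Subgroup.mul_mem _ (Subgroup.mul_mem _ hea (hFa hf)) (Subgroup.inv_mem _ hea)
      have hFW : F ≤ W := hWF F hFq (le_normalizer_of_conj hEF) hFa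
      refine ⟨F ⊔ D₀, hFq.to_sup_of_normal_right' hD₀q hFN, ?_, ?_, ?_, ?_⟩
      · intro e he
        exact conj_mem_sup (hEF e he) (hED₀ e he)
      · refine lt_of_le_of_ne le_sup_right ?_
        intro heq
        apply hF
        rw [heq]
        exact le_sup_left
      · exact sup_le hFQ hD₀Q
      · exact sup_le_sup_right (le_inf hFW hFN) D₀
    obtain ⟨R₁, hR₁q, hR₁E, hR₁lt, hR₁Q, hR₁L⟩ := step Q₁ h₁ hD₀Q₁ hF₁
    obtain ⟨R₂, hR₂q, hR₂E, hR₂lt, hR₂Q, hR₂L⟩ := step Q₂ h₂ hD₀Q₂ hF₂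
    obtain ⟨L, hL⟩ : ∃ L : Subgroup G,
        L = (W ⊓ Subgroup.normalizer (D₀ : Set G)) ⊔ D₀ := ⟨_, rfl⟩
    rw [← hL] at hR₁L hR₂L
    have hLp : ¬ p ∣ Nat.card L := by
      have hdvd := card_sup_dvd' (W ⊓ Subgroup.normalizer (D₀ : Set G)) D₀ inf_le_right
      rw [← hL] at hdvd
      intro hpL
      rcases (hp.out.dvd_mul).mp (hpL.trans hdvd) with h3 | h3
      · exact hWp (h3.trans (Subgroup.card_dvd_of_le inf_le_left))
      · obtain ⟨n, hn⟩ := IsPGroup.iff_card.mp hD₀q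
        rw [hn] at h3
        exact hqp ((Nat.prime_dvd_prime_iff_eq hp.out hq.out).mp
          (hp.out.dvd_of_dvd_pow h3)).symm
    have hLE : ∀ e ∈ E, ∀ l ∈ L, e * l * e⁻¹ ∈ L := by
      intro e he
      rw [hL]
      apply conj_mem_sup
      · intro w hw
        exact ⟨hWE e he w hw.1, Subgroup.mul_mem _ (Subgroup.mul_mem _ (hEND₀ he) hw.2)
          (Subgroup.inv_mem _ (hEND₀ he))⟩
      · exact hED₀ e he
    obtain ⟨S₁, hRS₁, hS₁L, hS₁c, hS₁E⟩ :=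
      Cfsg.Agent.Lib.Helper31.InvSylow.exists_invariant_sylow_ge E L hEp hLp hLE q R₁ hR₁L
        hR₁q hR₁E
    obtain ⟨S₂, hRS₂, hS₂L, hS₂c, hS₂E⟩ :=
      Cfsg.Agent.Lib.Helper31.InvSylow.exists_invariant_sylow_ge E L hEp hLp hLE q R₂ hR₂L
        hR₂q hR₂E
    obtain ⟨c, hcL, hcE, hcS⟩ :=
      Cfsg.Agent.Lib.Helper31.InvSylow.invariant_sylow_conj E L hEp hLp hLE q S₁ S₂ hS₁L hS₂L
        hS₁c hS₂c hS₁E hS₂E
    have hcD : c ∈ D := by
      rw [hD]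
      apply mem_piCoreOf_of_coprime E hEp hEc hfull c hcE
      have h3 : orderOf c ∣ Nat.card L := Subgroup.orderOf_dvd_natCard L hcL
      exact Nat.Coprime.coprime_dvd_left h3
        ((Nat.Prime.coprime_iff_not_dvd hp.out).mpr hLp).symm
    have hcC : c ∈ Subgroup.centralizer (E : Set G) := hDC hcD
    have hS₁inv : S₁ ∈ Cfsg.invSubgroups ⊤ E {q} :=
      (mem_inv_iff E q hq.out S₁).mpr ⟨IsPGroup.of_card hS₁c, le_normalizer_of_conj hS₁E⟩
    have hS₂inv : S₂ ∈ Cfsg.invSubgroups ⊤ E {q} :=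
      (mem_inv_iff E q hq.out S₂).mpr ⟨IsPGroup.of_card hS₂c, le_normalizer_of_conj hS₂E⟩
    obtain ⟨T₁, hT₁, hST₁⟩ := exists_maxInv_ge hS₁inv
    obtain ⟨T₂, hT₂, hST₂⟩ := exists_maxInv_ge hS₂inv
    have hcardlt : ∀ Y : Subgroup G, D₀ < Y → ∀ Z : Subgroup G, Y ≤ Z →
        Nat.card G - Nat.card ↥Z < m := by
      intro Y hY Z hYZ
      have h3 : Nat.card ↥D₀ < Nat.card ↥Y := card_lt_of_lt hY
      have h4 : Nat.card ↥Y ≤ Nat.card ↥Z := Subgroup.card_le_of_le hYZ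
      have h5 : Nat.card ↥Z ≤ Nat.card G := Subgroup.card_le_card_group Z
      omega
    have k1 : KConj D Q₁ T₁ :=
      ih _ (hcardlt R₁ hR₁lt (Q₁ ⊓ T₁) (le_inf hR₁Q (hRS₁.trans hST₁))) Q₁ T₁ h₁ hT₁ rfl
    have k2 : KConj D Q₂ T₂ :=
      ih _ (hcardlt R₂ hR₂lt (Q₂ ⊓ T₂) (le_inf hR₂Q (hRS₂.trans hST₂))) Q₂ T₂ h₂ hT₂ rfl
    have hT₁' := conj_mem_maxInv hq.out hT₁ hcC
    have hR₂T : R₂ ≤ T₁.map (MulAut.conj c).toMonoidHom := by
      rw [← hcS] at hRS₂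
      exact hRS₂.trans (Subgroup.map_mono hST₁)
    have k3 : KConj D (T₁.map (MulAut.conj c).toMonoidHom) T₂ :=
      ih _ (hcardlt R₂ hR₂lt _ (le_inf hR₂T (hRS₂.trans hST₂))) _ T₂ hT₁' hT₂ rfl
    have k4 : KConj D T₁ (T₁.map (MulAut.conj c).toMonoidHom) := ⟨c, hcD, rfl⟩
    exact kConj_trans k1 (kConj_trans k4 (kConj_trans k3 (kConj_symm k2)))

end Cfsg.Agent.Lib.Helper90.TTMain
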