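import Mathlib
import Cfsg.Agent.Lib.Helper42.ReeSpStmt

set_option autoImplicit false

/-! Piece S1159/TR9: the Sylow 3-subgroup `U¹` has exponent dividing 9 and contains an element
of order 9. -/

namespace Cfsg.Agent.Lib.Helper90.ReeSpTR9

open Cfsg.Agent.Lib.Helper42.ReeSpStmt

universe u v

/-- A field with `3 ^ n` elements has characteristic 3. -/
theorem charP_three {K : Type v} [Field K] [Fintype K] {n : ℕ}
    (h : Fintype.card K = 3 ^ n) : CharP K 3 := by
  obtain ⟨k, hp, hk⟩ := FiniteField.card K (ringChar K)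
  have h1 : ringChar K ∣ 3 ^ n := by
    rw [← h, hk]
    exact dvd_pow_self _ k.ne_zero
  have h2 : ringChar K = 3 :=
    (Nat.prime_dvd_prime_iff_eq hp Nat.prime_three).mp (hp.dvd_of_dvd_pow h1)
  exact h2 ▸ ringChar.charP K

/-- A nilpotent matrix over a field vanishes in the power given by its size. -/
theorem pow_card_eq_zero_of_isNilpotent {K : Type v} [Field K] {n : Type} [Fintype n]
    [DecidableEq n] (A : Matrix n n K) (hnil : IsNilpotent A) : A ^ Fintype.card n = 0 := by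
  have h2 := Matrix.isNilpotent_charpoly_sub_pow_of_isNilpotent hnil
  have h3 : A.charpoly = Polynomial.X ^ Fintype.card n := sub_eq_zero.mp h2.eq_zero
  have h5 := Matrix.aeval_self_charpoly A
  rw [h3, map_pow, Polynomial.aeval_X] at h5
  exact h5

/-- A matrix of `3`-power order in characteristic 3 of size 7 has `M ^ 9 = 1`. -/
theorem pow_nine_eq_one {K : Type v} [Field K] [CharP K 3]
    (M : Matrix (Fin 7) (Fin 7) K) (N : ℕ) (hM : M ^ 3 ^ N = 1) : M ^ 9 = 1 := by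
  have hf : Fact (Nat.Prime 3) := ⟨Nat.prime_three⟩
  have hc : CharP (Matrix (Fin 7) (Fin 7) K) 3 := inferInstance
  have h1 : (M - 1) ^ 3 ^ N = 0 := by
    rw [sub_pow_char_pow_of_commute 3 N (Commute.one_right M), hM, one_pow, sub_self]
  have hnil : IsNilpotent (M - 1) := ⟨3 ^ N, h1⟩
  have h5 := pow_card_eq_zero_of_isNilpotent (M - 1) hnil
  rw [Fintype.card_fin] at h5
  have h6 : (M - 1) ^ 3 ^ 2 = 0 := by
    have h7 : (3 : ℕ) ^ 2 = 7 + 2 := by norm_num
    rw [h7, pow_add, h5, zero_mul]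
  rw [sub_pow_char_pow_of_commute 3 2 (Commute.one_right M), one_pow, sub_eq_zero] at h6
  have h8 : (9 : ℕ) = 3 ^ 2 := by norm_num
  rw [h8]
  exact h6

theorem main : TR9.{u, v} := by
  intro Γ _ R D Up K _ _ m hraw
  have hchar : CharP K 3 := charP_three hraw.cardK
  obtain ⟨ρ, hρ⟩ := hraw.rep
  have hcardU : Nat.card ↥(Usub R Up) = (3 ^ (2 * m + 1)) ^ 3 := by
    rw [← hraw.s1101]
    exact Nat.card_congr (Subgroup.subgroupOfEquivOfLe inf_le_right).toEquiv
  have hexp : ∀ u ∈ Usub R Up, u ^ 9 = 1 := by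
    intro u hu
    have h1 : u ^ (3 ^ ((2 * m + 1) * 3)) = 1 := by
      have h2 : (⟨u, hu⟩ : ↥(Usub R Up)) ^ Nat.card ↥(Usub R Up) = 1 := pow_card_eq_one'
      rw [hcardU, ← pow_mul] at h2
      have h3 := congrArg (Subtype.val) h2
      rw [Subgroup.coe_pow] at h3
      exact h3
    have h4 : ((ρ u : GL (Fin 7) K) : Matrix (Fin 7) (Fin 7) K) ^ 3 ^ ((2 * m + 1) * 3) = 1 := by
      rw [← Units.val_pow_eq_pow_val, ← map_pow, h1, map_one, Units.val_one]
    have h5 := pow_nine_eq_one _ _ h4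
    apply hρ
    rw [map_pow, map_one]
    apply Units.ext
    rw [Units.val_pow_eq_pow_val, h5, Units.val_one]
  refine ⟨hexp, ?_⟩
  -- an element whose cube is not 1
  have hfin : Finite ↥(Up ⊓ R) := Nat.finite_of_card_ne_zero (by
    rw [hraw.s1101]
    positivity)
  have hex : ∃ w : ↥(Up ⊓ R), w ^ 3 ≠ 1 := by
    by_contra hcon
    have hall : ∀ w : ↥(Up ⊓ R), w ^ 3 = 1 := by
      intro w
      by_contra hw
      exact hcon ⟨w, hw⟩
    have h1 : Nat.card {w : ↥(Up ⊓ R) // orderOf w = 3} = Nat.card {w : ↥(Up ⊓ R) // w ≠ 1} := by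
      apply Nat.card_congr
      apply Equiv.subtypeEquivRight
      intro w
      constructor
      · intro h hw1
        rw [hw1, orderOf_one] at h
        omega
      · intro hw1
        have h2 : orderOf w ∣ 3 := orderOf_dvd_of_pow_eq_one (hall w)
        rcases (Nat.dvd_prime Nat.prime_three).mp h2 with h | h
        · exact absurd (orderOf_eq_one_iff.mp h) hw1
        · exact h
    have h2 : Nat.card {w : ↥(Up ⊓ R) // w ≠ 1} = Nat.card ↥(Up ⊓ R) - 1 := by
      have h3 : {w : ↥(Up ⊓ R) | w ≠ 1} = Set.univ \ {1} := by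
        ext w
        simp
      have h4 : Nat.card {w : ↥(Up ⊓ R) // w ≠ 1} = Set.ncard {w : ↥(Up ⊓ R) | w ≠ 1} :=
        Nat.card_coe_set_eq _
      rw [h4, h3, Set.ncard_sdiff_singleton_of_mem (Set.mem_univ _), Set.ncard_univ]
    rw [hraw.s1154, h2, hraw.s1101] at h1
    have h5 : 3 ≤ 3 ^ (2 * m + 1) := three_le_qq m
    obtain ⟨a, ha⟩ : ∃ a, 3 ^ (2 * m + 1) = a + 3 := ⟨3 ^ (2 * m + 1) - 3, by omega⟩
    rw [ha] at h1
    have h6 : 1 ≤ (a + 3) ^ 2 := Nat.one_le_pow _ _ (by omega)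
    have h7 : 1 ≤ (a + 3) ^ 3 := Nat.one_le_pow _ _ (by omega)
    have h8 : (a + 3) ^ 2 = (a + 3) ^ 3 := by omega
    nlinarith [h8]
  obtain ⟨w, hw⟩ := hex
  have hwU : (⟨w.1, w.2.2⟩ : ↥R) ∈ Usub R Up := by
    rw [Subgroup.mem_subgroupOf]
    exact w.2
  refine ⟨⟨w.1, w.2.2⟩, hwU, ?_⟩
  have h9 := hexp _ hwU
  have h3 : (⟨w.1, w.2.2⟩ : ↥R) ^ 3 ≠ 1 := by
    intro h
    apply hw
    apply Subtype.ext
    have h1 := congrArg Subtype.val h
    rw [Subgroup.coe_pow, Subgroup.coe_one] at h1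
    rw [Subgroup.coe_pow, Subgroup.coe_one]
    exact h1
  have hd : orderOf (⟨w.1, w.2.2⟩ : ↥R) ∣ 3 ^ 2 := orderOf_dvd_of_pow_eq_one (by
    rw [show (3 : ℕ) ^ 2 = 9 by norm_num]
    exact h9)
  obtain ⟨k, hk, hk2⟩ := (Nat.dvd_prime_pow Nat.prime_three).mp hd
  interval_cases k
  · exfalso
    apply h3
    rw [pow_zero] at hk2
    rw [orderOf_eq_one_iff.mp hk2, one_pow]
  · exfalso
    apply h3
    rw [pow_one] at hk2
    rw [← hk2]
    exact pow_orderOf_eq_one _
  · rw [hk2]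
    norm_num

end Cfsg.Agent.Lib.Helper90.ReeSpTR9
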