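import Mathlib
import Cfsg.Agent.Lib.Helper42.ReeSpStmt

set_option autoImplicit false

/-! Piece S1159/TRI: all involutions are conjugate, with centralizer `Z₂ × PSL₂(q)`. -/

namespace Cfsg.Agent.Lib.Helper90.ReeSpTRI

open Cfsg.Agent.Lib.Helper42.ReeSpStmt
open scoped Pointwise

universe u v

/-- Conjugation identifies the centralizers of conjugate elements. -/
theorem centralizer_conj_equiv {G : Type u} [Group G] (a x : G) :
    Nonempty (↥(Subgroup.centralizer ({x * a * x⁻¹} : Set G)) ≃*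
      ↥(Subgroup.centralizer ({a} : Set G))) := by
  refine ⟨{ toFun := fun g => ⟨x⁻¹ * g.1 * x, ?_⟩
            invFun := fun g => ⟨x * g.1 * x⁻¹, ?_⟩
            left_inv := ?_
            right_inv := ?_
            map_mul' := ?_ }⟩
  · have h := Subgroup.mem_centralizer_singleton_iff.mp g.2
    rw [Subgroup.mem_centralizer_singleton_iff]
    calc x⁻¹ * g.1 * x * a = x⁻¹ * (g.1 * (x * a * x⁻¹)) * x := by group
      _ = x⁻¹ * ((x * a * x⁻¹) * g.1) * x := by rw [h]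
      _ = a * (x⁻¹ * g.1 * x) := by group
  · have h := Subgroup.mem_centralizer_singleton_iff.mp g.2
    rw [Subgroup.mem_centralizer_singleton_iff]
    calc x * g.1 * x⁻¹ * (x * a * x⁻¹) = x * (g.1 * a) * x⁻¹ := by group
      _ = x * (a * g.1) * x⁻¹ := by rw [h]
      _ = x * a * x⁻¹ * (x * g.1 * x⁻¹) := by group
  · intro g
    apply Subtype.ext
    show x * (x⁻¹ * g.1 * x) * x⁻¹ = g.1
    group
  · intro g
    apply Subtype.ext
    show x⁻¹ * (x * g.1 * x⁻¹) * x = g.1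
    group
  · intro g h
    apply Subtype.ext
    show x⁻¹ * (g.1 * h.1) * x = x⁻¹ * g.1 * x * (x⁻¹ * h.1 * x)
    group

/-- If two distinct powers (exponents `< 7`) of an element `t` of order 7 conjugate `s` to the
same element, `t` commutes with `s`. -/
theorem commute_of_conj_eq {G : Type u} [Group G] {t s : G} (ht : orderOf t = 7)
    {i j : Fin 7} (hij : i ≠ j)
    (h : t ^ (i : ℕ) * s * (t ^ (i : ℕ))⁻¹ = t ^ (j : ℕ) * s * (t ^ (j : ℕ))⁻¹) :
    t * s = s * t := by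
  obtain ⟨c, hc⟩ : ∃ c, c = (t ^ (j : ℕ))⁻¹ * t ^ (i : ℕ) := ⟨_, rfl⟩
  have hcs : c * s = s * c := by
    rw [hc]
    calc (t ^ (j : ℕ))⁻¹ * t ^ (i : ℕ) * s
        = (t ^ (j : ℕ))⁻¹ * (t ^ (i : ℕ) * s * (t ^ (i : ℕ))⁻¹) * t ^ (i : ℕ) := by group
      _ = (t ^ (j : ℕ))⁻¹ * (t ^ (j : ℕ) * s * (t ^ (j : ℕ))⁻¹) * t ^ (i : ℕ) := by rw [h]
      _ = s * ((t ^ (j : ℕ))⁻¹ * t ^ (i : ℕ)) := by group
  have hc1 : c ≠ 1 := by
    intro h1
    rw [hc, inv_mul_eq_one] at h1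
    have h2 := pow_eq_pow_iff_modEq.mp h1
    rw [ht] at h2
    have h3 : (i : ℕ) = (j : ℕ) := by
      have h4 := i.2
      have h5 := j.2
      unfold Nat.ModEq at h2
      omega
    exact hij (Fin.ext h3)
  have hcz : c ∈ Subgroup.zpowers t := by
    rw [hc]
    exact mul_mem (inv_mem (pow_mem (Subgroup.mem_zpowers t) _))
      (pow_mem (Subgroup.mem_zpowers t) _)
  have hcard : Nat.card ↥(Subgroup.zpowers t) = 7 := by rw [Nat.card_zpowers, ht]
  have hf : Fact (Nat.card ↥(Subgroup.zpowers t)).Prime := ⟨by rw [hcard]; norm_num⟩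
  rcases Subgroup.eq_bot_or_eq_top_of_prime_card
    ((Subgroup.centralizer ({s} : Set G)).subgroupOf (Subgroup.zpowers t)) with hb | htop
  · exfalso
    have h1 : (⟨c, hcz⟩ : ↥(Subgroup.zpowers t)) ∈
        (Subgroup.centralizer ({s} : Set G)).subgroupOf (Subgroup.zpowers t) := by
      rw [Subgroup.mem_subgroupOf, Subgroup.mem_centralizer_singleton_iff]
      exact hcs
    rw [hb, Subgroup.mem_bot] at h1
    exact hc1 (congrArg Subtype.val h1)
  · rw [Subgroup.subgroupOf_eq_top] at htop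
    exact Subgroup.mem_centralizer_singleton_iff.mp (htop (Subgroup.mem_zpowers t))

/-- All involutions are conjugate, from the structure of the Sylow 2-normalizer. -/
theorem invol_conj {G : Type u} [Group G] [Finite G]
    (h8 : ∀ S : Sylow 2 G, Nat.card S = 8 ∧ ∀ x ∈ S, x * x = 1)
    (h168 : ∀ S : Sylow 2 G, Subgroup.centralizer ((S : Subgroup G) : Set G) = S ∧
      Nat.card (Subgroup.normalizer ((S : Subgroup G) : Set G)) = 168)
    (s s' : G) (hs : orderOf s = 2) (hs' : orderOf s' = 2) : ∃ x : G, x * s * x⁻¹ = s' := by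
  obtain ⟨S⟩ : Nonempty (Sylow 2 G) := inferInstance
  obtain ⟨hS8, -⟩ := h8 S
  obtain ⟨hCS, hNS⟩ := h168 S
  -- an element of order 7 of the normalizer
  have hf7 : Fact (Nat.Prime 7) := ⟨by norm_num⟩
  have h7 : 7 ∣ Nat.card ↥(Subgroup.normalizer ((S : Subgroup G) : Set G)) := by
    rw [hNS]
    norm_num
  obtain ⟨t', ht'⟩ := exists_prime_orderOf_dvd_card' 7 h7
  obtain ⟨t, htdef⟩ : ∃ t : G, t = (t' : G) := ⟨_, rfl⟩
  have ht : orderOf t = 7 := by rw [htdef, Subgroup.orderOf_coe, ht']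
  have htN : ∀ k : ℕ, ∀ y : G, y ∈ (S : Subgroup G) → t ^ k * y * (t ^ k)⁻¹ ∈ (S : Subgroup G) := by
    intro k y hy
    have h1 : t ^ k ∈ Subgroup.normalizer ((S : Subgroup G) : Set G) := by
      rw [htdef]
      exact pow_mem t'.2 k
    exact (Subgroup.mem_normalizer_iff.mp h1 y).mp hy
  -- the set of involutions of `S`
  have hY : Nat.card {y : G // y ∈ (S : Subgroup G) ∧ y ≠ 1} = 7 := by
    have h1 : {y : G | y ∈ (S : Subgroup G) ∧ y ≠ 1} = ((S : Subgroup G) : Set G) \ {1} := by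
      ext y
      exact Iff.rfl
    have h2 : Nat.card {y : G // y ∈ (S : Subgroup G) ∧ y ≠ 1}
        = Set.ncard {y : G | y ∈ (S : Subgroup G) ∧ y ≠ 1} := Nat.card_coe_set_eq _
    have h3 : Set.ncard (((S : Subgroup G) : Set G)) = 8 := by
      rw [← Nat.card_coe_set_eq]
      exact hS8
    rw [h2, h1, Set.ncard_sdiff_singleton_of_mem (one_mem _), h3]
  -- `t` commutes with no involution of `S`
  have hnc : ∀ s₁ : G, s₁ ∈ (S : Subgroup G) → s₁ ≠ 1 → t * s₁ ≠ s₁ * t := by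
    intro s₁ hs₁ hs₁1 hcomm
    have htC : t ∈ Subgroup.centralizer ((S : Subgroup G) : Set G) := by
      rw [Subgroup.mem_centralizer_iff]
      intro s₂ hs₂
      by_cases h1 : s₂ = 1
      · rw [h1, one_mul, mul_one]
      by_cases h2 : s₂ = s₁
      · rw [h2]
        exact hcomm.symm
      -- pigeonhole
      have hcard6 : Nat.card {y : G // (y ∈ (S : Subgroup G) ∧ y ≠ 1) ∧ y ≠ s₁} = 6 := by
        have h3 : {y : G | (y ∈ (S : Subgroup G) ∧ y ≠ 1) ∧ y ≠ s₁}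
            = {y : G | y ∈ (S : Subgroup G) ∧ y ≠ 1} \ {s₁} := by
          ext y
          simp
        have h4 : Nat.card {y : G // (y ∈ (S : Subgroup G) ∧ y ≠ 1) ∧ y ≠ s₁}
            = Set.ncard {y : G | (y ∈ (S : Subgroup G) ∧ y ≠ 1) ∧ y ≠ s₁} :=
          Nat.card_coe_set_eq _
        have h5 : Set.ncard {y : G | y ∈ (S : Subgroup G) ∧ y ≠ 1} = 7 := by
          rw [← Nat.card_coe_set_eq]
          exact hY
        rw [h4, h3, Set.ncard_sdiff_singleton_of_mem (show s₁ ∈ {y : G | y ∈ (S : Subgroup G) ∧ y ≠ 1}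
          from ⟨hs₁, hs₁1⟩), h5]
      have hmem : ∀ k : Fin 7, (t ^ (k : ℕ) * s₂ * (t ^ (k : ℕ))⁻¹ ∈ (S : Subgroup G) ∧
          t ^ (k : ℕ) * s₂ * (t ^ (k : ℕ))⁻¹ ≠ 1) ∧ t ^ (k : ℕ) * s₂ * (t ^ (k : ℕ))⁻¹ ≠ s₁ := by
        intro k
        refine ⟨⟨htN k s₂ hs₂, ?_⟩, ?_⟩
        · intro h3
          apply h1
          have h4 : s₂ = (t ^ (k : ℕ))⁻¹ * (t ^ (k : ℕ) * s₂ * (t ^ (k : ℕ))⁻¹) * t ^ (k : ℕ) := by
            group
          rw [h4, h3]
          group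
        · intro h3
          apply h2
          have hck : t ^ (k : ℕ) * s₁ = s₁ * t ^ (k : ℕ) :=
            (Commute.pow_left (show Commute t s₁ from hcomm) k).eq
          have h4 : s₂ = (t ^ (k : ℕ))⁻¹ * (t ^ (k : ℕ) * s₂ * (t ^ (k : ℕ))⁻¹) * t ^ (k : ℕ) := by
            group
          rw [h4, h3, mul_assoc, ← hck]
          group
      have hninj : ¬ Function.Injective (fun k : Fin 7 =>
          (⟨t ^ (k : ℕ) * s₂ * (t ^ (k : ℕ))⁻¹, hmem k⟩ :
            {y : G // (y ∈ (S : Subgroup G) ∧ y ≠ 1) ∧ y ≠ s₁})) := by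
        intro hinj
        have h3 := Nat.card_le_card_of_injective _ hinj
        rw [hcard6, Nat.card_eq_fintype_card, Fintype.card_fin] at h3
        omega
      rw [Function.not_injective_iff] at hninj
      obtain ⟨i, j, hij, hne⟩ := hninj
      have h3 := congrArg Subtype.val hij
      exact (commute_of_conj_eq ht hne h3).symm
    rw [hCS] at htC
    have h1 := Subgroup.orderOf_dvd_natCard _ htC
    rw [ht] at h1
    have h2 : Nat.card ↥(S : Subgroup G) = 8 := hS8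
    rw [h2] at h1
    omega
  -- transitivity
  have htrans : ∀ s₁ s₂ : G, s₁ ∈ (S : Subgroup G) → s₁ ≠ 1 → s₂ ∈ (S : Subgroup G) → s₂ ≠ 1 →
      ∃ k : ℕ, t ^ k * s₁ * (t ^ k)⁻¹ = s₂ := by
    intro s₁ s₂ hs₁ hs₁1 hs₂ hs₂1
    have hmem : ∀ k : Fin 7, t ^ (k : ℕ) * s₁ * (t ^ (k : ℕ))⁻¹ ∈ (S : Subgroup G) ∧
        t ^ (k : ℕ) * s₁ * (t ^ (k : ℕ))⁻¹ ≠ 1 := by
      intro k
      refine ⟨htN k s₁ hs₁, ?_⟩
      intro h3
      apply hs₁1
      have h4 : s₁ = (t ^ (k : ℕ))⁻¹ * (t ^ (k : ℕ) * s₁ * (t ^ (k : ℕ))⁻¹) * t ^ (k : ℕ) := by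
        group
      rw [h4, h3]
      group
    have hinj : Function.Injective (fun k : Fin 7 =>
        (⟨t ^ (k : ℕ) * s₁ * (t ^ (k : ℕ))⁻¹, hmem k⟩ :
          {y : G // y ∈ (S : Subgroup G) ∧ y ≠ 1})) := by
      intro i j hij
      by_contra hne
      have h3 := congrArg Subtype.val hij
      exact hnc s₁ hs₁ hs₁1 (commute_of_conj_eq ht hne h3)
    have hbij := (Nat.bijective_iff_injective_and_card _).mpr
      ⟨hinj, by rw [hY, Nat.card_eq_fintype_card, Fintype.card_fin]⟩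
    obtain ⟨k, hk⟩ := hbij.2 ⟨s₂, hs₂, hs₂1⟩
    exact ⟨(k : ℕ), congrArg Subtype.val hk⟩
  -- every involution is conjugate into `S`
  have hinto : ∀ y : G, orderOf y = 2 → ∃ g : G, g * y * g⁻¹ ∈ (S : Subgroup G) ∧
      g * y * g⁻¹ ≠ 1 := by
    intro y hy
    have hp : IsPGroup 2 ↥(Subgroup.zpowers y) :=
      IsPGroup.of_card (n := 1) (by rw [Nat.card_zpowers, hy, pow_one])
    obtain ⟨Q, hQ⟩ := hp.exists_le_sylow
    obtain ⟨g, hg⟩ := MulAction.exists_smul_eq G Q S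
    refine ⟨g, ?_, ?_⟩
    · have h1 : MulAut.conj g • y ∈ MulAut.conj g • (Q : Subgroup G) :=
        Subgroup.smul_mem_pointwise_smul y (MulAut.conj g) Q (hQ (Subgroup.mem_zpowers y))
      rw [← hg, Sylow.coe_subgroup_smul]
      simpa [MulAut.smul_def] using h1
    · intro h1
      have h2 : y = 1 := by
        have h4 : y = g⁻¹ * (g * y * g⁻¹) * g := by group
        rw [h4, h1]
        group
      rw [h2, orderOf_one] at hy
      omega
  obtain ⟨g, hg, hg1⟩ := hinto s hs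
  obtain ⟨g', hg', hg'1⟩ := hinto s' hs'
  obtain ⟨k, hk⟩ := htrans _ _ hg hg1 hg' hg'1
  refine ⟨g'⁻¹ * t ^ k * g, ?_⟩
  calc g'⁻¹ * t ^ k * g * s * (g'⁻¹ * t ^ k * g)⁻¹
      = g'⁻¹ * (t ^ k * (g * s * g⁻¹) * (t ^ k)⁻¹) * g' := by group
    _ = g'⁻¹ * (g' * s' * g'⁻¹) * g' := by rw [hk]
    _ = s' := by group

theorem main : TRi.{u, v} := by
  intro Γ _ R D Up K _ _ m hraw
  have hfin : Finite ↥R := Nat.finite_of_card_ne_zero (by
    rw [hraw.s1069]
    have h3 := three_le_qq m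
    have h1 : 0 < 3 ^ (2 * m + 1) - 1 := by
      have : 3 ≤ 3 ^ (2 * m + 1) := h3
      omega
    positivity)
  have hfinW : Finite ↥(D ⊓ R) :=
    Finite.of_injective (Subgroup.inclusion (inf_le_right : D ⊓ R ≤ R))
      (Subgroup.inclusion_injective _)
  have h2dvd : 2 ∣ Nat.card ↥(D ⊓ R) := by
    rw [hraw.s1114]
    have hodd : Odd (3 ^ (2 * m + 1)) := Odd.pow (by decide)
    obtain ⟨c, hc⟩ := hodd
    exact ⟨c, by omega⟩
  obtain ⟨w, hw⟩ := exists_prime_orderOf_dvd_card' 2 h2dvd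
  obtain ⟨a, hadef⟩ : ∃ a : ↥R, a = ⟨w.1, w.2.2⟩ := ⟨_, rfl⟩
  have haD : (a : Γ) ∈ D := by
    rw [hadef]
    exact w.2.1
  have hoa : orderOf a = 2 := by
    rw [← Subgroup.orderOf_coe, hadef]
    show orderOf (w : Γ) = 2
    rw [Subgroup.orderOf_coe, hw]
  have ha1 : a ≠ 1 := by
    intro h
    rw [h, orderOf_one] at hoa
    omega
  have haa : a * a = 1 := by
    have h := pow_orderOf_eq_one a
    rw [hoa, sq] at h
    exact h
  obtain ⟨⟨e⟩, hsyl⟩ := hraw.s1152 a haD ha1 haa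
  have hconj := invol_conj hsyl hraw.s1157
  refine ⟨?_, hconj⟩
  intro s hs
  obtain ⟨x, hx⟩ := hconj a s hoa hs
  obtain ⟨e'⟩ := centralizer_conj_equiv a x
  subst hx
  exact ⟨e'.trans e⟩

end Cfsg.Agent.Lib.Helper90.ReeSpTRI
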