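import Mathlib
import Cfsg.Prelude.Def_Local
import Cfsg.Prelude.Def_Transfer
import Cfsg.Prelude.Def_OddOrderLocal
import Cfsg.Prelude.Def_CaseTheorems
import Cfsg.Agent.Lib.Helper9.BG11b
import Cfsg.Agent.Lib.Helper9.Rank2Aut
import Cfsg.Agent.Lib.Helper22.BG1210
import Cfsg.Agent.Lib.Helper22.BG12CC
import Cfsg.Agent.Lib.Helper14.BG12PF
import Cfsg.Agent.S1417
import Cfsg.Agent.S1418
import Cfsg.Agent.Lib.Helper50.BG12BS

set_option autoImplicit false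

/-
helper90: local form of piece BS of the S1421 split (helper50's `prime_cent`): the regularity
hypothesis is needed only for the element `e` itself.  The proof is helper50's
(`Lib.Helper50.BG12BS.prime_cent_of`), copied with the hypothesis `hR` replaced by `hRe`.
Needed for the statements S1359/S1360, where only the elements of `U` are regular.
-/

namespace Cfsg.Agent.Lib.Helper90.BG12BSloc

open Cfsg.Agent.Lib.Helper50.BG12BS

set_option linter.unusedVariables false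

variable {G : Type*} [Group G]

/-- Piece BS with the regularity hypothesis only for the element `e` itself
(pieces PF and BCC as hypotheses); proof copied from `Lib.Helper50.BG12BS.prime_cent_of`. -/
theorem prime_cent_loc_of [Finite G] (hG : Cfsg.IsMinSimpleOddOrder G) (M : Subgroup G)
    (hM : IsCoatom M) (E : Subgroup G) (hE : Cfsg.IsComplIn E (Cfsg.sigmaCore M) M)
    (p : ℕ) [Fact p.Prime] (hp : p ∈ Cfsg.tau2 M)
    (hab : ∃ S : Sylow p G, IsMulCommutative (S : Subgroup G))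
    (A : Subgroup G) (hA : A ≤ E ∧ Cfsg.IsElementaryAbelian p A ∧ Nat.card A = p ^ 2)
    (hPF : ∀ (B W : Subgroup G) (e : G) (r : ℕ), r.Prime → orderOf e = r →
      (∀ a ∈ B, ∀ b ∈ B, a * b = b * a) → (∀ a ∈ W, ∀ b ∈ W, a * b = b * a) →
      B ≤ Subgroup.normalizer (W : Set G) → e ∈ Subgroup.normalizer (W : Set G) →
      e ∈ Subgroup.normalizer (B : Set G) →
      (Nat.card B).Coprime (Nat.card W) →
      (∀ b ∈ B, e * b = b * e → b = 1) → (∀ w ∈ W, e * w = w * e → w = 1) →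
      W ≠ ⊥ → ∃ w ∈ W, w ≠ 1 ∧ ∀ b ∈ B, b * w = w * b)
    (hCC : ∀ (r : ℕ) [Fact r.Prime], r ∈ Cfsg.tau2 M → p ≠ r →
      ∀ (X Y : Subgroup G), X ≤ E → Y ≤ E → IsPGroup p X → IsPGroup r Y →
      (X ≤ Subgroup.normalizer (Y : Set G) ∨ Y ≤ Subgroup.normalizer (X : Set G)) →
      ∀ x ∈ X, ∀ y ∈ Y, x * y = y * x)
    (e : G) (heE : e ∈ E) (hprime : (orderOf e).Prime)
    (hRe : (∀ q : ℕ, q.Prime → q ∣ orderOf e → q ∈ Cfsg.tau1 M ∪ Cfsg.tau3 M) →
      Cfsg.sigmaCore M ⊓ Subgroup.centralizer ({e} : Set G) = ⊥) :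
    ∀ a ∈ A, e * a = a * e := by
  classical
  by_contra hcon
  have hcon' : ∃ a ∈ A, e * a ≠ a * e := by
    by_contra h
    apply hcon
    intro a ha
    by_contra h2
    exact h ⟨a, ha, h2⟩
  obtain ⟨a₁, ha₁, hne⟩ := hcon'
  have hpp : p.Prime := Fact.out
  obtain ⟨hAE, hAel, hAc⟩ := hA
  have hEM : E ≤ M := hE.1
  have hAM : A ≤ M := hAE.trans hEM
  have hAcomm : ∀ a ∈ A, ∀ b ∈ A, a * b = b * a := fun a ha b hb =>
    congrArg Subtype.val (hAel.1.is_comm.comm ⟨a, ha⟩ ⟨b, hb⟩)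
  have hApow : ∀ a ∈ A, a ^ p = 1 := hAel.2
  have hApg : IsPGroup p A := IsPGroup.of_card hAc
  obtain ⟨hnil, -, -, hd, -, -⟩ :=
    Cfsg.Agent.S1417.result hG M hM p hp A ⟨hAM, hAel, hAc⟩
  obtain ⟨⟨hEN, hXA⟩, ⟨hCM, hMN, hNM⟩, hc⟩ :=
    Cfsg.Agent.S1418.result hG M hM E hE p hp A ⟨hAE, hAel, hAc⟩
  obtain ⟨r, hr⟩ : ∃ r : ℕ, r = orderOf e := ⟨_, rfl⟩
  have hrp' : r.Prime := hr ▸ hprime
  have : Fact r.Prime := ⟨hrp'⟩
  have heN : e ∈ Subgroup.normalizer (A : Set G) := hEN heE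
  have he1 : e ≠ 1 := by
    rintro rfl
    rw [orderOf_one] at hprime
    exact Nat.not_prime_one hprime
  have hzc : Nat.card (Subgroup.zpowers e) = r := by rw [Nat.card_zpowers, hr]
  have hzE : Subgroup.zpowers e ≤ E := by rw [Subgroup.zpowers_le]; exact heE
  -- `r ≠ p`
  have hrp : r ≠ p := by
    intro h
    have h1 := hXA (Subgroup.zpowers e) hzE (hzc.trans h) (Subgroup.mem_zpowers e)
    exact hne (hAcomm e h1 a₁ ha₁)
  -- `r ∉ τ₂(M)`
  have hr2 : r ∉ Cfsg.tau2 M := by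
    intro h
    have h1 := hCC r h (Ne.symm hrp) A (Subgroup.zpowers e) hAE hzE hApg
      (IsPGroup.of_card (n := 1) (by rw [hzc, pow_one]))
      (Or.inr (by rw [Subgroup.zpowers_le]; exact heN)) a₁ ha₁ e (Subgroup.mem_zpowers e)
    exact hne h1.symm
  -- `r ∉ σ(M)`
  have hrE : r ∣ Nat.card E := by
    rw [hr]; exact Subgroup.orderOf_dvd_natCard E heE
  have hrσ : r ∉ Cfsg.sigma M := fun h =>
    Cfsg.Agent.Lib.Helper22.BG1210.not_dvd_compl_of_sigma hG hM hE hrp' h hrE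
  have hr13 : ∀ q : ℕ, q.Prime → q ∣ orderOf e → q ∈ Cfsg.tau1 M ∪ Cfsg.tau3 M := by
    intro q hq hqd
    have hqr : q = r := by
      rw [← hr] at hqd
      exact (Nat.prime_dvd_prime_iff_eq hq hrp').mp hqd
    subst hqr
    have hU : Cfsg.Agent.Lib.Helper9.BG10a.UHyp G := fun K => Cfsg.Agent.S1403.result hG K
    have hrk2 : Cfsg.PRankLE q 2 M := by
      by_contra h
      exact hrσ (Cfsg.Agent.Lib.Helper9.BG10b.alpha_subset_sigma hG hU hM ⟨hq, h⟩)
    have hrk1 : Cfsg.PRankLE q 1 M := by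
      by_contra h
      exact hr2 ⟨hq, hrσ, hrk2, h⟩
    have hdM : q ∣ Nat.card M := hrE.trans (Subgroup.card_dvd_of_le hEM)
    by_cases hd' : q ∣ Nat.card ↥⁅M, M⁆
    · exact Or.inr ⟨hq, hrσ, hd', hrk1⟩
    · exact Or.inl ⟨hq, hrσ, hdM, hd', hrk1⟩
  have hCe := hRe hr13
  -- the centre `W` of `M_σ`
  obtain ⟨S, hS⟩ : ∃ S : Subgroup G, S = Cfsg.sigmaCore M := ⟨_, rfl⟩
  rw [← hS] at hnil hd hCe
  obtain ⟨W, hWdef⟩ : ∃ W : Subgroup G, W = S ⊓ Subgroup.centralizer (S : Set G) := ⟨_, rfl⟩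
  have hWS : W ≤ S := by rw [hWdef]; exact inf_le_left
  have hWc : ∀ a ∈ W, ∀ b ∈ W, a * b = b * a := by
    intro a ha b hb
    rw [hWdef] at ha hb
    exact Subgroup.mem_centralizer_iff.mp (Subgroup.mem_inf.mp hb).2 a (Subgroup.mem_inf.mp ha).1
  have hW1 : W ≠ ⊥ := by
    have : Nontrivial ↥S := (Subgroup.nontrivial_iff_ne_bot S).mpr (by
      rw [hS]; exact Cfsg.Agent.Lib.Helper9.BG11b.sigmaCore_ne_bot hG hM)
    have := hnil
    have h1 := Group.IsNilpotent.center_ne_bot (↥S)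
    obtain ⟨z, hz1⟩ := Subgroup.ne_bot_iff_exists_ne_one.mp h1
    intro hbot
    have hzW : ((z : ↥S) : G) ∈ W := by
      rw [hWdef]
      refine Subgroup.mem_inf.mpr ⟨(z : ↥S).2, ?_⟩
      refine Subgroup.mem_centralizer_iff.mpr ?_
      intro s hs
      exact congrArg Subtype.val (Subgroup.mem_center_iff.mp z.2 ⟨s, hs⟩)
    rw [hbot, Subgroup.mem_bot] at hzW
    apply hz1
    apply Subtype.ext
    apply Subtype.ext
    exact hzW
  have hMW : M ≤ Subgroup.normalizer (W : Set G) := by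
    apply le_normalizer_of_conj_mem
    intro m hm x hx
    rw [hWdef] at hx ⊢
    have hx := Subgroup.mem_inf.mp hx
    refine Subgroup.mem_inf.mpr ⟨?_, ?_⟩
    · rw [hS]
      exact Cfsg.Agent.Lib.Helper22.BG1210.conj_mem_sigmaCore hm (hS ▸ hx.1)
    · refine Subgroup.mem_centralizer_iff.mpr ?_
      intro s hs
      have h1 : m⁻¹ * s * m⁻¹⁻¹ ∈ S := by
        rw [hS]
        exact Cfsg.Agent.Lib.Helper22.BG1210.conj_mem_sigmaCore (M.inv_mem hm) (hS ▸ hs)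
      have h2 : (m⁻¹ * s * m⁻¹⁻¹) * x = x * (m⁻¹ * s * m⁻¹⁻¹) :=
        Subgroup.mem_centralizer_iff.mp hx.2 _ h1
      calc s * (m * x * m⁻¹) = m * ((m⁻¹ * s * m⁻¹⁻¹) * x) * m⁻¹ := by group
        _ = m * (x * (m⁻¹ * s * m⁻¹⁻¹)) * m⁻¹ := by rw [h2]
        _ = m * x * m⁻¹ * s := by group
  have hcopE : (Nat.card E).Coprime (Nat.card S) := by
    rw [hS]; exact Cfsg.Agent.Lib.Helper22.BG1210.coprime_compl hG hM hE
  have hcopA : (Nat.card A).Coprime (Nat.card W) :=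
    Nat.Coprime.coprime_dvd_left (Subgroup.card_dvd_of_le hAE)
      (Nat.Coprime.coprime_dvd_right (Subgroup.card_dvd_of_le hWS) hcopE)
  have hWe : ∀ w ∈ W, e * w = w * e → w = 1 := by
    intro w hw hew
    have h1 : w ∈ S ⊓ Subgroup.centralizer ({e} : Set G) := by
      refine Subgroup.mem_inf.mpr ⟨hWS hw, ?_⟩
      refine Subgroup.mem_centralizer_iff.mpr ?_
      intro h hh
      rw [Set.mem_singleton_iff.mp hh]
      exact hew
    rw [hCe] at h1
    exact Subgroup.mem_bot.mp h1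
  have heW : e ∈ Subgroup.normalizer (W : Set G) := hMW (hEM heE)
  -- `C_A(e) ≠ 1`
  have hfix : ∃ b ∈ A, b ≠ 1 ∧ e * b = b * e := by
    by_contra hno
    obtain ⟨w, hw, hw1, hwA⟩ := hPF A W e r hrp' hr.symm hAcomm hWc (hAM.trans hMW) heW heN hcopA
      (fun b hb hbe => by
        by_contra h
        exact hno ⟨b, hb, h, hbe⟩) hWe hW1
    have h1 : w ∈ S ⊓ Subgroup.centralizer (A : Set G) :=
      Subgroup.mem_inf.mpr ⟨hWS hw, Subgroup.mem_centralizer_iff.mpr (fun b hb => hwA b hb)⟩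
    rw [hd] at h1
    exact hw1 (Subgroup.mem_bot.mp h1)
  -- the commutator map `κ` of `e` on `A`
  have hconj : ∀ a ∈ A, e * a * e⁻¹ ∈ A := fun a ha =>
    (Subgroup.mem_normalizer_iff.mp heN a).mp ha
  let κ : ↥A →* ↥A :=
    { toFun := fun a => ⟨(a : G)⁻¹ * (e * a * e⁻¹), A.mul_mem (A.inv_mem a.2) (hconj a a.2)⟩
      map_one' := by
        apply Subtype.ext
        show ((1 : ↥A) : G)⁻¹ * (e * ((1 : ↥A) : G) * e⁻¹) = 1
        rw [Subgroup.coe_one]; group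
      map_mul' := fun a b => by
        apply Subtype.ext
        show ((a * b : ↥A) : G)⁻¹ * (e * ((a * b : ↥A) : G) * e⁻¹)
          = ((a : G)⁻¹ * (e * a * e⁻¹)) * ((b : G)⁻¹ * (e * b * e⁻¹))
        rw [Subgroup.coe_mul]
        have h1 := hAcomm (b : G)⁻¹ (A.inv_mem b.2) ((a : G)⁻¹ * (e * a * e⁻¹))
          (A.mul_mem (A.inv_mem a.2) (hconj a a.2))
        calc ((a : G) * b)⁻¹ * (e * ((a : G) * b) * e⁻¹)
            = ((b : G)⁻¹ * ((a : G)⁻¹ * (e * a * e⁻¹))) * (e * b * e⁻¹) := by group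
          _ = (((a : G)⁻¹ * (e * a * e⁻¹)) * (b : G)⁻¹) * (e * b * e⁻¹) := by rw [h1]
          _ = ((a : G)⁻¹ * (e * a * e⁻¹)) * ((b : G)⁻¹ * (e * b * e⁻¹)) := by group }
  have hκ : ∀ a : ↥A, ((κ a : ↥A) : G) = (a : G)⁻¹ * (e * a * e⁻¹) := fun a => rfl
  have hker1 : κ.ker ≠ ⊥ := by
    obtain ⟨b, hb, hb1, hbe⟩ := hfix
    intro h
    have h1 : (⟨b, hb⟩ : ↥A) ∈ κ.ker := by
      rw [MonoidHom.mem_ker]
      apply Subtype.ext
      rw [hκ]
      show b⁻¹ * (e * b * e⁻¹) = 1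
      rw [hbe]; group
    rw [h, Subgroup.mem_bot] at h1
    exact hb1 (congrArg Subtype.val h1)
  have hker2 : κ.ker ≠ ⊤ := by
    intro h
    have h1 : (⟨a₁, ha₁⟩ : ↥A) ∈ κ.ker := by rw [h]; trivial
    rw [MonoidHom.mem_ker] at h1
    have h2 : a₁⁻¹ * (e * a₁ * e⁻¹) = 1 := by
      have h3 := congrArg Subtype.val h1
      rw [hκ] at h3
      exact h3
    apply hne
    have h3 : e * a₁ * e⁻¹ = a₁ := (inv_mul_eq_one.mp h2).symm
    calc e * a₁ = (e * a₁ * e⁻¹) * e := by group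
      _ = a₁ * e := by rw [h3]
  have hkc : Nat.card κ.ker = p := by
    have hdvd : Nat.card κ.ker ∣ p ^ 2 := by
      rw [← hAc]; exact Subgroup.card_subgroup_dvd_card _
    obtain ⟨i, hi, hki⟩ := (Nat.dvd_prime_pow hpp).mp hdvd
    interval_cases i
    · exfalso
      apply hker1
      rw [pow_zero] at hki
      exact Subgroup.card_eq_one.mp hki
    · simpa using hki
    · exfalso
      apply hker2
      exact Subgroup.eq_top_of_card_eq _ (by rw [hki, hAc])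
  have hrc : Nat.card κ.range = p := by
    have h1 := Subgroup.card_mul_index κ.ker
    rw [Subgroup.index_ker, hkc, hAc] at h1
    have h2 : p * Nat.card κ.range = p * p := by rw [h1]; ring
    exact Nat.eq_of_mul_eq_mul_left hpp.pos h2
  obtain ⟨X1, hX1def⟩ : ∃ X1 : Subgroup G, X1 = κ.range.map A.subtype := ⟨_, rfl⟩
  have hX1c : Nat.card X1 = p := by
    rw [hX1def, Subgroup.card_map_of_injective A.subtype_injective]; exact hrc
  have hX1A : X1 ≤ A := by rw [hX1def]; exact Subgroup.map_subtype_le _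
  have hX1mem : ∀ x ∈ X1, ∃ a ∈ A, x = a⁻¹ * (e * a * e⁻¹) := by
    intro x hx
    rw [hX1def] at hx
    obtain ⟨_, ⟨a, rfl⟩, rfl⟩ := hx
    exact ⟨a, a.2, rfl⟩
  have hmemX1 : ∀ a ∈ A, a⁻¹ * (e * a * e⁻¹) ∈ X1 := by
    intro a ha
    rw [hX1def]
    exact ⟨κ ⟨a, ha⟩, ⟨⟨a, ha⟩, rfl⟩, rfl⟩
  have heX1 : e ∈ Subgroup.normalizer (X1 : Set G) := by
    apply mem_normalizer_of_conj_mem
    intro x hx
    obtain ⟨a, ha, rfl⟩ := hX1mem x hx
    have h1 := hmemX1 (e * a * e⁻¹) (hconj a ha)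
    have h2 : e * (a⁻¹ * (e * a * e⁻¹)) * e⁻¹
        = (e * a * e⁻¹)⁻¹ * (e * (e * a * e⁻¹) * e⁻¹) := by group
    rw [h2]; exact h1
  have hX1e : ∀ b ∈ X1, e * b = b * e → b = 1 := by
    intro x hx hxe
    obtain ⟨a, ha, hxa⟩ := hX1mem x hx
    have hea : e * a * e⁻¹ = a * x := by rw [hxa]; group
    have hex : e * x * e⁻¹ = x := by rw [hxe]; group
    have hpow : ∀ n : ℕ, e ^ n * a * (e ^ n)⁻¹ = a * x ^ n := by
      intro n
      induction n with
      | zero => simp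
      | succ n ih =>
        calc e ^ (n + 1) * a * (e ^ (n + 1))⁻¹ = e * (e ^ n * a * (e ^ n)⁻¹) * e⁻¹ := by
              rw [pow_succ']; group
          _ = e * (a * x ^ n) * e⁻¹ := by rw [ih]
          _ = (e * a * e⁻¹) * (e * x * e⁻¹) ^ n := by rw [conj_pow]; group
          _ = a * x ^ (n + 1) := by rw [hea, hex, pow_succ', mul_assoc]
    have h1 := hpow r
    rw [hr, pow_orderOf_eq_one] at h1
    have h2 : x ^ orderOf e = 1 := by simpa using h1.symm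
    have hxp : x ^ p = 1 := hApow x (hX1A hx)
    have h3 : orderOf x ∣ Nat.gcd r p :=
      Nat.dvd_gcd (hr ▸ orderOf_dvd_of_pow_eq_one h2) (orderOf_dvd_of_pow_eq_one hxp)
    have h4 : Nat.gcd r p = 1 := (Nat.coprime_primes hrp' hpp).mpr hrp
    rw [h4] at h3
    exact orderOf_eq_one_iff.mp (Nat.dvd_one.mp h3)
  have hcopX : (Nat.card X1).Coprime (Nat.card W) :=
    Nat.Coprime.coprime_dvd_left (Subgroup.card_dvd_of_le hX1A) hcopA
  obtain ⟨w, hw, hw1, hwX⟩ := hPF X1 W e r hrp' hr.symm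
    (fun a ha b hb => hAcomm a (hX1A ha) b (hX1A hb)) hWc ((hX1A.trans hAM).trans hMW) heW heX1
    hcopX hX1e hWe hW1
  have hSX : S ⊓ Subgroup.centralizer (X1 : Set G) ≠ ⊥ := by
    intro h
    have h1 : w ∈ S ⊓ Subgroup.centralizer (X1 : Set G) :=
      Subgroup.mem_inf.mpr ⟨hWS hw, Subgroup.mem_centralizer_iff.mpr (fun b hb => hwX b hb)⟩
    rw [h] at h1
    exact hw1 (Subgroup.mem_bot.mp h1)
  rw [hS] at hSX
  obtain ⟨hCX, huniq⟩ := hc X1 hX1A hX1c hSX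
  have hX1bot : X1 ≠ ⊥ := by
    intro h
    rw [h, Subgroup.card_bot] at hX1c
    exact hpp.one_lt.ne hX1c
  have hX1top : X1 ≠ ⊤ := by
    intro h
    apply hM.1
    rw [eq_top_iff, ← h]
    exact hX1A.trans hAM
  have hNX1 : Subgroup.normalizer (X1 : Set G) ≤ M := by
    obtain ⟨L, hL, hNL⟩ := Cfsg.Agent.Lib.Helper9.BG11b.exists_coatom_ge
      (Cfsg.Agent.Lib.Helper9.BG11b.normalizer_ne_top hG hX1bot hX1top)
    have h1 := huniq L hL ((Subgroup.centralizer_le_normalizer _).trans hNL)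
    rw [← h1]; exact hNL
  -- `N_G(A)` normalizes `X1`
  have hp2 : p ≠ 2 := by
    rintro rfl
    have h1 : 2 ∣ Nat.card A := by rw [hAc]; exact dvd_pow_self 2 (by norm_num)
    have h2 : 2 ∣ Nat.card G := h1.trans (Subgroup.card_subgroup_dvd_card A)
    exact (Nat.not_even_iff_odd.mpr hG.1) (even_iff_two_dvd.mpr h2)
  have hAbot : A ≠ ⊥ := fun h => hX1bot (le_bot_iff.mp (h ▸ hX1A))
  have hAtop : A ≠ ⊤ := by
    intro h
    apply hM.1
    rw [eq_top_iff, ← h]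
    exact hAM
  obtain ⟨N, hNdef⟩ : ∃ N : Subgroup G, N = Subgroup.normalizer (A : Set G) := ⟨_, rfl⟩
  have hNtop : N ≠ ⊤ := by
    rw [hNdef]; exact Cfsg.Agent.Lib.Helper9.BG11b.normalizer_ne_top hG hAbot hAtop
  have hNsol : Group.IsSolvable ↥N := Cfsg.Agent.Lib.Helper9.BG10a.isSolvable_of_ne_top hG hNtop
  have hNodd : Odd (Nat.card ↥N) := hG.1.of_dvd_nat (Subgroup.card_subgroup_dvd_card N)
  have hArk : Cfsg.PRankLE p 2 ↥A := by
    intro B _ _
    calc Nat.card ↥B ≤ Nat.card ↥A := Subgroup.card_le_card_group B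
      _ = p ^ 2 := hAc
  have hcd := Cfsg.Agent.Lib.Helper9.Rank2Aut.conj_derived p hp2 A N hApg hArk
    (by rw [hNdef]) hNsol hNodd
  have hder : ∀ g ∈ N, g * e * g⁻¹ * e⁻¹ ∈ Subgroup.centralizer (A : Set G) := by
    intro g hg
    have heN' : e ∈ N := by rw [hNdef]; exact heN
    have hcN' : g * e * g⁻¹ * e⁻¹ ∈ ⁅N, N⁆ := by
      have h1 := Subgroup.commutator_mem_commutator hg heN'
      rwa [commutatorElement_def] at h1
    have hcN : g * e * g⁻¹ * e⁻¹ ∈ N :=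
      N.mul_mem (N.mul_mem (N.mul_mem hg heN') (N.inv_mem hg)) (N.inv_mem heN')
    apply mem_of_parts (p := p)
    · intro y hy hyc
      obtain ⟨j, rfl⟩ := Subgroup.mem_zpowers_iff.mp hy
      exact hcd _ (Subgroup.zpow_mem _ hcN' j) hyc
    · intro z hz hzp
      obtain ⟨j, rfl⟩ := Subgroup.mem_zpowers_iff.mp hz
      have hzN : (g * e * g⁻¹ * e⁻¹) ^ j ∈ Subgroup.normalizer (A : Set G) := by
        rw [← hNdef]; exact N.zpow_mem hcN j
      exact pElt_centralizes hab hApg hzN hzp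
  apply hNM
  refine le_trans ?_ hNX1
  intro g hg
  apply mem_normalizer_of_conj_mem
  intro x hx
  obtain ⟨a, ha, rfl⟩ := hX1mem x hx
  have ha' : g * a * g⁻¹ ∈ A := (Subgroup.mem_normalizer_iff.mp hg a).mp ha
  have hcC := hder g (by rw [hNdef]; exact hg)
  have h1 := Subgroup.mem_centralizer_iff.mp hcC (e * (g * a * g⁻¹) * e⁻¹) (hconj _ ha')
  have h2 : g * (a⁻¹ * (e * a * e⁻¹)) * g⁻¹
      = (g * a * g⁻¹)⁻¹ * ((g * e * g⁻¹ * e⁻¹) * (e * (g * a * g⁻¹) * e⁻¹)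
        * (g * e * g⁻¹ * e⁻¹)⁻¹) := by group
  rw [h2, ← h1]
  have h3 : (g * a * g⁻¹)⁻¹ * (e * (g * a * g⁻¹) * e⁻¹ * (g * e * g⁻¹ * e⁻¹)
      * (g * e * g⁻¹ * e⁻¹)⁻¹) = (g * a * g⁻¹)⁻¹ * (e * (g * a * g⁻¹) * e⁻¹) := by group
  rw [h3]
  exact hmemX1 _ ha'

/-- Local form of piece BS: an element `e` of prime order of a complement `E` which is regular
on `M_σ` in case its order lies in `τ₁(M) ∪ τ₃(M)` centralizes `A`. -/
theorem prime_cent_loc [Finite G] (hG : Cfsg.IsMinSimpleOddOrder G)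
    (M : Subgroup G) (hM : IsCoatom M)
    (E : Subgroup G) (hE : Cfsg.IsComplIn E (Cfsg.sigmaCore M) M)
    (p : ℕ) [Fact p.Prime] (hp : p ∈ Cfsg.tau2 M)
    (hab : ∃ S : Sylow p G, IsMulCommutative (S : Subgroup G))
    (A : Subgroup G) (hA : A ≤ E ∧ Cfsg.IsElementaryAbelian p A ∧ Nat.card A = p ^ 2)
    (e : G) (heE : e ∈ E) (hprime : (orderOf e).Prime)
    (hRe : (∀ q : ℕ, q.Prime → q ∣ orderOf e → q ∈ Cfsg.tau1 M ∪ Cfsg.tau3 M) →
      Cfsg.sigmaCore M ⊓ Subgroup.centralizer ({e} : Set G) = ⊥) :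
    ∀ a ∈ A, e * a = a * e :=
  prime_cent_loc_of hG M hM E hE p hp hab A hA
    (fun B W e _ hr he hBc hWc hBW heW heB hcop hBe hWe hW =>
      Cfsg.Agent.Lib.Helper14.BG12PF.frob_fix B W e hr he hBc hWc hBW heW heB hcop hBe hWe hW)
    (fun r _ hr hpr X Y hX hY hXp hYr hn =>
      Cfsg.Agent.Lib.Helper22.BG12CC.cc hG M hM E hE p r hp hr hpr hab X Y hX hY hXp hYr hn)
    e heE hprime hRe

end Cfsg.Agent.Lib.Helper90.BG12BSloc
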