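import Mathlib

set_option autoImplicit false

namespace Cfsg.Agent.Lib.Helper90.Invert

/-- An involution normalizing a finite subgroup `K` and having no non-trivial fixed point on it
inverts every element of `K`. -/
theorem inverts_of_fixed_point_free {G : Type*} [Group G] (K : Subgroup G) [Finite K] (t : G)
    (ht : t * t = 1) (hn : ∀ k ∈ K, t * k * t⁻¹ ∈ K) (hf : ∀ k ∈ K, t * k = k * t → k = 1) :
    ∀ k ∈ K, t * k * t⁻¹ = k⁻¹ := by
  have htinv : t⁻¹ = t := inv_eq_of_mul_eq_one_left ht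
  let f : K → K := fun k => ⟨(k : G)⁻¹ * (t * k * t⁻¹), K.mul_mem (K.inv_mem k.2) (hn k k.2)⟩
  have hinj : Function.Injective f := by
    intro k l hkl
    have h1 : (k : G)⁻¹ * (t * k * t⁻¹) = (l : G)⁻¹ * (t * l * t⁻¹) := congrArg Subtype.val hkl
    have h2 : (l : G) * (k : G)⁻¹ ∈ K := K.mul_mem l.2 (K.inv_mem k.2)
    have h3 : t * ((l : G) * (k : G)⁻¹) = ((l : G) * (k : G)⁻¹) * t := by
      have h4 : (k : G)⁻¹ * t * k = (l : G)⁻¹ * t * l := by
        have := congrArg (fun x => x * t) h1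
        simpa [mul_assoc] using this
      have h5 : t * l = l * ((k : G)⁻¹ * t * k) := by rw [h4]; simp [mul_assoc]
      calc t * ((l : G) * (k : G)⁻¹) = (t * l) * (k : G)⁻¹ := by rw [mul_assoc]
        _ = l * ((k : G)⁻¹ * t * k) * (k : G)⁻¹ := by rw [h5]
        _ = ((l : G) * (k : G)⁻¹) * t := by simp [mul_assoc]
    have h6 := hf _ h2 h3
    have h7 : (l : G) = k := by
      have := congrArg (fun x => x * (k : G)) h6
      simpa using this
    exact Subtype.ext h7.symm
  have hsurj : Function.Surjective f := Finite.injective_iff_surjective.mp hinj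
  intro k hk
  obtain ⟨m, hm⟩ := hsurj ⟨k, hk⟩
  have h1 : (m : G)⁻¹ * (t * m * t⁻¹) = k := congrArg Subtype.val hm
  rw [← h1, htinv]
  have e1 : t * ((m : G)⁻¹ * (t * ↑m * t)) * t = t * (m : G)⁻¹ * t * m * (t * t) := by
    simp [mul_assoc]
  rw [e1, ht, mul_one]
  have e2 : ((m : G)⁻¹ * (t * ↑m * t))⁻¹ = t⁻¹ * (m : G)⁻¹ * t⁻¹ * m := by
    simp [mul_assoc]
  rw [e2, htinv]

end Cfsg.Agent.Lib.Helper90.Invert
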