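import Mathlib
import Cfsg.Agent.Lib.Helper12.AOStmt
import Cfsg.Agent.Lib.Helper5.SL2Card

/-!
S4068 piece CARD (helper90, second seat): `|PSL₂(F)| = 2^f (2^f - 1)(2^f + 1)` for `|F| = 2^f`.
-/

set_option autoImplicit false

namespace Cfsg.Agent.Lib.Helper90.AOCARD

open Cfsg.Agent.Lib.Helper12

theorem main : AOStmt.CardPSL := by
  intro F _ _ f hf hF
  have h := Cfsg.Agent.Lib.Helper5.SL2Card.card_PSL_two hF
  have hpos : 1 ≤ 2 ^ f := Nat.one_le_two_pow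
  have hodd : Nat.gcd 2 (2 ^ f - 1) = 1 := by
    have h2 : ¬ 2 ∣ 2 ^ f - 1 := by
      intro hd
      have h3 : 2 ∣ 2 ^ f := dvd_pow_self 2 (by omega)
      omega
    exact (Nat.Prime.coprime_iff_not_dvd Nat.prime_two).mpr h2
  rw [hodd, mul_one] at h
  rw [h]
  have hsq : (2 ^ f) ^ 2 - 1 = (2 ^ f - 1) * (2 ^ f + 1) := by
    obtain ⟨m, hm⟩ : ∃ m, 2 ^ f = m + 1 := ⟨2 ^ f - 1, by omega⟩
    rw [hm]
    simp only [Nat.add_sub_cancel]
    have : (m + 1) ^ 2 = m * (m + 1 + 1) + 1 := by ring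
    omega
  rw [hsq, mul_assoc]

end Cfsg.Agent.Lib.Helper90.AOCARD
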