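import Mathlib
import Cfsg.Agent.Lib.Helper12.AOStmt

/-!
S4068 piece ORB1 (helper90, second seat): the number of `MulAut G`-orbits on `G` is at least
the number of prime divisors of `|G|` plus one.
-/

set_option autoImplicit false

universe u

namespace Cfsg.Agent.Lib.Helper90.AOORB1

open Cfsg.Agent.Lib.Helper12

theorem orderOf_const {G : Type u} [Group G] (a b : G)
    (hab : (MulAction.orbitRel (MulAut G) G) a b) : orderOf a = orderOf b := by
  obtain ⟨φ, rfl⟩ := hab
  exact MulEquiv.orderOf_eq φ b

/-- The order function on the orbit space. -/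
noncomputable def ord (G : Type u) [Group G] : MulAction.orbitRel.Quotient (MulAut G) G → ℕ :=
  Quotient.lift orderOf orderOf_const

theorem ord_mk {G : Type u} [Group G] (x : G) :
    ord G (Quotient.mk (MulAction.orbitRel (MulAut G) G) x) = orderOf x := rfl

theorem exists_ord {G : Type u} [Group G] [Finite G] :
    ∀ n ∈ (insert 1 (Nat.card G).primeFactors : Finset ℕ), ∃ q, ord G q = n := by
  intro n hn
  rw [Finset.mem_insert] at hn
  rcases hn with rfl | hn
  · exact ⟨Quotient.mk _ 1, by rw [ord_mk, orderOf_one]⟩
  · have hp := Nat.prime_of_mem_primeFactors hn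
    have hd := Nat.dvd_of_mem_primeFactors hn
    have : Fact n.Prime := ⟨hp⟩
    obtain ⟨x, hx⟩ := exists_prime_orderOf_dvd_card' n hd
    exact ⟨Quotient.mk _ x, by rw [ord_mk, hx]⟩

theorem card_insert {G : Type u} [Group G] [Finite G] :
    Nat.card ↥(insert 1 (Nat.card G).primeFactors : Finset ℕ) =
      (Nat.card G).primeFactors.card + 1 := by
  rw [Nat.card_eq_fintype_card, Fintype.card_coe, Finset.card_insert_of_notMem]
  intro h
  exact Nat.not_prime_one (Nat.prime_of_mem_primeFactors h)

theorem exists_inj {G : Type u} [Group G] [Finite G] :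
    ∃ f : ↥(insert 1 (Nat.card G).primeFactors : Finset ℕ) →
        MulAction.orbitRel.Quotient (MulAut G) G,
      Function.Injective f ∧ ∀ n, ord G (f n) = n.1 := by
  choose f hf using exists_ord (G := G)
  refine ⟨fun n => f n.1 n.2, ?_, fun n => hf n.1 n.2⟩
  intro a b hab
  apply Subtype.ext
  have h := congrArg (ord G) hab
  simpa [hf] using h

theorem main : AOStmt.Orb1.{u} := by
  intro G _ _
  obtain ⟨f, hinj, -⟩ := exists_inj (G := G)
  have h1 := Nat.card_le_card_of_injective f hinj
  rw [card_insert] at h1
  exact h1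

end Cfsg.Agent.Lib.Helper90.AOORB1
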