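import Mathlib
import Cfsg.Prelude.Def_Solvable
import Cfsg.Prelude.Def_Transfer

set_option autoImplicit false

namespace Cfsg.Agent.Lib.Helper90.Basic

/-- The `p`-core lies in every Sylow `p`-subgroup. -/
theorem pCore_le_sylow {G : Type*} [Group G] (p : ℕ) (P : Sylow p G) :
    Cfsg.pCore p G ≤ (P : Subgroup G) := by
  apply sSup_le
  rintro N ⟨hN, hNp⟩
  haveI := hN
  exact hNp.le_sylow_of_normal P

/-- The `p`-core is a `p`-group. -/
theorem pCore_isPGroup {G : Type*} [Group G] (p : ℕ) : IsPGroup p (Cfsg.pCore p G) := by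
  obtain ⟨P⟩ := (inferInstance : Nonempty (Sylow p G))
  exact P.isPGroup'.to_le (pCore_le_sylow p P)

/-- The `p`-core is normal. -/
theorem pCore_normal {G : Type*} [Group G] (p : ℕ) : (Cfsg.pCore p G).Normal :=
  Subgroup.sSup_normal _ (fun _ h => h.1)

/-- A normal `p`-subgroup lies in the `p`-core. -/
theorem le_pCore {G : Type*} [Group G] (p : ℕ) (N : Subgroup G) (hN : N.Normal)
    (hp : IsPGroup p N) : N ≤ Cfsg.pCore p G :=
  le_sSup ⟨hN, hp⟩

/-- An element of a subgroup of odd order whose order is a power of two is trivial. -/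
theorem eq_one_of_mem_odd_of_pow_two {G : Type*} [Group G] (K : Subgroup G)
    (hK : Odd (Nat.card K)) (x : G) (hxK : x ∈ K) (k : ℕ) (hx : x ^ 2 ^ k = 1) : x = 1 := by
  have h1 : orderOf x ∣ 2 ^ k := orderOf_dvd_of_pow_eq_one hx
  have h2 : orderOf x ∣ Nat.card K := by
    have := orderOf_dvd_natCard (⟨x, hxK⟩ : K)
    rwa [Subgroup.orderOf_mk] at this
  have h3 : Nat.Coprime (2 ^ k) (Nat.card K) :=
    Nat.Coprime.pow_left k (Nat.coprime_two_left.mpr hK)
  have h4 : orderOf x = 1 := Nat.eq_one_of_dvd_coprimes h3 h1 h2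
  exact orderOf_eq_one_iff.mp h4

/-- An element lying in a subgroup of odd order and in a 2-subgroup is trivial. -/
theorem eq_one_of_mem_odd_of_mem_two {G : Type*} [Group G] (K P : Subgroup G)
    (hK : Odd (Nat.card K)) (hP : IsPGroup 2 P) (x : G) (hxK : x ∈ K) (hxP : x ∈ P) : x = 1 := by
  obtain ⟨k, hk⟩ := hP ⟨x, hxP⟩
  have hx : x ^ 2 ^ k = 1 := by
    have := congrArg (Subtype.val) hk
    simpa using this
  exact eq_one_of_mem_odd_of_pow_two K hK x hxK k hx

/-- Membership in a conjugate subgroup. -/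
theorem mem_map_conj_iff {G : Type*} [Group G] (H : Subgroup G) (g x : G) :
    x ∈ H.map (MulAut.conj g).toMonoidHom ↔ g⁻¹ * x * g ∈ H := by
  rw [Subgroup.mem_map]
  constructor
  · rintro ⟨y, hy, rfl⟩
    simpa [MulAut.conj_apply, mul_assoc] using hy
  · intro h
    refine ⟨g⁻¹ * x * g, h, ?_⟩
    simp [MulAut.conj_apply, mul_assoc]

/-- An extraspecial group (for the prime `p`) is a `p`-group. -/
theorem isPGroup_of_isExtraspecial {p : ℕ} {P : Type*} [Group P] (h : Cfsg.IsExtraspecial p P) :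
    IsPGroup p P := h.1.1

/-- A subgroup that is a `p`-group as a type is a `p`-group as a subgroup; in particular elements
have `p`-power order in the ambient group. -/
theorem pow_eq_one_of_isPGroup {G : Type*} [Group G] {p : ℕ} (Q : Subgroup G) (hQ : IsPGroup p Q)
    (x : G) (hx : x ∈ Q) : ∃ k : ℕ, x ^ p ^ k = 1 := by
  obtain ⟨k, hk⟩ := hQ ⟨x, hx⟩
  refine ⟨k, ?_⟩
  have := congrArg (Subtype.val) hk
  simpa using this

end Cfsg.Agent.Lib.Helper90.Basic
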