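import Mathlib
import Cfsg.Prelude.Def_Solvable
import Cfsg.Prelude.Def_Transfer
import Cfsg.Agent.Lib.Helper90.Basic
import Cfsg.Agent.Lib.Helper90.Extraspecial
import Cfsg.Agent.Lib.Helper90.Count

set_option autoImplicit false

namespace Cfsg.Agent.Lib.Helper90.ESData

variable {G : Type*} [Group G]

/-- Elementary data of an extraspecial 2-subgroup `Q` with central involution `z`, which is
self-centralizing and normal in the centralizer of `z`. -/
structure ESD (Q : Subgroup G) (z : G) : Prop where
  zQ : z ∈ Q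
  z1 : z ≠ 1
  zz : z * z = 1
  zc : ∀ q ∈ Q, q * z = z * q
  comm : ∀ x ∈ Q, ∀ y ∈ Q, x * y * x⁻¹ * y⁻¹ = 1 ∨ x * y * x⁻¹ * y⁻¹ = z
  sq : ∀ x ∈ Q, x * x = 1 ∨ x * x = z
  cent : ∀ c : G, (∀ q ∈ Q, c * q = q * c) → c = 1 ∨ c = z
  norm : ∀ n : G, n * z = z * n → ∀ q ∈ Q, n * q * n⁻¹ ∈ Q

/-- The data derived from the hypotheses used in the statements on large extraspecial
subgroups. -/
theorem exists_esd [Finite G] (Q : Subgroup G) (hL1 : Cfsg.IsExtraspecial 2 ↥Q)
    (hL2 : Subgroup.centralizer (Q : Set G) = ((Subgroup.center ↥Q).map Q.subtype))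
    (hL3 : Subgroup.centralizer (((Subgroup.center ↥Q).map Q.subtype) : Set G) ≤
      Subgroup.normalizer (Q : Set G)) :
    ∃ z : G, ESD Q z ∧ z ∈ (Subgroup.center ↥Q).map Q.subtype ∧
      ∀ y ∈ (Subgroup.center ↥Q).map Q.subtype, y = 1 ∨ y = z := by
  obtain ⟨z, hzZ, hz1, hzQ, hzz, hzc, hZ⟩ := Extraspecial.exists_center_gen hL1
  refine ⟨z, ⟨hzQ, hz1, hzz, hzc, ?_, ?_, ?_, ?_⟩, hzZ, hZ⟩
  · intro x hx y hy
    exact hZ _ (Extraspecial.comm_mem_center_map hL1 hx hy)
  · intro x hx
    have := hZ _ (Extraspecial.sq_mem_center_map hL1 hx)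
    simpa [pow_two] using this
  · intro c hc
    apply hZ
    rw [← hL2, Subgroup.mem_centralizer_iff]
    intro q hq
    exact (hc q hq).symm
  · intro n hn q hq
    have hnN : n ∈ Subgroup.normalizer (Q : Set G) := by
      apply hL3
      rw [Subgroup.mem_centralizer_iff]
      intro y hy
      rcases hZ y hy with h | h
      · subst h; simp
      · subst h; exact hn.symm
    exact (Subgroup.mem_normalizer_iff.mp hnN q).mp hq

/-- Transport of the data to a conjugate. -/
theorem ESD.conj {Q : Subgroup G} {z : G} (hE : ESD Q z) (g : G) :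
    ESD (Q.map (MulAut.conj g).toMonoidHom) (g * z * g⁻¹) := by
  have hmem : ∀ x, x ∈ Q.map (MulAut.conj g).toMonoidHom ↔ g⁻¹ * x * g ∈ Q :=
    fun x => Basic.mem_map_conj_iff Q g x
  refine ⟨?_, ?_, ?_, ?_, ?_, ?_, ?_, ?_⟩
  · rw [hmem]
    have : g⁻¹ * (g * z * g⁻¹) * g = z := by group
    rw [this]; exact hE.zQ
  · intro h
    apply hE.z1
    have := congrArg (fun t => g⁻¹ * t * g) h
    simpa [mul_assoc] using this
  · have : g * z * g⁻¹ * (g * z * g⁻¹) = g * (z * z) * g⁻¹ := by group
    rw [this, hE.zz]; simp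
  · intro q hq
    rw [hmem] at hq
    have h := hE.zc _ hq
    have := congrArg (fun t => g * t * g⁻¹) h
    simpa [mul_assoc] using this
  · intro x hx y hy
    rw [hmem] at hx hy
    have e : x * y * x⁻¹ * y⁻¹ =
        g * ((g⁻¹ * x * g) * (g⁻¹ * y * g) * (g⁻¹ * x * g)⁻¹ * (g⁻¹ * y * g)⁻¹) * g⁻¹ := by group
    rcases hE.comm _ hx _ hy with h | h
    · left; rw [e, h]; simp
    · right; rw [e, h]
  · intro x hx
    rw [hmem] at hx
    have e : x * x = g * ((g⁻¹ * x * g) * (g⁻¹ * x * g)) * g⁻¹ := by group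
    rcases hE.sq _ hx with h | h
    · left; rw [e, h]; simp
    · right; rw [e, h]
  · intro c hc
    have h1 : ∀ q ∈ Q, (g⁻¹ * c * g) * q = q * (g⁻¹ * c * g) := by
      intro q hq
      have hq' : g * q * g⁻¹ ∈ Q.map (MulAut.conj g).toMonoidHom := by
        rw [hmem]
        have : g⁻¹ * (g * q * g⁻¹) * g = q := by group
        rw [this]; exact hq
      have := congrArg (fun t => g⁻¹ * t * g) (hc _ hq')
      simpa [mul_assoc] using this
    rcases hE.cent _ h1 with h | h
    · left
      have := congrArg (fun t => g * t * g⁻¹) h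
      simpa [mul_assoc] using this
    · right
      have := congrArg (fun t => g * t * g⁻¹) h
      simpa [mul_assoc] using this
  · intro n hn q hq
    rw [hmem] at hq ⊢
    have h1 : (g⁻¹ * n * g) * z = z * (g⁻¹ * n * g) := by
      have := congrArg (fun t => g⁻¹ * t * g) hn
      simpa [mul_assoc] using this
    have h2 := hE.norm _ h1 _ hq
    have e : g⁻¹ * (n * q * n⁻¹) * g = g⁻¹ * n * g * (g⁻¹ * q * g) * (g⁻¹ * n * g)⁻¹ := by group
    rw [e]; exact h2

/-- A non-central element of `Q` is conjugate in `Q` to its product with `z`. -/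
theorem ESD.exists_conj {Q : Subgroup G} {z : G} (hE : ESD Q z) {b : G} (hb : b ∈ Q)
    (hb1 : b ≠ 1) (hbz : b ≠ z) : ∃ q ∈ Q, q * b * q⁻¹ = z * b := by
  by_contra hcon
  push Not at hcon
  have hall : ∀ q ∈ Q, b * q = q * b := by
    intro q hq
    rcases hE.comm q hq b hb with h | h
    · have := congrArg (fun t => t * b * q) h
      simpa [mul_assoc] using this.symm
    · exfalso
      apply hcon q hq
      have := congrArg (fun t => t * b) h
      simpa [mul_assoc] using this
  rcases hE.cent b hall with h | h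
  · exact hb1 h
  · exact hbz h

/-- `Q` is the union of the centralizer of `b` and one further coset. -/
theorem ESD.comm_or {Q : Subgroup G} {z : G} (hE : ESD Q z) {b q₀ : G} (hb : b ∈ Q)
    (h0 : q₀ * b * q₀⁻¹ = z * b) {x : G} (hx : x ∈ Q) :
    x * b = b * x ∨ (x * q₀) * b = b * (x * q₀) := by
  rcases hE.comm x hx b hb with h | h
  · left
    have := congrArg (fun t => t * b * x) h
    simpa [mul_assoc] using this
  · right
    have h1 : q₀ * b = z * b * q₀ := by
      have := congrArg (fun t => t * q₀) h0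
      simpa [mul_assoc] using this
    have h2 : x * b = z * b * x := by
      have := congrArg (fun t => t * b * x) h
      simpa [mul_assoc] using this
    have h3 : x * z = z * x := hE.zc x hx
    calc x * q₀ * b = x * (q₀ * b) := by group
      _ = x * (z * b * q₀) := by rw [h1]
      _ = (x * z) * b * q₀ := by group
      _ = z * (x * b) * q₀ := by rw [h3]; group
      _ = z * (z * b * x) * q₀ := by rw [h2]
      _ = (z * z) * b * x * q₀ := by group
      _ = b * (x * q₀) := by rw [hE.zz]; group

/-- The double centralizer of `b` in `Q` is `{1, z, b, z * b}`. -/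
theorem ESD.double_centralizer {Q : Subgroup G} {z : G} (hE : ESD Q z) {b : G} (hb : b ∈ Q)
    {x : G} (hx : x ∈ Q) (hxc : ∀ p ∈ Q, p * b = b * p → x * p = p * x) :
    x = 1 ∨ x = z ∨ x = b ∨ x = z * b := by
  by_cases hb1 : b = 1 ∨ b = z
  · have hall : ∀ q ∈ Q, x * q = q * x := fun q hq => hxc q hq (by
      rcases hb1 with h | h
      · subst h; simp
      · subst h; exact hE.zc q hq)
    rcases hE.cent x hall with h | h
    · left; exact h
    · right; left; exact h
  · push Not at hb1
    obtain ⟨q₀, hq₀, h0⟩ := hE.exists_conj hb hb1.1 hb1.2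
    have key : ∀ c : G, c * q₀ = q₀ * c → (∀ p ∈ Q, p * b = b * p → c * p = p * c) →
        ∀ y ∈ Q, c * y = y * c := by
      intro c hc0 hcc y hy
      rcases hE.comm_or hb h0 hy with h | h
      · exact hcc y hy h
      · have h1 := hcc (y * q₀) (Q.mul_mem hy hq₀) h
        have : c * y * q₀ = y * c * q₀ := by
          calc c * y * q₀ = c * (y * q₀) := by group
            _ = y * q₀ * c := h1
            _ = y * (q₀ * c) := by group
            _ = y * (c * q₀) := by rw [hc0]
            _ = y * c * q₀ := by group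
        exact mul_right_cancel this
    rcases hE.comm x hx q₀ hq₀ with h | h
    · have hc0 : x * q₀ = q₀ * x := by
        have := congrArg (fun t => t * q₀ * x) h
        simpa [mul_assoc] using this
      rcases hE.cent x (key x hc0 hxc) with h' | h'
      · left; exact h'
      · right; left; exact h'
    · have hxq : x * q₀ = z * q₀ * x := by
        have := congrArg (fun t => t * q₀ * x) h
        simpa [mul_assoc] using this
      have hq0b : q₀ * b = z * b * q₀ := by
        have := congrArg (fun t => t * q₀) h0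
        simpa [mul_assoc] using this
      have hbz : b * z = z * b := hE.zc b hb
      have hbq : b * q₀ = z * q₀ * b := by
        calc b * q₀ = (z * z) * b * q₀ := by rw [hE.zz]; group
          _ = z * (z * b * q₀) := by group
          _ = z * (q₀ * b) := by rw [hq0b]
          _ = z * q₀ * b := by group
      have hc0 : (b * x) * q₀ = q₀ * (b * x) := by
        calc b * x * q₀ = b * (x * q₀) := by group
          _ = b * (z * q₀ * x) := by rw [hxq]
          _ = (b * z) * q₀ * x := by group
          _ = z * (b * q₀) * x := by rw [hbz]; group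
          _ = z * (z * q₀ * b) * x := by rw [hbq]
          _ = (z * z) * q₀ * b * x := by group
          _ = q₀ * (b * x) := by rw [hE.zz]; group
      have hcc : ∀ p ∈ Q, p * b = b * p → (b * x) * p = p * (b * x) := by
        intro p hp hpb
        calc b * x * p = b * (x * p) := by group
          _ = b * (p * x) := by rw [hxc p hp hpb]
          _ = (b * p) * x := by group
          _ = (p * b) * x := by rw [hpb]
          _ = p * (b * x) := by group
      rcases hE.cent _ (key _ hc0 hcc) with h' | h'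
      · rcases hE.sq b hb with hbb | hbb
        · right; right; left
          exact mul_left_cancel (h'.trans hbb.symm)
        · right; right; right
          apply mul_left_cancel (a := b)
          rw [h']
          calc (1 : G) = z * z := hE.zz.symm
            _ = z * (b * b) := by rw [hbb]
            _ = (z * b) * b := by group
            _ = (b * z) * b := by rw [hbz]
            _ = b * (z * b) := by group
      · rcases hE.sq b hb with hbb | hbb
        · right; right; right
          apply mul_left_cancel (a := b)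
          rw [h']
          calc z = z * (b * b) := by rw [hbb]; group
            _ = (z * b) * b := by group
            _ = (b * z) * b := by rw [hbz]
            _ = b * (z * b) := by group
        · right; right; left
          exact mul_left_cancel (h'.trans hbb.symm)

/-- If `Q` has more than eight elements, the centralizer in `Q` of any element of `Q` contains
a square root of `z`. -/
theorem ESD.exists_sq_eq {Q : Subgroup G} {z : G} (hE : ESD Q z) (hcard : 9 ≤ Nat.card Q)
    {b : G} (hb : b ∈ Q) : ∃ p ∈ Q, p * b = b * p ∧ p * p = z := by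
  by_contra hcon
  push Not at hcon
  have hsq1 : ∀ p ∈ Q, p * b = b * p → p * p = 1 := by
    intro p hp hpb
    rcases hE.sq p hp with h | h
    · exact h
    · exact absurd h (hcon p hp hpb)
  have hab : ∀ p ∈ Q, p * b = b * p → ∀ p' ∈ Q, p' * b = b * p' → p * p' = p' * p := by
    intro p hp hpb p' hp' hpb'
    have h1 := hsq1 p hp hpb
    have h2 := hsq1 p' hp' hpb'
    have h3 : (p * p') * (p * p') = 1 := hsq1 (p * p') (Q.mul_mem hp hp') (by
      calc p * p' * b = p * (p' * b) := by group
        _ = p * (b * p') := by rw [hpb']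
        _ = (p * b) * p' := by group
        _ = (b * p) * p' := by rw [hpb]
        _ = b * (p * p') := by group)
    calc p * p' = p * ((p * p') * (p * p')) * p' := by rw [h3]; group
      _ = (p * p) * p' * p * (p' * p') := by group
      _ = p' * p := by rw [h1, h2]; group
  have hC : ∀ p ∈ Q, p * b = b * p → p = 1 ∨ p = z ∨ p = b ∨ p = z * b := by
    intro p hp hpb
    exact hE.double_centralizer hb hp (fun p' hp' hpb' => hab p hp hpb p' hp' hpb')
  by_cases hb1 : b = 1 ∨ b = z
  · have hall : ∀ x ∈ Q, x ∈ [1, z, b, z * b] := by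
      intro x hx
      have hxb : x * b = b * x := by
        rcases hb1 with h | h
        · subst h; simp
        · subst h; exact hE.zc x hx
      rcases hC x hx hxb with h | h | h | h <;> simp [h]
    have := Count.card_le_of_forall_mem_list Q _ hall
    simp at this
    omega
  · push Not at hb1
    obtain ⟨q₀, hq₀, h0⟩ := hE.exists_conj hb hb1.1 hb1.2
    have hall : ∀ x ∈ Q, x ∈ [1, z, b, z * b, q₀⁻¹, z * q₀⁻¹, b * q₀⁻¹, z * b * q₀⁻¹] := by
      intro x hx
      rcases hE.comm_or hb h0 hx with h | h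
      · rcases hC x hx h with h | h | h | h <;> simp [h]
      · rcases hC (x * q₀) (Q.mul_mem hx hq₀) h with h | h | h | h
        · have : x = q₀⁻¹ := eq_inv_of_mul_eq_one_left h
          simp [this]
        · have : x = z * q₀⁻¹ := eq_mul_inv_of_mul_eq h
          simp [this]
        · have : x = b * q₀⁻¹ := eq_mul_inv_of_mul_eq h
          simp [this]
        · have : x = z * b * q₀⁻¹ := eq_mul_inv_of_mul_eq h
          simp [this]
    have := Count.card_le_of_forall_mem_list Q _ hall
    simp at this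
    omega

/-- If a conjugate `g z g⁻¹ ≠ z` of the central involution lies in `Q` (and `Q` has more than
eight elements), then `z` lies in the conjugate `g Q g⁻¹`. -/
theorem ESD.mem_conj_of_conj_mem {Q : Subgroup G} {z : G} (hE : ESD Q z)
    (hcard : 9 ≤ Nat.card Q) (g : G) (hsQ : g * z * g⁻¹ ∈ Q) (hsz : g * z * g⁻¹ ≠ z) :
    z ∈ Q.map (MulAut.conj g).toMonoidHom := by
  have hE' : ESD (Q.map (MulAut.conj g).toMonoidHom) (g * z * g⁻¹) := hE.conj g
  have hmem : ∀ x, x ∈ Q.map (MulAut.conj g).toMonoidHom ↔ g⁻¹ * x * g ∈ Q :=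
    fun x => Basic.mem_map_conj_iff Q g x
  generalize hQ' : Q.map (MulAut.conj g).toMonoidHom = Q' at hE' hmem ⊢
  have hsdef : ∀ s, s = g * z * g⁻¹ → z ∈ Q' := by
    intro s hs
    rw [← hs] at hE' hsQ hsz
    have hs1 : s ≠ 1 := hE'.z1
    have hss : s * s = 1 := hE'.zz
    have hzz : z * z = 1 := hE.zz
    have hsz' : s * z = z * s := hE.zc s hsQ
    have hsinv : s⁻¹ = s := inv_eq_of_mul_eq_one_right hss
    have hzinv : z⁻¹ = z := inv_eq_of_mul_eq_one_right hzz
    obtain ⟨t, ht, hts⟩ := hE.exists_conj hsQ hs1 hsz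
    have htz : t * z = z * t := hE.zc t ht
    -- Lemma A
    have lemA : ∀ x ∈ Q', x * z * x⁻¹ = z * s → z ∈ Q' := by
      intro x hx hxz
      have hxs : x * s = s * x := hE'.zc x hx
      have hn : (t * x) * z * (t * x)⁻¹ = s := by
        calc t * x * z * (t * x)⁻¹ = t * (x * z * x⁻¹) * t⁻¹ := by group
          _ = t * (z * s) * t⁻¹ := by rw [hxz]
          _ = (t * z) * t⁻¹ * (t * s * t⁻¹) := by group
          _ = z * t * t⁻¹ * (z * s) := by rw [htz, hts]
          _ = (z * z) * s := by group
          _ = s := by rw [hzz]; simp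
      have hcomm : (g⁻¹ * (t * x)) * z = z * (g⁻¹ * (t * x)) := by
        have := congrArg (fun u => g⁻¹ * u * (t * x)) hn
        rw [hs] at this
        simpa [mul_assoc] using this
      have hxz' : x⁻¹ * z * x = z * s := by
        have h1 : x⁻¹ * s * x = s := by
          have := congrArg (fun u => x⁻¹ * u) hxs
          simpa [mul_assoc] using this.symm
        have h2 : z = x⁻¹ * z * x * s := by
          calc z = x⁻¹ * (x * z * x⁻¹) * x := by group
            _ = x⁻¹ * (z * s) * x := by rw [hxz]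
            _ = x⁻¹ * z * x * (x⁻¹ * s * x) := by group
            _ = x⁻¹ * z * x * s := by rw [h1]
        calc x⁻¹ * z * x = x⁻¹ * z * x * (s * s) := by rw [hss]; simp
          _ = (x⁻¹ * z * x * s) * s := by group
          _ = z * s := by rw [← h2]
      rw [hmem]
      have h3 := hE.norm _ hcomm (z * s) (Q.mul_mem hE.zQ hsQ)
      have e : g⁻¹ * (t * x) * (z * s) * (g⁻¹ * (t * x))⁻¹ = g⁻¹ * z * g := by
        calc g⁻¹ * (t * x) * (z * s) * (g⁻¹ * (t * x))⁻¹
            = g⁻¹ * (t * x) * (x⁻¹ * z * x) * (g⁻¹ * (t * x))⁻¹ := by rw [hxz']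
          _ = g⁻¹ * (t * z) * t⁻¹ * g := by group
          _ = g⁻¹ * (z * t) * t⁻¹ * g := by rw [htz]
          _ = g⁻¹ * z * g := by group
      rw [e] at h3
      exact h3
    by_contra hzQ'
    have step2 : ∀ u ∈ Q', (z * u * z⁻¹ * u⁻¹ = 1 ∨ z * u * z⁻¹ * u⁻¹ = s) → z * u = u * z := by
      intro u hu h
      rcases h with h | h
      · have := congrArg (fun t => t * u * z) h
        simpa [mul_assoc] using this
      · exfalso
        apply hzQ'
        apply lemA u hu
        have h1 : u * z * u⁻¹ = s⁻¹ * z := by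
          have := congrArg (fun t => t⁻¹ * z) h
          simpa [mul_assoc] using this
        rw [h1, hsinv, hsz']
    have delta : ∀ r ∈ Q', r * z = z * r → ∀ p ∈ Q, p * s = s * p →
        (r * p * r⁻¹ * p⁻¹ = 1 ∨ r * p * r⁻¹ * p⁻¹ = s) := by
      intro r hr hrz p hp hps
      have hcQ : r * p * r⁻¹ * p⁻¹ ∈ Q := Q.mul_mem (hE.norm r hrz p hp) (Q.inv_mem hp)
      have hcQ' : r * p * r⁻¹ * p⁻¹ ∈ Q' := by
        have h1 := hE'.norm p hps r⁻¹ (Q'.inv_mem hr)
        have h2 := Q'.mul_mem hr h1
        have e : r * (p * r⁻¹ * p⁻¹) = r * p * r⁻¹ * p⁻¹ := by group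
        rwa [e] at h2
      generalize r * p * r⁻¹ * p⁻¹ = c at hcQ hcQ' ⊢
      have hcP : ∀ p' ∈ Q, p' * s = s * p' → c * p' = p' * c := by
        intro p' hp' hps'
        have h1 : c * p' * c⁻¹ * p'⁻¹ ∈ Q' := by
          have h1 := hE'.norm p' hps' c⁻¹ (Q'.inv_mem hcQ')
          have h2 := Q'.mul_mem hcQ' h1
          have e : c * (p' * c⁻¹ * p'⁻¹) = c * p' * c⁻¹ * p'⁻¹ := by group
          rwa [e] at h2
        rcases hE.comm c hcQ p' hp' with h | h
        · have := congrArg (fun t => t * p' * c) h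
          simpa [mul_assoc] using this
        · rw [h] at h1
          exact absurd h1 hzQ'
      rcases hE.double_centralizer hsQ hcQ hcP with h | h | h | h
      · left; exact h
      · rw [h] at hcQ'; exact absurd hcQ' hzQ'
      · right; exact h
      · exfalso
        apply hzQ'
        rw [h] at hcQ'
        have := Q'.mul_mem hcQ' hE'.zQ
        have e : z * s * s = z := by rw [mul_assoc, hss, mul_one]
        rwa [e] at this
    obtain ⟨p, hp, hps, hpp⟩ := hE.exists_sq_eq hcard hsQ
    have hcmem : ∀ u ∈ Q', p * u * p⁻¹ * u⁻¹ ∈ Q' :=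
      fun u hu => Q'.mul_mem (hE'.norm p hps u hu) (Q'.inv_mem hu)
    have hd : ∀ u : G, z * u * z⁻¹ * u⁻¹ =
        (p * (p * u * p⁻¹ * u⁻¹) * p⁻¹ * (p * u * p⁻¹ * u⁻¹)⁻¹) *
          ((p * u * p⁻¹ * u⁻¹) * (p * u * p⁻¹ * u⁻¹)) := by
      intro u
      rw [← hpp]
      group
    have star : ∀ u ∈ Q', (p * (p * u * p⁻¹ * u⁻¹) * p⁻¹ * (p * u * p⁻¹ * u⁻¹)⁻¹ = 1 ∨
        p * (p * u * p⁻¹ * u⁻¹) * p⁻¹ * (p * u * p⁻¹ * u⁻¹)⁻¹ = s) →
        (p * u * p⁻¹ * u⁻¹ = 1 ∨ p * u * p⁻¹ * u⁻¹ = s) := by
      intro u hu h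
      have hv := hcmem u hu
      have hd' : z * u * z⁻¹ * u⁻¹ = 1 ∨ z * u * z⁻¹ * u⁻¹ = s := by
        rw [hd u]
        rcases h with h | h <;> rcases hE'.sq _ hv with h' | h' <;> rw [h, h'] <;> simp [hss]
      have hzu : z * u = u * z := step2 u hu hd'
      have h2 := delta u hu hzu.symm p hp hps
      have e : p * u * p⁻¹ * u⁻¹ = (u * p * u⁻¹ * p⁻¹)⁻¹ := by group
      rw [e]
      rcases h2 with h | h
      · left; rw [h]; simp
      · right; rw [h]; exact hsinv
    have hall : ∀ u ∈ Q', p * u * p⁻¹ * u⁻¹ = 1 ∨ p * u * p⁻¹ * u⁻¹ = s := by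
      intro u hu
      apply star u hu
      apply star _ (hcmem u hu)
      have hvQ : p * u * p⁻¹ * u⁻¹ ∈ Q' := hcmem u hu
      have hdu := hd u
      generalize p * u * p⁻¹ * u⁻¹ = v at hvQ hdu ⊢
      have hwQ : p * v * p⁻¹ * v⁻¹ ∈ Q' := hcmem v hvQ
      generalize p * v * p⁻¹ * v⁻¹ = w at hwQ hdu ⊢
      have hduQ : z * u * z⁻¹ * u⁻¹ ∈ Q' := by
        rw [hdu]; exact Q'.mul_mem hwQ (Q'.mul_mem hvQ hvQ)
      have hw' : w = (z * u * z⁻¹ * u⁻¹) * (v * v)⁻¹ := by rw [hdu]; group
      have hdd : z * (z * u * z⁻¹ * u⁻¹) * z⁻¹ * (z * u * z⁻¹ * u⁻¹)⁻¹ =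
          ((z * u * z⁻¹ * u⁻¹) * (z * u * z⁻¹ * u⁻¹))⁻¹ := by
        have : z * (z * u * z⁻¹ * u⁻¹) * z⁻¹ = (z * u * z⁻¹ * u⁻¹)⁻¹ := by
          calc z * (z * u * z⁻¹ * u⁻¹) * z⁻¹ = (z * z) * u * z⁻¹ * u⁻¹ * z⁻¹ := by group
            _ = u * z⁻¹ * u⁻¹ * z⁻¹ := by rw [hzz]; group
            _ = u * z * u⁻¹ * z⁻¹ := by rw [hzinv]
            _ = (z * u * z⁻¹ * u⁻¹)⁻¹ := by group
        rw [this]; group
      have hd2 : z * (z * u * z⁻¹ * u⁻¹) = (z * u * z⁻¹ * u⁻¹) * z := by
        apply step2 _ hduQ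
        rw [hdd]
        rcases hE'.sq _ hduQ with h | h
        · left; rw [h]; simp
        · right; rw [h]; exact hsinv
      have hwz : w * z = z * w := by
        have hvv : (v * v) * z = z * (v * v) := by
          rcases hE'.sq v hvQ with h | h
          · rw [h]; simp
          · rw [h]; exact hsz'
        have c1 : Commute (z * u * z⁻¹ * u⁻¹) z := hd2.symm
        have c2 : Commute (v * v) z := hvv
        have c3 : Commute ((z * u * z⁻¹ * u⁻¹) * (v * v)⁻¹) z := c1.mul_left c2.inv_left
        rw [hw']; exact c3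
      have h2 := delta w hwQ hwz p hp hps
      have e : p * w * p⁻¹ * w⁻¹ = (w * p * w⁻¹ * p⁻¹)⁻¹ := by group
      rw [e]
      rcases h2 with h | h
      · left; rw [h]; simp
      · right; rw [h]; exact hsinv
    have hzc : ∀ u ∈ Q', z * u = u * z := by
      intro u hu
      apply step2 u hu
      rw [hd u]
      rcases hall u hu with h | h
      · left; rw [h]; simp
      · left; rw [h]
        have : p * s * p⁻¹ * s⁻¹ = 1 := by rw [hps]; group
        rw [this, hss]; simp
    rcases hE'.cent z hzc with h | h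
    · exact hE.z1 h
    · exact hsz h.symm
  exact hsdef _ rfl

end Cfsg.Agent.Lib.Helper90.ESData
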