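import Mathlib

/-!
Fixed points of an element of prime power order acting by conjugation on a finite subgroup it
normalises: their number is congruent to the order of the subgroup modulo the prime.  Corollary:
an element of `q`-power order normalising a subgroup of order `q` centralises it.
-/

set_option autoImplicit false

namespace Cfsg.Agent.Lib.Helper90.FixMod

/-- the number of fixed points of an element with `a ^ p ^ n = 1` on a finite subgroup normalised
by it is congruent to the order of the subgroup modulo `p` -/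
theorem fix_mod {A : Type*} [Group A] (K : Subgroup A) [Finite K] (a : A) (p n : ℕ)
    (hp : p.Prime) (ha : a ^ p ^ n = 1) (hnorm : ∀ k ∈ K, a * k * a⁻¹ ∈ K) :
    Nat.card ↥(K ⊓ Subgroup.centralizer ({a} : Set A)) ≡ Nat.card ↥K [MOD p] := by
  classical
  have hft : Fintype K := Fintype.ofFinite K
  have hnormpow : ∀ n : ℕ, ∀ k ∈ K, a ^ n * k * (a ^ n)⁻¹ ∈ K := by
    intro n
    induction n with
    | zero => intro k hk; simpa using hk
    | succ n ih =>
      intro k hk
      have h := hnorm _ (ih k hk)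
      have e : a ^ (n + 1) * k * (a ^ (n + 1))⁻¹ = a * (a ^ n * k * (a ^ n)⁻¹) * a⁻¹ := by
        rw [pow_succ']; group
      rw [e]; exact h
  have hpos : 1 ≤ p ^ n := Nat.one_le_pow _ _ hp.pos
  have hainv : a⁻¹ = a ^ (p ^ n - 1) := by
    rw [inv_eq_iff_mul_eq_one, ← pow_succ', Nat.sub_add_cancel hpos]
    exact ha
  have hnorm' : ∀ k ∈ K, a⁻¹ * k * a ∈ K := by
    intro k hk
    have h := hnormpow (p ^ n - 1) k hk
    rw [← hainv, inv_inv] at h
    exact h
  let σ : Equiv.Perm K :=
    { toFun := fun k => ⟨a * k * a⁻¹, hnorm k k.2⟩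
      invFun := fun k => ⟨a⁻¹ * k * a, hnorm' k k.2⟩
      left_inv := fun k => Subtype.ext (by simp [mul_assoc])
      right_inv := fun k => Subtype.ext (by simp [mul_assoc]) }
  have hσ1 : ∀ k : K, ((σ k : K) : A) = a * k * a⁻¹ := fun k => rfl
  have hσpow : ∀ n : ℕ, ∀ k : K, (((σ ^ n) k : K) : A) = a ^ n * k * (a ^ n)⁻¹ := by
    intro n
    induction n with
    | zero => intro k; simp
    | succ n ih =>
      intro k
      rw [pow_succ', Equiv.Perm.mul_apply, hσ1, ih k, pow_succ']
      group
  have hσ5 : σ ^ p ^ n = 1 := by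
    ext k
    rw [hσpow (p ^ n) k, ha]
    simp
  have hp5 : Fact (Nat.Prime p) := ⟨hp⟩
  have hmod := Equiv.Perm.card_compl_support_modEq hσ5
  have hcardfix : Nat.card ↥(K ⊓ Subgroup.centralizer ({a} : Set A)) = (σ.support)ᶜ.card := by
    have e1 : Nat.card ↥((K ⊓ Subgroup.centralizer ({a} : Set A)).subgroupOf K)
        = Nat.card ↥(K ⊓ Subgroup.centralizer ({a} : Set A)) :=
      Nat.card_congr (Subgroup.subgroupOfEquivOfLe inf_le_left).toEquiv
    rw [← e1]
    refine Nat.subtype_card _ ?_
    intro k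
    rw [Finset.mem_compl, Equiv.Perm.mem_support, not_not, Subgroup.mem_subgroupOf,
      Subgroup.mem_inf, Subgroup.mem_centralizer_iff]
    constructor
    · intro h
      refine ⟨k.2, ?_⟩
      intro x hx
      rw [Set.mem_singleton_iff] at hx
      subst hx
      have h' : x * (k : A) * x⁻¹ = k := by
        have h2 := congrArg Subtype.val h
        rw [hσ1] at h2
        exact h2
      calc x * (k : A) = (x * (k : A) * x⁻¹) * x := by group
        _ = (k : A) * x := by rw [h']
    · rintro ⟨-, h⟩
      apply Subtype.ext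
      rw [hσ1]
      have h' := h a rfl
      rw [h']
      group
  rw [← hcardfix, Fintype.card_eq_nat_card] at hmod
  exact hmod

/-- an element of `q`-power order normalising a subgroup of order `q` centralises it -/
theorem comm_of_prime_card {A : Type*} [Group A] (R : Subgroup A) (y : A) (q m : ℕ)
    (hq : q.Prime) (hy : y ^ q ^ m = 1) (hnorm : ∀ u ∈ R, y * u * y⁻¹ ∈ R)
    (hR : Nat.card ↥R = q) : ∀ u ∈ R, y * u = u * y := by
  have hfin : Finite R := Nat.finite_of_card_ne_zero (by rw [hR]; exact hq.ne_zero)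
  have hmod := fix_mod R y q m hq hy hnorm
  rw [hR] at hmod
  have hdvd1 : q ∣ Nat.card ↥(R ⊓ Subgroup.centralizer ({y} : Set A)) := by
    have h0 : q ≡ 0 [MOD q] := Nat.modEq_zero_iff_dvd.mpr dvd_rfl
    exact Nat.modEq_zero_iff_dvd.mp (hmod.trans h0)
  have hdvd2 : Nat.card ↥(R ⊓ Subgroup.centralizer ({y} : Set A)) ∣ q := by
    rw [← hR]
    exact Subgroup.card_dvd_of_le inf_le_left
  have hcard : Nat.card ↥(R ⊓ Subgroup.centralizer ({y} : Set A)) = q :=
    Nat.dvd_antisymm hdvd2 hdvd1
  have heq : R ⊓ Subgroup.centralizer ({y} : Set A) = R :=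
    Subgroup.eq_of_le_of_card_ge inf_le_left (by rw [hcard, hR])
  intro u hu
  rw [← heq] at hu
  exact Subgroup.mem_centralizer_iff.mp (Subgroup.mem_inf.mp hu).2 y rfl

end Cfsg.Agent.Lib.Helper90.FixMod
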