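import Mathlib
import Cfsg.Agent.Lib.Helper40.GFStmt

/-!
S5886 piece K2COMM (helper90, extra seat): `E(nu b e d c₀) ∈ c.M` for `d` of norm one.
-/

set_option autoImplicit false

universe u

namespace Cfsg.Agent.Lib.Helper90.GFK2COMM

open Cfsg.Agent.Lib.Helper40.GFStmt

theorem main : K2Comm.{u} := by
  intro F L _ _ _ _ k c v ψ e b hv hψ hbe hT d c₀ hd
  classical
  obtain ⟨T, hTM, hT⟩ := hT
  -- `d ≠ 0`
  have hd0 : d ≠ 0 := by
    rintro rfl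
    rw [Algebra.norm_zero] at hd
    exact zero_ne_one hd
  -- a functional with `φ₁ v = 1`
  obtain ⟨φ₁, hφ₁⟩ : ∃ φ₁ : V k L →ₗ[L] L, φ₁ v = 1 := by
    have : ∃ i, v i ≠ 0 := by
      by_contra hcon
      apply hv
      funext i
      by_contra hi
      exact hcon ⟨i, hi⟩
    obtain ⟨i, hi⟩ := this
    refine ⟨(v i)⁻¹ • LinearMap.proj i, ?_⟩
    rw [LinearMap.smul_apply, LinearMap.proj_apply, smul_eq_mul, inv_mul_cancel₀ hi]
  -- the dilation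
  have hu1 : 1 + ((d - 1) • φ₁) v = d := by
    rw [LinearMap.smul_apply, hφ₁, smul_eq_mul, mul_one]; ring
  have hunit : IsUnit (1 + ((d - 1) • φ₁) v) := by
    rw [hu1]; exact isUnit_iff_ne_zero.mpr hd0
  obtain ⟨δ, hδM, hδ⟩ : ∃ δ ∈ c.M, ∀ x : V k L, δ x = x + ((d - 1) * φ₁ x) • v := by
    refine ⟨(LinearEquiv.dilatransvection hunit).restrictScalars F,
      mem_dil c ((d - 1) • φ₁) v hunit (by rw [hu1]; exact hd), fun x => ?_⟩
    show (LinearEquiv.dilatransvection hunit) x = _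
    rw [LinearEquiv.dilatransvection.apply, LinearMap.smul_apply, smul_eq_mul]
  -- the transvection
  have h0 : ((d * c₀) • ψ) v = 0 := by rw [LinearMap.smul_apply, hψ, smul_zero]
  obtain ⟨t, htM, ht⟩ : ∃ t ∈ c.M, ∀ x : V k L, t x = x + ((d * c₀) * ψ x) • v := by
    refine ⟨(LinearEquiv.transvection h0).restrictScalars F, mem_tv c ((d * c₀) • ψ) v h0,
      fun x => ?_⟩
    show (LinearEquiv.transvection h0) x = _
    rw [LinearEquiv.transvection.apply, LinearMap.smul_apply, smul_eq_mul]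
  -- inverse application lemmas
  have hinv : ∀ (g : V k L ≃ₗ[F] V k L) (x : V k L), g (g⁻¹ x) = x := by
    intro g x
    rw [← LinearEquiv.mul_apply, mul_inv_cancel]
    rfl
  have hinv' : ∀ (g : V k L ≃ₗ[F] V k L) (x : V k L), g⁻¹ (g x) = x := by
    intro g x
    rw [← LinearEquiv.mul_apply, inv_mul_cancel]
    rfl
  -- `δ` on the line
  have hδv : ∀ a : L, δ (a • v) = (d * a) • v := by
    intro a
    rw [hδ, map_smul, hφ₁, smul_eq_mul, mul_one, ← add_smul]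
    congr 1; ring
  have hδiv : ∀ a : L, δ⁻¹ (a • v) = (d⁻¹ * a) • v := by
    intro a
    apply δ.injective
    rw [hinv, hδv, ← mul_assoc, mul_inv_cancel₀ hd0, one_mul]
  have hbA : ∀ a : L, b (a - b a • e) = b a := by
    intro a
    rw [map_sub, map_smul, hbe, smul_zero, sub_zero]
  have hTiv : ∀ a : L, T⁻¹ (a • v) = (a - b a • e) • v := by
    intro a
    apply T.injective
    rw [hinv, hT, hbA]
    congr 1
    abel
  -- the commutator
  obtain ⟨h', hh'⟩ : ∃ h' : V k L ≃ₗ[F] V k L, h' = T * δ * T⁻¹ * δ⁻¹ := ⟨_, rfl⟩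
  have hh'M : h' ∈ c.M := by
    rw [hh']
    exact c.M.mul_mem (c.M.mul_mem (c.M.mul_mem hTM hδM) (c.M.inv_mem hTM)) (c.M.inv_mem hδM)
  have hh'a : ∀ x : V k L, h' x = T (δ (T⁻¹ (δ⁻¹ x))) := by
    intro x
    rw [hh']
    rfl
  have hh'v : ∀ a : L, h' (a • v) =
      (d * (d⁻¹ * a - b (d⁻¹ * a) • e) + b (d * (d⁻¹ * a - b (d⁻¹ * a) • e)) • e) • v := by
    intro a
    rw [hh'a, hδiv, hTiv, hδv, hT]
  -- `h' x - x ∈ L v`
  have hline : ∀ x : V k L, ∃ a : L, h' x = x + a • v := by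
    intro x
    have h1 : ∃ a₁ : L, δ⁻¹ x = x + a₁ • v := by
      refine ⟨-((d - 1) * φ₁ (δ⁻¹ x)), ?_⟩
      have h2 := hδ (δ⁻¹ x)
      rw [hinv] at h2
      rw [neg_smul]
      nth_rewrite 2 [h2]
      abel
    obtain ⟨a₁, ha₁⟩ := h1
    have h2 : T⁻¹ (δ⁻¹ x) = T⁻¹ x + (a₁ - b a₁ • e) • v := by
      rw [ha₁, map_add, hTiv]
    have h3 : ∃ a₄ : L, δ (T⁻¹ (δ⁻¹ x)) = T⁻¹ x + a₄ • v := by
      refine ⟨(a₁ - b a₁ • e) + (d - 1) * φ₁ (T⁻¹ (δ⁻¹ x)), ?_⟩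
      rw [hδ, add_smul]
      nth_rewrite 1 [h2]
      abel
    obtain ⟨a₄, ha₄⟩ := h3
    refine ⟨a₄ + b a₄ • e, ?_⟩
    rw [hh'a, ha₄, map_add, hinv, hT]
  have hψh : ∀ x : V k L, ψ (h' x) = ψ x := by
    intro x
    obtain ⟨a, ha⟩ := hline x
    rw [ha, map_add, map_smul, hψ, smul_zero, add_zero]
  have hψhi : ∀ x : V k L, ψ (h'⁻¹ x) = ψ x := by
    intro x
    rw [← hψh (h'⁻¹ x), hinv]
  refine ⟨h' * t * h'⁻¹, c.M.mul_mem (c.M.mul_mem hh'M htM) (c.M.inv_mem hh'M), fun x => ?_⟩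
  have e1 : (h' * t * h'⁻¹) x = h' (t (h'⁻¹ x)) := rfl
  rw [e1, ht, map_add, hinv, hψhi, hh'v, nu_apply]
  have e2 : d⁻¹ * (d * c₀ * ψ x) = c₀ * ψ x := by
    rw [mul_assoc, ← mul_assoc, inv_mul_cancel₀ hd0, one_mul]
  rw [e2]

end Cfsg.Agent.Lib.Helper90.GFK2COMM
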