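import Mathlib
import Cfsg.Agent.Lib.Helper40.GFStmt

/-!
S5886 piece K2EXT (helper90, second seat): extension from the norm-one elements to all `d`.
-/

set_option autoImplicit false

universe u

namespace Cfsg.Agent.Lib.Helper90.GFK2EXT

open Cfsg.Agent.Lib.Helper40.GFStmt

theorem nu_zero {F L : Type u} [Field F] [Field L] [Algebra F L] (b : L →ₗ[F] F) (e c₀ : L) :
    nu b e 0 c₀ = 0 := by
  ext x
  rw [nu_apply, LinearMap.zero_apply, zero_mul, map_zero, zero_smul, add_zero]

theorem nu_add {F L : Type u} [Field F] [Field L] [Algebra F L] (b : L →ₗ[F] F) (e d d' c₀ : L) :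
    nu b e (d + d') c₀ = nu b e d c₀ + nu b e d' c₀ := by
  ext x
  rw [LinearMap.add_apply, nu_apply, nu_apply, nu_apply, add_mul, map_add, add_smul]
  abel

theorem nu_smul {F L : Type u} [Field F] [Field L] [Algebra F L] (b : L →ₗ[F] F) (e d c₀ : L)
    (s : F) : nu b e (s • d) c₀ = nu b e d (s • c₀) := by
  ext x
  rw [nu_apply, nu_apply]
  have h1 : s • c₀ * x - b (s • c₀ * x) • e = s • (c₀ * x - b (c₀ * x) • e) := by
    rw [smul_mul_assoc, map_smul, smul_eq_mul, mul_smul, smul_sub]
  rw [h1, smul_mul_assoc, mul_smul_comm]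

theorem main (hS : SpanNorm.{u}) : K2Ext.{u} := by
  intro F L _ _ _ _ k c v ψ e b hpr hψ hN d c₀
  have hd : d ∈ Submodule.span F {d : L | Algebra.norm F d = 1} := by
    rw [hS F L hpr]; exact Submodule.mem_top
  revert c₀
  induction hd using Submodule.span_induction with
  | mem x hx => exact fun c₀ => hN x c₀ hx
  | zero =>
    intro c₀
    rw [nu_zero]
    exact inSig_zero c v ψ
  | add x y _ _ hx hy =>
    intro c₀
    rw [nu_add]
    exact inSig_add c v ψ hψ (hx c₀) (hy c₀)
  | smul a x _ hx =>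
    intro c₀
    rw [nu_smul]
    exact hx (a • c₀)

end Cfsg.Agent.Lib.Helper90.GFK2EXT
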