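import Mathlib
import Cfsg.Agent.Lib.Helper37.OrtStmt
import Cfsg.Agent.Lib.Helper5.SpTDIAGG
import Cfsg.Agent.Lib.Helper37.InvConj

/-!
S5981 piece CONG (helper90, second seat): over a finite field of odd characteristic, invertible
symmetric matrices whose determinants differ by a square are congruent.
-/

set_option autoImplicit false

universe u

namespace Cfsg.Agent.Lib.Helper90.OrtCONG

open Cfsg.Agent.Lib.Helper37

open scoped Matrix

variable {F : Type u} [Field F]

theorem sum_single {ι : Type} [Fintype ι] [DecidableEq ι] (c : ι → F) (x y : ι) (s t : F) :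
    ∑ l, (Pi.single x s : ι → F) l * c l * (Pi.single y t : ι → F) l =
      if x = y then s * c x * t else 0 := by
  by_cases hxy : x = y
  · subst hxy
    rw [if_pos rfl, Finset.sum_eq_single x]
    · simp
    · intro l _ hl
      simp [hl]
    · intro h
      exact absurd (Finset.mem_univ x) h
  · rw [if_neg hxy]
    apply Finset.sum_eq_zero
    intro l _
    by_cases hl : l = x
    · have : l ≠ y := fun h => hxy (hl ▸ h)
      simp [Pi.single_apply, this]
    · simp [Pi.single_apply, hl]

/-- the `2 × 2` step: `diag(.., cᵢ, .., cⱼ, ..)` is congruent to `diag(.., 1, .., cᵢ cⱼ, ..)`. -/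
theorem step [Fintype F] {ι : Type} [Fintype ι] [DecidableEq ι] (c : ι → F) (i j : ι)
    (hij : i ≠ j) (hi : c i ≠ 0) (hj : c j ≠ 0) :
    ∃ h : Matrix ι ι F, hᵀ * Matrix.diagonal c * h =
      Matrix.diagonal (Function.update (Function.update c i 1) j (c i * c j)) := by
  obtain ⟨α, β, hαβ⟩ := InvConj.exists_norm (-(c j / c i)) (1 / c i)
    (neg_ne_zero.mpr (div_ne_zero hj hi))
  have hab : c i * α ^ 2 + c j * β ^ 2 = 1 := by
    have h1 : c i * (α ^ 2 - -(c j / c i) * β ^ 2) = c i * (1 / c i) := by rw [hαβ]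
    have h2 : c i * (1 / c i) = 1 := by field_simp
    have h3 : c i * (α ^ 2 - -(c j / c i) * β ^ 2) = c i * α ^ 2 + c j * β ^ 2 := by
      field_simp
      ring
    rw [← h3, h1, h2]
  obtain ⟨col, hcol⟩ : ∃ col : ι → ι → F, col = fun a =>
      if a = i then (Pi.single i α + Pi.single j β : ι → F)
      else if a = j then (Pi.single i (-(c j * β)) + Pi.single j (c i * α) : ι → F)
      else (Pi.single a 1 : ι → F) := ⟨_, rfl⟩
  have hci : col i = (Pi.single i α + Pi.single j β : ι → F) := by
    rw [hcol]; simp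
  have hcj : col j = (Pi.single i (-(c j * β)) + Pi.single j (c i * α) : ι → F) := by
    rw [hcol]; simp [hij.symm]
  have hco : ∀ a, a ≠ i → a ≠ j → col a = (Pi.single a 1 : ι → F) := by
    intro a hai haj
    rw [hcol]; simp [hai, haj]
  refine ⟨Matrix.of (fun l a => col a l), ?_⟩
  ext a b
  rw [Matrix.mul_apply]
  simp only [Matrix.mul_diagonal, Matrix.transpose_apply, Matrix.of_apply, Matrix.diagonal_apply]
  rcases eq_or_ne a i with hai | hai
  · rcases eq_or_ne b i with hbi | hbi
    · rw [hai, hbi, hci]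
      simp only [Pi.add_apply, add_mul, mul_add, Finset.sum_add_distrib, sum_single]
      simp only [hij, hij.symm, if_true, if_false, Function.update_of_ne, Function.update_self,
        ne_eq, not_false_eq_true]
      linear_combination hab
    · rcases eq_or_ne b j with hbj | hbj
      · rw [hai, hbj, hci, hcj]
        simp only [Pi.add_apply, add_mul, mul_add, Finset.sum_add_distrib, sum_single]
        simp only [hij, hij.symm, if_true, if_false]
        ring
      · rw [hai, hci, hco b hbi hbj]
        simp only [Pi.add_apply, add_mul, mul_add, Finset.sum_add_distrib, sum_single]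
        simp [Ne.symm hbi, Ne.symm hbj]
  · rcases eq_or_ne a j with haj | haj
    · rcases eq_or_ne b i with hbi | hbi
      · rw [haj, hbi, hci, hcj]
        simp only [Pi.add_apply, add_mul, mul_add, Finset.sum_add_distrib, sum_single]
        simp only [hij, hij.symm, if_true, if_false]
        ring
      · rcases eq_or_ne b j with hbj | hbj
        · rw [haj, hbj, hcj]
          simp only [Pi.add_apply, add_mul, mul_add, Finset.sum_add_distrib, sum_single]
          simp only [hij, hij.symm, if_true, if_false, Function.update_self]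
          linear_combination (c i * c j) * hab
        · rw [haj, hcj, hco b hbi hbj]
          simp only [Pi.add_apply, add_mul, mul_add, Finset.sum_add_distrib, sum_single]
          simp [Ne.symm hbi, Ne.symm hbj]
    · rcases eq_or_ne b i with hbi | hbi
      · rw [hbi, hci, hco a hai haj]
        simp only [Pi.add_apply, add_mul, mul_add, Finset.sum_add_distrib, sum_single]
        simp [hai, haj]
      · rcases eq_or_ne b j with hbj | hbj
        · rw [hbj, hcj, hco a hai haj]
          simp only [Pi.add_apply, add_mul, mul_add, Finset.sum_add_distrib, sum_single]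
          simp [hai, haj]
        · rw [hco a hai haj, hco b hbi hbj]
          simp only [sum_single]
          by_cases hab' : a = b
          · subst hab'
            simp [hai, haj]
          · simp [hab']

theorem normal [Fintype F] {ι : Type} [Fintype ι] [DecidableEq ι] (c : ι → F)
    (hc : ∀ i, c i ≠ 0) (j0 : ι) (s : Finset ι) (hs : j0 ∉ s) :
    ∃ (g : Matrix ι ι F) (c' : ι → F), (∀ i, c' i ≠ 0) ∧
      gᵀ * Matrix.diagonal c * g = Matrix.diagonal c' ∧ ∀ i ∈ s, c' i = 1 := by
  induction s using Finset.induction_on with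
  | empty => exact ⟨1, c, hc, by simp, by simp⟩
  | insert i s hi ih =>
    have hj0s : j0 ∉ s := fun h => hs (Finset.mem_insert_of_mem h)
    have hij : i ≠ j0 := fun h => hs (h ▸ Finset.mem_insert_self i s)
    obtain ⟨g, c', hc', hg, h1⟩ := ih hj0s
    obtain ⟨h, hh⟩ := step c' i j0 hij (hc' i) (hc' j0)
    refine ⟨g * h, Function.update (Function.update c' i 1) j0 (c' i * c' j0), ?_, ?_, ?_⟩
    · intro l
      by_cases hl : l = j0
      · rw [hl, Function.update_self]
        exact mul_ne_zero (hc' i) (hc' j0)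
      · rw [Function.update_of_ne hl]
        by_cases hl2 : l = i
        · rw [hl2, Function.update_self]
          exact one_ne_zero
        · rw [Function.update_of_ne hl2]
          exact hc' l
    · rw [Matrix.transpose_mul]
      calc hᵀ * gᵀ * Matrix.diagonal c * (g * h)
          = hᵀ * (gᵀ * Matrix.diagonal c * g) * h := by simp only [Matrix.mul_assoc]
        _ = _ := by rw [hg, hh]
    · intro l hl
      rw [Finset.mem_insert] at hl
      rcases hl with hl | hl
      · rw [hl, Function.update_of_ne hij, Function.update_self]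
      · have hl1 : l ≠ j0 := fun h => hj0s (h ▸ hl)
        have hl2 : l ≠ i := fun h => hi (h ▸ hl)
        rw [Function.update_of_ne hl1, Function.update_of_ne hl2]
        exact h1 l hl

/-- normal form of an invertible symmetric matrix: `diag(1, .., 1, d)` up to congruence -/
theorem normal_form [Fintype F] (h2 : (2 : F) ≠ 0) (n : ℕ) (j0 : Fin n)
    (S : Matrix (Fin n) (Fin n) F) (hS : Sᵀ = S) (hdet : S.det ≠ 0) :
    ∃ (A : Matrix (Fin n) (Fin n) F) (d : F), A.det ≠ 0 ∧ d = S.det * A.det ^ 2 ∧
      Aᵀ * S * A = Matrix.diagonal (Function.update (fun _ => (1 : F)) j0 d) := by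
  obtain ⟨C, c, hC, hc, hCS⟩ := Cfsg.Agent.Lib.Helper5.SpTDIAGG.main.{u} F h2 n S hS hdet
  obtain ⟨g, c', hc', hg, h1⟩ := normal c hc j0 (Finset.univ.erase j0) (by simp)
  have hc'eq : c' = Function.update (fun _ => (1 : F)) j0 (c' j0) := by
    funext l
    by_cases hl : l = j0
    · rw [hl, Function.update_self]
    · rw [Function.update_of_ne hl]
      exact h1 l (Finset.mem_erase.mpr ⟨hl, Finset.mem_univ l⟩)
  have hAS : (C * g)ᵀ * S * (C * g) = Matrix.diagonal c' := by
    rw [Matrix.transpose_mul]
    calc gᵀ * Cᵀ * S * (C * g) = gᵀ * (Cᵀ * S * C) * g := by simp only [Matrix.mul_assoc]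
      _ = _ := by rw [hCS, hg]
  have hprod : ∏ l, c' l = c' j0 := by
    rw [Finset.prod_eq_single j0]
    · intro l _ hl
      exact h1 l (Finset.mem_erase.mpr ⟨hl, Finset.mem_univ l⟩)
    · intro h
      exact absurd (Finset.mem_univ j0) h
  have hd := congrArg Matrix.det hAS
  rw [Matrix.det_mul, Matrix.det_mul, Matrix.det_transpose, Matrix.det_diagonal, hprod] at hd
  refine ⟨C * g, c' j0, ?_, ?_, ?_⟩
  · intro h0
    rw [h0] at hd
    simp only [zero_mul, mul_zero] at hd
    exact hc' j0 hd.symm
  · rw [← hd]; ring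
  · rw [hAS]
    exact congrArg Matrix.diagonal hc'eq

theorem main : OrtStmt.Cong.{u} := by
  intro F _ _ h2 n S S' hS hdet hS' μ hμ hdet'
  rcases Nat.eq_zero_or_pos n with hn | hn
  · subst hn
    exact ⟨1, by simp, Subsingleton.elim _ _⟩
  have hdetS' : S'.det ≠ 0 := by
    rw [hdet']
    exact mul_ne_zero hdet (pow_ne_zero 2 hμ)
  obtain ⟨A, d, hA, hd, hAS⟩ := normal_form h2 n ⟨0, hn⟩ S hS hdet
  obtain ⟨A', d', hA', hd', hAS'⟩ := normal_form h2 n ⟨0, hn⟩ S' hS' hdetS'
  obtain ⟨ν, hν⟩ : ∃ ν : F, ν = A'.det * μ / A.det := ⟨_, rfl⟩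
  have hν0 : ν ≠ 0 := by
    rw [hν]
    exact div_ne_zero (mul_ne_zero hA' hμ) hA
  have hdd : d' = d * ν ^ 2 := by
    rw [hd', hd, hdet', hν]
    field_simp
  obtain ⟨E, hE⟩ : ∃ E : Matrix (Fin n) (Fin n) F,
      E = Matrix.diagonal (Function.update (fun _ => (1 : F)) (⟨0, hn⟩ : Fin n) ν) := ⟨_, rfl⟩
  have hEE : Eᵀ * Matrix.diagonal (Function.update (fun _ => (1 : F)) (⟨0, hn⟩ : Fin n) d) * E =
      Matrix.diagonal (Function.update (fun _ => (1 : F)) (⟨0, hn⟩ : Fin n) d') := by
    rw [hE, Matrix.diagonal_transpose, Matrix.diagonal_mul_diagonal, Matrix.diagonal_mul_diagonal]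
    congr 1
    funext l
    by_cases hl : l = (⟨0, hn⟩ : Fin n)
    · rw [hl, Function.update_self, Function.update_self, Function.update_self, hdd]
      ring
    · rw [Function.update_of_ne hl, Function.update_of_ne hl, Function.update_of_ne hl]
      ring
  have hEdet : E.det = ν := by
    rw [hE, Matrix.det_diagonal, Finset.prod_eq_single (⟨0, hn⟩ : Fin n)]
    · rw [Function.update_self]
    · intro l _ hl
      rw [Function.update_of_ne hl]
    · intro h
      exact absurd (Finset.mem_univ _) h
  have hA'u : IsUnit A'.det := hA'.isUnit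
  have hinv1 : A' * A'⁻¹ = 1 := Matrix.mul_nonsing_inv A' hA'u
  have hinv2 : A'⁻¹ᵀ * A'ᵀ = 1 := by
    rw [← Matrix.transpose_mul, hinv1, Matrix.transpose_one]
  refine ⟨A * E * A'⁻¹, ?_, ?_⟩
  · rw [Matrix.det_mul, Matrix.det_mul, hEdet]
    refine mul_ne_zero (mul_ne_zero hA hν0) ?_
    intro h0
    have h1 := congrArg Matrix.det hinv1
    rw [Matrix.det_mul, h0, mul_zero, Matrix.det_one] at h1
    exact zero_ne_one h1
  · rw [Matrix.transpose_mul, Matrix.transpose_mul]
    calc A'⁻¹ᵀ * (Eᵀ * Aᵀ) * S * (A * E * A'⁻¹)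
        = A'⁻¹ᵀ * (Eᵀ * (Aᵀ * S * A) * E) * A'⁻¹ := by simp only [Matrix.mul_assoc]
      _ = A'⁻¹ᵀ * (A'ᵀ * S' * A') * A'⁻¹ := by rw [hAS, hEE, hAS']
      _ = (A'⁻¹ᵀ * A'ᵀ) * S' * (A' * A'⁻¹) := by simp only [Matrix.mul_assoc]
      _ = S' := by rw [hinv1, hinv2, Matrix.one_mul, Matrix.mul_one]

end Cfsg.Agent.Lib.Helper90.OrtCONG
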