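import Mathlib
import Cfsg.Agent.Lib.Helper37.OrtStmt

/-!
S5981 piece DIAGR (helper90, second seat): over a finite field with `r ∣ q - 1`, a matrix with
`x ^ r = 1` is diagonalizable, with eigenvalues powers of an element `ω` of order `r`.
-/

set_option autoImplicit false

universe u

namespace Cfsg.Agent.Lib.Helper90.OrtDIAGR

open Cfsg.Agent.Lib.Helper37

theorem ker_prod {F : Type u} {V : Type*} [Field F] [AddCommGroup V] [Module F V]
    (f : Module.End F V) (s : Finset F) :
    LinearMap.ker (Polynomial.aeval f (∏ ζ ∈ s, (Polynomial.X - Polynomial.C ζ))) =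
      ⨆ ζ ∈ s, Module.End.eigenspace f ζ := by
  classical
  induction s using Finset.induction_on with
  | empty =>
    simp only [Finset.prod_empty, map_one, Finset.notMem_empty, iSup_false, iSup_bot]
    exact LinearMap.ker_id
  | insert a s ha ih =>
    rw [Finset.prod_insert ha, ← Polynomial.sup_ker_aeval_eq_ker_aeval_mul_of_coprime, ih,
      Finset.iSup_insert]
    · congr 1
      rw [Module.End.eigenspace_def]
      congr 1
      simp [Algebra.algebraMap_eq_smul_one]
    · apply IsCoprime.prod_right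
      intro ζ hζ
      apply Polynomial.isCoprime_X_sub_C_of_isUnit_sub
      have hne : a ≠ ζ := fun h => ha (h ▸ hζ)
      exact (sub_ne_zero.mpr hne).isUnit

theorem main : OrtStmt.DiagR.{u} := by
  intro F _ _ r _ hr n x hx
  classical
  have hrp : r.Prime := Fact.out
  have hcardU : Nat.card Fˣ = Fintype.card F - 1 := by
    rw [Nat.card_eq_fintype_card, Fintype.card_units]
  obtain ⟨ω', hω'⟩ := exists_prime_orderOf_dvd_card' (G := Fˣ) r (by rw [hcardU]; exact hr)
  have hω : orderOf (ω' : F) = r := by rw [orderOf_units]; exact hω'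
  have hprim : IsPrimitiveRoot (ω' : F) r := by rw [← hω]; exact IsPrimitiveRoot.orderOf _
  obtain ⟨f, hf⟩ : ∃ f : Module.End F (Fin n → F), f = Matrix.toLinAlgEquiv' x := ⟨_, rfl⟩
  have hfr : f ^ r = 1 := by rw [hf, ← map_pow, hx, map_one]
  have hfv : ∀ v : Fin n → F, f v = x.mulVec v := by
    intro v; rw [hf]; rfl
  have hker : (⨆ ζ, Module.End.eigenspace f ζ) = ⊤ := by
    have h1 : Polynomial.aeval f (Polynomial.X ^ r - 1 : Polynomial F) = 0 := by simp [hfr]
    have h2 := ker_prod f (Polynomial.nthRootsFinset r (1 : F))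
    rw [← Polynomial.X_pow_sub_one_eq_prod hrp.pos hprim, h1] at h2
    rw [LinearMap.ker_zero] at h2
    apply le_antisymm le_top
    rw [h2]
    exact iSup₂_le (fun ζ _ => le_iSup (fun ζ => Module.End.eigenspace f ζ) ζ)
  have hind := Module.End.eigenspaces_iSupIndep f
  have hint := DirectSum.isInternal_submodule_of_iSupIndep_of_iSup_eq_top hind hker
  obtain ⟨b, hb⟩ : ∃ b : Module.Basis (Σ μ : F, Fin (Module.finrank F (Module.End.eigenspace f μ)))
      F (Fin n → F), b = hint.collectedBasis
        (fun μ => Module.finBasis F (Module.End.eigenspace f μ)) := ⟨_, rfl⟩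
  have hcard : Fintype.card (Σ μ : F, Fin (Module.finrank F (Module.End.eigenspace f μ))) = n := by
    rw [← Module.finrank_eq_card_basis b]; simp
  obtain ⟨ε, -⟩ : ∃ ε : (Σ μ : F, Fin (Module.finrank F (Module.End.eigenspace f μ))) ≃ Fin n,
      ε = ε := ⟨Fintype.equivFinOfCardEq hcard, rfl⟩
  obtain ⟨b', hb'⟩ : ∃ b' : Module.Basis (Fin n) F (Fin n → F), b' = b.reindex ε := ⟨_, rfl⟩
  have hbe : ∀ j, f (b' j) = (ε.symm j).1 • b' j := by
    intro j
    have hmem : b' j ∈ Module.End.eigenspace f (ε.symm j).1 := by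
      rw [hb', Module.Basis.reindex_apply, hb]
      exact hint.collectedBasis_mem _ _
    exact Module.End.mem_eigenspace_iff.mp hmem
  have hlam : ∀ j, ∃ k : ℕ, k < r ∧ (ω' : F) ^ k = (ε.symm j).1 := by
    intro j
    have hne : b' j ≠ 0 := b'.ne_zero j
    have hpow : ∀ m : ℕ, (f ^ m) (b' j) = (ε.symm j).1 ^ m • b' j := by
      intro m
      induction m with
      | zero => simp
      | succ m ih =>
        rw [pow_succ, Module.End.mul_apply, hbe j, map_smul, ih, smul_smul, pow_succ, mul_comm]
    have h1 := hpow r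
    rw [hfr, Module.End.one_apply] at h1
    have h2 : ((ε.symm j).1 ^ r - 1) • b' j = 0 := by
      rw [sub_smul, one_smul, ← h1, sub_self]
    have h3 : (ε.symm j).1 ^ r = 1 := by
      rcases smul_eq_zero.mp h2 with h | h
      · exact sub_eq_zero.mp h
      · exact absurd h hne
    have : NeZero r := ⟨hrp.ne_zero⟩
    exact hprim.eq_pow_of_pow_eq_one h3
  choose k hk1 hk2 using hlam
  refine ⟨(Pi.basisFun F (Fin n)).toMatrix b', (ω' : F), fun j => (k j : ZMod r), ?_, hω, ?_⟩
  · intro h0
    have h1 := Module.Basis.toMatrix_mul_toMatrix_flip (Pi.basisFun F (Fin n)) b'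
    have h2 := congrArg Matrix.det h1
    rw [Matrix.det_mul, h0, zero_mul, Matrix.det_one] at h2
    exact zero_ne_one h2
  · ext i j
    rw [Matrix.mul_diagonal]
    have h1 : ((k j : ZMod r)).val = k j := ZMod.val_natCast_of_lt (hk1 j)
    rw [h1, hk2 j]
    have h2 := congrFun (hbe j) i
    rw [hfv] at h2
    simp only [Module.Basis.toMatrix_apply, Pi.basisFun_repr]
    rw [Matrix.mul_apply]
    simp only [Module.Basis.toMatrix_apply, Pi.basisFun_repr]
    rw [Matrix.mulVec, dotProduct] at h2
    rw [h2, Pi.smul_apply, smul_eq_mul, mul_comm]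

end Cfsg.Agent.Lib.Helper90.OrtDIAGR
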