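import Mathlib
import Cfsg.Agent.Lib.Helper7.ReeSolvStmt

set_option autoImplicit false

/-! Piece S2361/OMEGA: the number of Sylow 2-subgroups containing a subgroup `F` of order 4 is
prime to 3. -/

namespace Cfsg.Agent.Lib.Helper90.RSOMEGA

open Cfsg.Agent.Lib.Helper7.ReeSolvStmt
open scoped Pointwise

universe u

theorem main : Omega.{u} := by
  intro G _ _ hexp hc3 F hF h3
  obtain ⟨C, hCdef⟩ : ∃ C, C = Subgroup.centralizer (F : Set G) := ⟨_, rfl⟩
  have hinv : ∀ P : Sylow 2 G, ∀ x ∈ (P : Subgroup G), x ^ 2 = 1 := by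
    intro P x hx
    apply hexp
    obtain ⟨k, hk⟩ := P.isPGroup' ⟨x, hx⟩
    refine ⟨k, ?_⟩
    have h1 := congrArg Subtype.val hk
    rw [Subgroup.coe_pow] at h1
    exact h1
  have hPC : ∀ P : Sylow 2 G, F ≤ (P : Subgroup G) → (P : Subgroup G) ≤ C := by
    intro P hFP x hx
    rw [hCdef, Subgroup.mem_centralizer_iff]
    intro f hf
    have h1 := hinv P x hx
    have h2 := hinv P f (hFP hf)
    have h4 := hinv P (f * x) (mul_mem (hFP hf) hx)
    rw [sq] at h1 h2 h4
    have hx' : x⁻¹ = x := (eq_inv_of_mul_eq_one_left h1).symm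
    have hf' : f⁻¹ = f := (eq_inv_of_mul_eq_one_left h2).symm
    have h5 : f * x = (f * x)⁻¹ := eq_inv_of_mul_eq_one_left h4
    rw [mul_inv_rev, hx', hf'] at h5
    exact h5
  have hFp : IsPGroup 2 F := IsPGroup.of_card (n := 2) (by rw [hF]; norm_num)
  obtain ⟨P₀, hP₀⟩ := hFp.exists_le_sylow
  have hset : {P : Sylow 2 G | F ≤ (P : Subgroup G)} = MulAction.orbit ↥C P₀ := by
    ext P
    rw [MulAction.mem_orbit_iff]
    constructor
    · intro hP
      obtain ⟨h, hh⟩ := MulAction.exists_smul_eq ↥C (P₀.subtype (hPC P₀ hP₀))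
        (P.subtype (hPC P hP))
      rw [Sylow.smul_subtype] at hh
      exact ⟨h, Sylow.subtype_injective hh⟩
    · rintro ⟨h, rfl⟩
      intro f hf
      show f ∈ ((h • P₀ : Sylow 2 G) : Subgroup G)
      rw [Subgroup.smul_def, Sylow.coe_subgroup_smul,
        Subgroup.mem_pointwise_smul_iff_inv_smul_mem]
      have hcomm : f * (h : G) = (h : G) * f := by
        have h1 : (h : G) ∈ Subgroup.centralizer (F : Set G) := hCdef.le h.2
        rw [Subgroup.mem_centralizer_iff] at h1
        exact h1 f hf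
      have h2 : (MulAut.conj (h : G))⁻¹ • f = f := by
        rw [MulAut.smul_def, MulAut.conj_inv_apply, mul_assoc, hcomm, inv_mul_cancel_left]
      rw [h2]
      exact hP₀ hf
  have hcard : Nat.card {P : Sylow 2 G // F ≤ (P : Subgroup G)}
      = (MulAction.orbit ↥C P₀).ncard := by
    rw [← hset]
    exact Nat.card_coe_set_eq _
  rw [hcard, ← MulAction.index_stabilizer] at h3
  have h4 : 3 ∣ Nat.card ↥C := h3.trans (Subgroup.index_dvd_card _)
  have hf3 : Fact (Nat.Prime 3) := ⟨Nat.prime_three⟩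
  obtain ⟨y, hy⟩ := exists_prime_orderOf_dvd_card' 3 h4
  have hy3 : (y : G) ^ 3 = 1 := by
    have h5 := pow_orderOf_eq_one y
    rw [hy] at h5
    have h6 := congrArg Subtype.val h5
    rw [Subgroup.coe_pow] at h6
    exact h6
  have hyC : (y : G) ∈ Subgroup.centralizer (F : Set G) := hCdef.le y.2
  have hy1 := hc3 F hF (y : G) hyC hy3
  have hy1' : y = 1 := Subtype.ext hy1
  rw [hy1', orderOf_one] at hy
  omega

end Cfsg.Agent.Lib.Helper90.RSOMEGA
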