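import Mathlib
import Cfsg.Agent.Lib.Helper45.S8Stmt
import Cfsg.Agent.Lib.Helper91.S8LINORD

/-!
S3589 piece P4 (helper90, second seat): `(x₁, y₁, x₂, y₂) ↦ (y₂, x₂, x₁, y₁)` is an isometry of
order 4 of the hyperbolic form on `H²`.
-/

set_option autoImplicit false

universe u

namespace Cfsg.Agent.Lib.Helper90.S8P4

open Cfsg.Agent.Lib.Helper45

/-- the 4-cycle `inl 0 → inr 1 → inr 0 → inl 1 → inl 0` -/
def sig4 : Fin 2 ⊕ Fin 2 → Fin 2 ⊕ Fin 2 :=
  Sum.elim (fun i => if i = 0 then Sum.inr 1 else Sum.inl 0)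
    (fun i => if i = 0 then Sum.inl 1 else Sum.inr 0)

theorem sig4_pow4 : ∀ x, sig4 (sig4 (sig4 (sig4 x))) = x := by decide

/-- `sig4` as a permutation -/
def perm4 : Equiv.Perm (Fin 2 ⊕ Fin 2) where
  toFun := sig4
  invFun := fun x => sig4 (sig4 (sig4 x))
  left_inv := by
    intro x
    revert x
    decide
  right_inv := sig4_pow4

theorem main : S8Stmt.P4.{u} := by
  intro F _
  obtain ⟨X, hX⟩ : ∃ X : (Fin 2 ⊕ Fin 2 → F) ≃ₗ[F] (Fin 2 ⊕ Fin 2 → F),
      ∀ v i, X v i = v (sig4 i) := ⟨LinearEquiv.funCongrLeft F F perm4, fun v i => rfl⟩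
  have hQ : ∀ v, Cfsg.quadFormPlus 2 F (X v) = Cfsg.quadFormPlus 2 F v := by
    intro v
    unfold Cfsg.quadFormPlus
    rw [Fin.sum_univ_two, Fin.sum_univ_two]
    simp only [hX]
    have e1 : sig4 (Sum.inl 0) = Sum.inr 1 := by decide
    have e2 : sig4 (Sum.inr 0) = Sum.inl 1 := by decide
    have e3 : sig4 (Sum.inl 1) = Sum.inl 0 := by decide
    have e4 : sig4 (Sum.inr 1) = Sum.inr 0 := by decide
    rw [e1, e2, e3, e4]
    ring
  have h := Cfsg.Agent.Lib.Helper91.S8LINORD.main.{u} F (Fin 2 ⊕ Fin 2) (Cfsg.quadFormPlus 2 F) X hQ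
  have hord : orderOf X = 2 ^ (1 + 1) := by
    apply orderOf_eq_prime_pow
    · intro h2
      have h3 := congrArg (fun Y : (Fin 2 ⊕ Fin 2 → F) ≃ₗ[F] (Fin 2 ⊕ Fin 2 → F) =>
        Y (Pi.single (Sum.inl 0) 1) (Sum.inr 0)) h2
      simp only [pow_one, pow_two, LinearEquiv.mul_apply, hX, LinearEquiv.coe_one, id_eq] at h3
      have e1 : sig4 (sig4 (Sum.inr 0)) = Sum.inl 0 := by decide
      rw [e1] at h3
      simp at h3
    · apply LinearEquiv.ext
      intro v
      funext i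
      have e : (2 : ℕ) ^ (1 + 1) = 4 := by norm_num
      rw [e]
      have e4 : X ^ 4 = X * X * X * X := by
        rw [pow_succ, pow_succ, pow_succ, pow_one]
      rw [e4]
      simp only [LinearEquiv.mul_apply, hX, LinearEquiv.coe_one, id_eq]
      rw [sig4_pow4]
  rw [hord] at h
  exact h

end Cfsg.Agent.Lib.Helper90.S8P4
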