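import Mathlib
import Cfsg.Agent.Lib.Helper44.SPStmt

set_option autoImplicit false

/-! Piece S2720/EVEN: a space with an isometry of odd order without fixed vectors has even
dimension.  Also the shared matrix core `alt_core` about `A = (N + Nᵀ) (s - s⁻¹)`. -/

namespace Cfsg.Agent.Lib.Helper90.SPEVEN

open Matrix Polynomial
open Cfsg.Agent.Lib.Helper44.SPStmt

universe u

variable {F : Type u} [Field F] {ι : Type} [Fintype ι] [DecidableEq ι]

theorem det_ne_zero_of_inj' {M : Matrix ι ι F} (h : ∀ v, M *ᵥ v = 0 → v = 0) : M.det ≠ 0 := by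
  intro h0
  obtain ⟨v, hv, hMv⟩ := Matrix.exists_mulVec_eq_zero_iff.mpr h0
  exact hv (h v hMv)

theorem pow_mulVec_neg' {S : Matrix ι ι F} {v : ι → F} (h : S *ᵥ v = -v) (n : ℕ) :
    (S ^ n) *ᵥ v = (-1 : F) ^ n • v := by
  induction n with
  | zero => rw [pow_zero, Matrix.one_mulVec, pow_zero, one_smul]
  | succ n ih =>
    rw [pow_succ, ← Matrix.mulVec_mulVec, h, Matrix.mulVec_neg, ih, pow_succ, mul_neg, mul_one,
      neg_smul]

/-- The alternating matrix `A = (N + Nᵀ) (s - s⁻¹)`. -/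
theorem alt_core (h2 : (2 : F) ≠ 0) {s N : Matrix ι ι F} (hs : sᵀ * N * s = N)
    (hN : (N + Nᵀ).det ≠ 0) {r : ℕ} (hr : Odd r) (hsr : s ^ r = 1)
    (hfix : ∀ v : ι → F, s *ᵥ v = v → v = 0) :
    ∃ T : Matrix ι ι F, s * T = 1 ∧ T * s = 1 ∧
      ((N + Nᵀ) * (s - T))ᵀ = -((N + Nᵀ) * (s - T)) ∧
      ((N + Nᵀ) * (s - T)).det ≠ 0 ∧
      ((N + Nᵀ) * (s - T)).det = (N + Nᵀ).det * (T.det * ((s - 1).det * (s + 1).det)) ∧
      s.det = 1 := by
  obtain ⟨m, hm⟩ := hr
  have hST0 : s * s ^ (2 * m) = 1 := by rw [← pow_succ', ← hm, hsr]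
  have hTS0 : s ^ (2 * m) * s = 1 := by rw [← pow_succ, ← hm, hsr]
  obtain ⟨T, hT⟩ : ∃ T, T = s ^ (2 * m) := ⟨_, rfl⟩
  rw [← hT] at hST0 hTS0
  refine ⟨T, hST0, hTS0, ?_⟩
  obtain ⟨B, hB⟩ : ∃ B, B = N + Nᵀ := ⟨_, rfl⟩
  rw [← hB] at hN ⊢
  have hBT : Bᵀ = B := by
    rw [hB, Matrix.transpose_add, Matrix.transpose_transpose, add_comm]
  have hSB : sᵀ * B * s = B := by
    have h1 : sᵀ * Nᵀ * s = Nᵀ := by
      have h := congrArg Matrix.transpose hs
      rw [Matrix.transpose_mul, Matrix.transpose_mul, Matrix.transpose_transpose,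
        ← mul_assoc] at h
      exact h
    rw [hB, Matrix.mul_add, Matrix.add_mul, hs, h1]
  have h1 : sᵀ * B = B * T := by
    calc sᵀ * B = sᵀ * B * (s * T) := by rw [hST0, mul_one]
      _ = (sᵀ * B * s) * T := by rw [mul_assoc, mul_assoc, mul_assoc]
      _ = B * T := by rw [hSB]
  have h3 : Tᵀ * sᵀ = 1 := by rw [← Matrix.transpose_mul, hST0, Matrix.transpose_one]
  have h4 : Tᵀ * B = B * s := by
    calc Tᵀ * B = Tᵀ * (sᵀ * B * s) := by rw [hSB]
      _ = (Tᵀ * sᵀ) * B * s := by rw [mul_assoc, mul_assoc, mul_assoc]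
      _ = B * s := by rw [h3, one_mul]
  have hAT : (B * (s - T))ᵀ = -(B * (s - T)) := by
    rw [Matrix.transpose_mul, Matrix.transpose_sub, hBT, Matrix.sub_mul, h1, h4, Matrix.mul_sub,
      neg_sub]
  have hTdet : T.det ≠ 0 := by
    intro h0
    have h5 := congrArg Matrix.det hST0
    rw [Matrix.det_mul, h0, mul_zero, Matrix.det_one] at h5
    exact zero_ne_one h5
  have hS1 : (s - 1).det ≠ 0 := by
    apply det_ne_zero_of_inj'
    intro v hv
    apply hfix
    rw [Matrix.sub_mulVec, Matrix.one_mulVec, sub_eq_zero] at hv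
    exact hv
  have hr' : Odd r := ⟨m, hm⟩
  have hS2 : (s + 1).det ≠ 0 := by
    apply det_ne_zero_of_inj'
    intro v hv
    rw [Matrix.add_mulVec, Matrix.one_mulVec, add_eq_zero_iff_eq_neg] at hv
    have h5 := pow_mulVec_neg' hv r
    rw [hsr, Matrix.one_mulVec, hr'.neg_one_pow, neg_smul, one_smul] at h5
    have h6 : (2 : F) • v = 0 := by
      rw [two_smul]
      nth_rewrite 1 [h5]
      exact neg_add_cancel v
    rcases smul_eq_zero.mp h6 with h | h
    · exact absurd h h2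
    · exact h
  have hfac : s - T = T * ((s - 1) * (s + 1)) := by
    have h5 : (s - 1) * (s + 1) = s * s - 1 := by
      rw [Matrix.sub_mul, Matrix.mul_add, Matrix.mul_add, mul_one, one_mul, mul_one]
      abel
    rw [h5, Matrix.mul_sub, ← mul_assoc, hTS0, one_mul, mul_one]
  have hdetA : (B * (s - T)).det = B.det * (T.det * ((s - 1).det * (s + 1).det)) := by
    rw [Matrix.det_mul, hfac, Matrix.det_mul, Matrix.det_mul]
  have hsdet : s.det = 1 := by
    have h5 := congrArg Matrix.det hSB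
    rw [Matrix.det_mul, Matrix.det_mul, Matrix.det_transpose] at h5
    have h6 : s.det * s.det = 1 := by
      have h7 : B.det * (s.det * s.det) = B.det * 1 := by rw [mul_one]; linear_combination h5
      exact mul_left_cancel₀ hN h7
    have h8 := congrArg Matrix.det hsr
    rw [Matrix.det_pow, Matrix.det_one, hm, pow_succ, pow_mul, sq, h6, one_pow, one_mul] at h8
    exact h8
  refine ⟨hAT, ?_, hdetA, hsdet⟩
  rw [hdetA]
  exact mul_ne_zero hN (mul_ne_zero hTdet (mul_ne_zero hS1 hS2))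

theorem main : EvenCard.{u} := by
  intro F _ ι _ _ s N h2 hs hN r hr hsr hfix
  obtain ⟨T, -, -, hAT, hdet, -, -⟩ := alt_core h2 hs hN hr hsr hfix
  have h1 := congrArg Matrix.det hAT
  rw [Matrix.det_transpose, Matrix.det_neg] at h1
  by_contra hodd
  rw [Nat.not_even_iff_odd] at hodd
  rw [hodd.neg_one_pow] at h1
  have h3 : (2 : F) * ((N + Nᵀ) * (s - T)).det = 0 := by linear_combination h1
  rcases mul_eq_zero.mp h3 with h | h
  · exact h2 h
  · exact hdet h

end Cfsg.Agent.Lib.Helper90.SPEVEN
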