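import Mathlib
import Cfsg.Agent.Lib.Helper44.SPStmt

set_option autoImplicit false

/-! Piece S2720/NOFX: no nonzero fixed vector iff `X - 1` does not divide the characteristic
polynomial. -/

namespace Cfsg.Agent.Lib.Helper90.SPNOFX

open Matrix Polynomial
open Cfsg.Agent.Lib.Helper44.SPStmt

universe u

theorem main : NoFixIff.{u} := by
  intro F _ ι _ _ S
  rw [Polynomial.dvd_iff_isRoot, Polynomial.IsRoot.def, Matrix.eval_charpoly]
  have h1 : (Matrix.scalar ι (1 : F) - S) = 1 - S := by simp
  rw [h1]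
  constructor
  · intro h hdet
    obtain ⟨v, hv, hv0⟩ := Matrix.exists_mulVec_eq_zero_iff.mpr hdet
    apply hv
    apply h
    rw [Matrix.sub_mulVec, Matrix.one_mulVec, sub_eq_zero] at hv0
    exact hv0.symm
  · intro hdet v hv
    by_contra hv0
    apply hdet
    apply Matrix.exists_mulVec_eq_zero_iff.mp
    refine ⟨v, hv0, ?_⟩
    rw [Matrix.sub_mulVec, Matrix.one_mulVec, hv, sub_self]

end Cfsg.Agent.Lib.Helper90.SPNOFX
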