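import Mathlib
import Cfsg.Agent.Lib.Helper39.TLStmt

/-!
S4404 piece CONJ (helper90, second seat): conjugates of reflections are reflections.
-/

set_option autoImplicit false

universe u

namespace Cfsg.Agent.Lib.Helper90.TLCONJ

open Cfsg.Agent.Lib.Helper39.TLStmt

theorem main : Conj.{u} := by
  intro S _ M hMn y W g hR
  have hnorm : ∀ m ∈ M, g⁻¹ * m * g ∈ M := by
    intro m hm
    have := hMn.conj_mem m hm g⁻¹
    simpa using this
  refine ⟨?_, ?_, ?_, ?_, ?_⟩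
  · rw [Subgroup.mem_centralizer_iff]
    intro m hm
    have h1 := hR.cube
    rw [Subgroup.mem_centralizer_iff] at h1
    have h2 := h1 (g⁻¹ * m * g) (hnorm m hm)
    have e : (g * y * g⁻¹) ^ 3 = g * y ^ 3 * g⁻¹ := by
      rw [conj_pow]
    rw [e]
    calc m * (g * y ^ 3 * g⁻¹) = g * ((g⁻¹ * m * g) * y ^ 3) * g⁻¹ := by group
      _ = g * (y ^ 3 * (g⁻¹ * m * g)) * g⁻¹ := by rw [h2]
      _ = g * y ^ 3 * g⁻¹ * m := by group
  · rintro w ⟨w₀, hw₀, rfl⟩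
    exact hMn.conj_mem w₀ (hR.le hw₀) g
  · rw [Subgroup.card_map_of_injective (MulAut.conj g).injective]
    exact hR.card
  · intro m hm
    refine ⟨y * (g⁻¹ * m * g) * y⁻¹ * (g⁻¹ * m * g)⁻¹, hR.comm _ (hnorm m hm), ?_⟩
    simp only [MulEquiv.coe_toMonoidHom, MulAut.conj_apply]
    group
  · rintro w ⟨w₀, hw₀, rfl⟩ hfix
    simp only [MulEquiv.coe_toMonoidHom, MulAut.conj_apply] at hfix ⊢
    have h1 : y * w₀ * y⁻¹ = w₀ := by
      have h2 : g⁻¹ * (g * y * g⁻¹ * (g * w₀ * g⁻¹) * (g * y * g⁻¹)⁻¹) * g = g⁻¹ * (g * w₀ * g⁻¹) * g := by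
        rw [hfix]
      have h3 : g⁻¹ * (g * y * g⁻¹ * (g * w₀ * g⁻¹) * (g * y * g⁻¹)⁻¹) * g = y * w₀ * y⁻¹ := by group
      have h4 : g⁻¹ * (g * w₀ * g⁻¹) * g = w₀ := by group
      rw [← h3, h2, h4]
    rw [hR.fix w₀ hw₀ h1]
    group
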